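import Mathlib

/-!
Root elements inside a subgroup of `SL_n`, regular unipotent matrices along a path, and
their monomial conjugates; used to generate `SL_n(F)` by regular unipotent elements.
-/

set_option autoImplicit false

namespace Cfsg.Agent.Lib.KnownSimple

open Matrix

variable {F : Type*} [Field F] {n : ℕ}

/-- The matrix `1 + a ⊗ φ`. -/
def Tm (a φ : Fin n → F) : Matrix (Fin n) (Fin n) F := 1 + Matrix.vecMulVec a φ

/-- The standard vector, indexed by `ℕ`. -/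
def eN (n : ℕ) (i : ℕ) : Fin n → F := fun x => if (x : ℕ) = i then 1 else 0

theorem eN_eq_single {i : ℕ} (hi : i < n) : (eN n i : Fin n → F) = Pi.single ⟨i, hi⟩ 1 := by
  funext x
  simp only [eN, Pi.single_apply, Fin.ext_iff]

theorem eN_dot {i j : ℕ} (hi : i < n) :
    (eN n i : Fin n → F) ⬝ᵥ eN n j = if i = j then 1 else 0 := by
  rw [eN_eq_single hi, single_dotProduct, one_mul]
  rfl

theorem eN_dot_ne {i j : ℕ} (hi : i < n) (h : i ≠ j) : (eN n i : Fin n → F) ⬝ᵥ eN n j = 0 := by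
  rw [eN_dot hi, if_neg h]

theorem eN_dot_self {i : ℕ} (hi : i < n) : (eN n i : Fin n → F) ⬝ᵥ eN n i = 1 := by
  rw [eN_dot hi, if_pos rfl]

theorem Tm_mulVec (a φ x : Fin n → F) : Tm a φ *ᵥ x = x + (φ ⬝ᵥ x) • a := by
  rw [Tm, Matrix.add_mulVec, Matrix.one_mulVec, Matrix.vecMulVec_mulVec, op_smul_eq_smul]

theorem vecMul_Tm (a φ y : Fin n → F) : y ᵥ* Tm a φ = y + (y ⬝ᵥ a) • φ := by
  rw [Tm, Matrix.vecMul_add, Matrix.vecMul_one, Matrix.vecMul_vecMulVec]

theorem Tm_smul (c : F) (a φ : Fin n → F) : Tm (c • a) φ = Tm a (c • φ) := by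
  rw [Tm, Tm, Matrix.smul_vecMulVec, Matrix.vecMulVec_smul]

theorem Tm_mul (a b φ ψ : Fin n → F) (h : φ ⬝ᵥ b = 0) :
    Tm a φ * Tm b ψ = 1 + Matrix.vecMulVec a φ + Matrix.vecMulVec b ψ := by
  simp only [Tm, mul_add, add_mul, one_mul, mul_one]
  rw [Matrix.vecMulVec_mul_vecMulVec, h, zero_smul, Matrix.vecMulVec_zero, add_zero]

theorem Tm_mul_left (a b φ : Fin n → F) (h : φ ⬝ᵥ b = 0) : Tm a φ * Tm b φ = Tm (a + b) φ := by
  rw [Tm_mul a b φ φ h, Tm, Matrix.add_vecMulVec, add_assoc]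

theorem Tm_mul_right (a φ ψ : Fin n → F) (h : φ ⬝ᵥ a = 0) : Tm a φ * Tm a ψ = Tm a (φ + ψ) := by
  rw [Tm_mul a a φ ψ h, Tm, Matrix.vecMulVec_add, add_assoc]

theorem Tm_zero_left (φ : Fin n → F) : Tm 0 φ = 1 := by
  rw [Tm, Matrix.zero_vecMulVec, add_zero]

theorem Tm_conj {g g' : Matrix (Fin n) (Fin n) F} (h : g * g' = 1) (a φ : Fin n → F) :
    g * Tm a φ * g' = Tm (g *ᵥ a) (φ ᵥ* g') := by
  rw [Tm, Tm, mul_add, add_mul, mul_one, h, Matrix.mul_vecMulVec, Matrix.vecMulVec_mul]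

variable (H : Subgroup (Matrix.SpecialLinearGroup (Fin n) F))

/-- The matrix `M` represents an element of `H`. -/
def InH (M : Matrix (Fin n) (Fin n) F) : Prop := ∃ h ∈ H, ((h : Matrix.SpecialLinearGroup (Fin n) F) : Matrix (Fin n) (Fin n) F) = M

variable {H}

theorem InH.mul {M N : Matrix (Fin n) (Fin n) F} (hM : InH H M) (hN : InH H N) : InH H (M * N) := by
  obtain ⟨a, ha, rfl⟩ := hM
  obtain ⟨b, hb, rfl⟩ := hN
  exact ⟨a * b, H.mul_mem ha hb, Matrix.SpecialLinearGroup.coe_mul a b⟩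

theorem InH.one : InH H 1 := ⟨1, H.one_mem, Matrix.SpecialLinearGroup.coe_one⟩

theorem InH.of_mul_eq_one {M N : Matrix (Fin n) (Fin n) F} (hM : InH H M) (h : M * N = 1) : InH H N := by
  obtain ⟨a, ha, rfl⟩ := hM
  refine ⟨a⁻¹, H.inv_mem ha, ?_⟩
  calc ((a⁻¹ : Matrix.SpecialLinearGroup (Fin n) F) : Matrix (Fin n) (Fin n) F)
      = ((a⁻¹ : Matrix.SpecialLinearGroup (Fin n) F) : Matrix (Fin n) (Fin n) F) * ((a : Matrix (Fin n) (Fin n) F) * N) := by
        rw [h, mul_one]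
    _ = N := by
        rw [← mul_assoc, ← Matrix.SpecialLinearGroup.coe_mul, inv_mul_cancel,
          Matrix.SpecialLinearGroup.coe_one, one_mul]

theorem InH.neg_left {a φ : Fin n → F} (hM : InH H (Tm a φ)) (h : φ ⬝ᵥ a = 0) : InH H (Tm (-a) φ) :=
  hM.of_mul_eq_one (by rw [Tm_mul_left _ _ _ (by rw [dotProduct_neg, h, neg_zero]), add_neg_cancel, Tm_zero_left])

/-- Conjugation by an element of `H`. -/
theorem InH.conj {g : Matrix.SpecialLinearGroup (Fin n) F} (hg : g ∈ H) {a φ : Fin n → F}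
    (hM : InH H (Tm a (φ ᵥ* (g : Matrix (Fin n) (Fin n) F)))) :
    InH H (Tm ((g : Matrix (Fin n) (Fin n) F) *ᵥ a) φ) := by
  have h := InH.mul (InH.mul (M := (g : Matrix (Fin n) (Fin n) F)) ⟨g, hg, rfl⟩ hM)
    (N := ((g⁻¹ : Matrix.SpecialLinearGroup (Fin n) F) : Matrix (Fin n) (Fin n) F))
    ⟨g⁻¹, H.inv_mem hg, rfl⟩
  rwa [Tm_conj (by rw [← Matrix.SpecialLinearGroup.coe_mul, mul_inv_cancel, Matrix.SpecialLinearGroup.coe_one]),
    Matrix.vecMul_vecMul, ← Matrix.SpecialLinearGroup.coe_mul, mul_inv_cancel,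
    Matrix.SpecialLinearGroup.coe_one, Matrix.vecMul_one] at h

/-- Conjugation by the inverse of an element of `H`. -/
theorem InH.conj' {g : Matrix.SpecialLinearGroup (Fin n) F} (hg : g ∈ H) {a φ : Fin n → F}
    (hM : InH H (Tm ((g : Matrix (Fin n) (Fin n) F) *ᵥ a) φ)) :
    InH H (Tm a (φ ᵥ* (g : Matrix (Fin n) (Fin n) F))) := by
  have h := InH.mul (InH.mul (M := ((g⁻¹ : Matrix.SpecialLinearGroup (Fin n) F) : Matrix (Fin n) (Fin n) F))
    ⟨g⁻¹, H.inv_mem hg, rfl⟩ hM) (N := (g : Matrix (Fin n) (Fin n) F)) ⟨g, hg, rfl⟩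
  rwa [Tm_conj (by rw [← Matrix.SpecialLinearGroup.coe_mul, inv_mul_cancel, Matrix.SpecialLinearGroup.coe_one]),
    Matrix.mulVec_mulVec, ← Matrix.SpecialLinearGroup.coe_mul, inv_mul_cancel,
    Matrix.SpecialLinearGroup.coe_one, Matrix.one_mulVec] at h

/-- The root element `1 + c E_{ij}` lies in `H`. -/
def HasRoot (H : Subgroup (Matrix.SpecialLinearGroup (Fin n) F)) (i j : ℕ) (c : F) : Prop :=
  InH H (Tm (c • eN n i) (eN n j))

theorem HasRoot.add {i j : ℕ} {c d : F} (hj : j < n) (hij : i ≠ j) (h : HasRoot H i j c)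
    (h' : HasRoot H i j d) : HasRoot H i j (c + d) := by
  have := h.mul h'
  rwa [Tm_mul_left _ _ _ (by rw [dotProduct_smul, eN_dot_ne hj (Ne.symm hij), smul_zero]), ← add_smul] at this

theorem HasRoot.zero {i j : ℕ} : HasRoot H i j 0 := by
  rw [HasRoot, zero_smul, Tm_zero_left]; exact InH.one

theorem HasRoot.neg {i j : ℕ} {c : F} (hj : j < n) (hij : i ≠ j) (h : HasRoot H i j c) :
    HasRoot H i j (-c) := by
  have := InH.neg_left h (by rw [dotProduct_smul, eN_dot_ne hj (Ne.symm hij), smul_zero])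
  rwa [← neg_smul] at this

/-- Commutator formula. -/
theorem HasRoot.comm {i j k : ℕ} {c d : F} (hi : i < n) (hj : j < n) (hk : k < n) (hij : i ≠ j) (hik : i ≠ k)
    (hkj : k ≠ j) (h : HasRoot H i k c) (h' : HasRoot H k j d) : HasRoot H i j (c * d) := by
  obtain ⟨g, hg, hge⟩ := h
  have h1 : InH H (Tm (d • (eN n k + c • eN n i)) (eN n j)) := by
    have := InH.conj hg (a := d • eN n k) (φ := eN n j) (by
      rw [hge, vecMul_Tm, dotProduct_smul, eN_dot_ne hj (Ne.symm hij), smul_zero, zero_smul, add_zero]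
      exact h')
    rwa [hge, Tm_mulVec, dotProduct_smul, eN_dot_self hk, smul_eq_mul, mul_one, ← smul_add] at this
  have h2 := (HasRoot.neg hj hkj h').mul h1
  rw [Tm_mul_left _ _ _ (by
    rw [dotProduct_smul, dotProduct_add, dotProduct_smul, eN_dot_ne hj (Ne.symm hkj),
      eN_dot_ne hj (Ne.symm hij)]
    simp)] at h2
  have e : (-d) • (eN n k : Fin n → F) + d • (eN n k + c • eN n i) = (c * d) • eN n i := by
    rw [smul_add, neg_smul, neg_add_cancel_left, smul_smul, mul_comm]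
  rw [e] at h2
  exact h2

/-- The unipotent matrix of the path `0 → 1 → ⋯` with labels `a`. -/
def pathMat (n : ℕ) (a : ℕ → F) : Matrix (Fin n) (Fin n) F :=
  fun i j => (if i = j then 1 else 0) + (if (i : ℕ) + 1 = (j : ℕ) then a i else 0)

theorem pathMat_det (a : ℕ → F) : (pathMat n a).det = 1 := by
  rw [Matrix.det_of_isUpperTriangular]
  · exact Finset.prod_eq_one fun i _ => by simp [pathMat]
  · intro i j hij
    have h : (j : ℕ) < (i : ℕ) := hij
    simp [pathMat, (ne_of_gt hij : i ≠ j), show (i : ℕ) + 1 ≠ (j : ℕ) by omega]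

/-- The regular unipotent element of the path. -/
def pathElt (n : ℕ) (a : ℕ → F) : Matrix.SpecialLinearGroup (Fin n) F := ⟨pathMat n a, pathMat_det a⟩

theorem pathMat_sub_one_pow (a : ℕ → F) (k : ℕ) (i j : Fin n) :
    ((pathMat n a - 1) ^ k) i j = if (i : ℕ) + k = (j : ℕ) then ∏ l ∈ Finset.Ico (i : ℕ) j, a l else 0 := by
  induction k generalizing i with
  | zero =>
    rw [pow_zero, Matrix.one_apply]
    by_cases h : i = j
    · subst h; simp
    · rw [if_neg h, if_neg]; simpa [Fin.ext_iff] using h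
  | succ k ih =>
    rw [pow_succ', Matrix.mul_apply]
    have hN : ∀ l, (pathMat n a - 1) i l = if (i : ℕ) + 1 = (l : ℕ) then a i else 0 := by
      intro l
      rw [Matrix.sub_apply, Matrix.one_apply, pathMat, add_sub_cancel_left]
    by_cases hl : (i : ℕ) + 1 < n
    · rw [Finset.sum_eq_single (⟨(i : ℕ) + 1, hl⟩ : Fin n) (fun l _ hne => by
        rw [hN, if_neg (fun e => hne (Fin.ext e.symm)), zero_mul]) (fun h => absurd (Finset.mem_univ _) h),
        hN, if_pos rfl, ih]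
      by_cases hc : (i : ℕ) + (k + 1) = (j : ℕ)
      · rw [if_pos hc, if_pos (by simp; omega), Finset.prod_eq_prod_Ico_succ_bot (show (i : ℕ) < j by omega)]
      · rw [if_neg hc, if_neg (by simp; omega), mul_zero]
    · rw [Finset.sum_eq_zero (fun l _ => by rw [hN, if_neg (by omega), zero_mul]), if_neg (by omega)]

theorem pathMat_regular (hn : 1 ≤ n) (a : ℕ → F) (ha : ∀ i, i + 1 < n → a i ≠ 0) :
    IsNilpotent (pathMat n a - 1) ∧ (pathMat n a - 1) ^ (n - 1) ≠ 0 := by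
  refine ⟨⟨n, ?_⟩, fun h => ?_⟩
  · ext i j
    rw [pathMat_sub_one_pow, if_neg (by omega), Matrix.zero_apply]
  · have h1 := congrFun (congrFun h ⟨0, by omega⟩) ⟨n - 1, by omega⟩
    rw [pathMat_sub_one_pow, if_pos (by simp), Matrix.zero_apply] at h1
    obtain ⟨l, hl, hl0⟩ := Finset.prod_eq_zero_iff.1 h1
    simp only [Finset.mem_Ico] at hl
    exact ha l (by omega) hl0

theorem pathMat_mulVec_zero (a : ℕ → F) : pathMat n a *ᵥ eN n 0 = eN n 0 := by
  rcases Nat.eq_zero_or_pos n with rfl | hn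
  · exact Subsingleton.elim _ _
  rw [eN_eq_single hn, Matrix.mulVec_single_one]
  funext x
  simp only [Matrix.col_apply, pathMat, Pi.single_apply, Fin.ext_iff]
  by_cases hx : (x : ℕ) = 0
  · simp [hx, Fin.ext_iff]
  · simp [hx, Fin.ext_iff]

theorem pathMat_mulVec_succ (a : ℕ → F) {k : ℕ} (hk : k + 1 < n) :
    pathMat n a *ᵥ eN n (k + 1) = eN n (k + 1) + a k • eN n k := by
  rw [eN_eq_single hk, Matrix.mulVec_single_one]
  funext x
  simp only [Matrix.col_apply, pathMat, Pi.add_apply, Pi.smul_apply, eN, smul_eq_mul, Pi.single_apply]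
  by_cases hx : (x : ℕ) = k
  · simp [hx, Fin.ext_iff]
  · simp [hx, Fin.ext_iff]

theorem vecMul_pathMat (a : ℕ → F) {k : ℕ} (hk : k < n) :
    (eN n k) ᵥ* pathMat n a = eN n k + a k • eN n (k + 1) := by
  rw [eN_eq_single hk, Matrix.single_one_vecMul]
  funext x
  simp only [Matrix.row_apply, pathMat, Pi.add_apply, Pi.smul_apply, eN, smul_eq_mul, Pi.single_apply,
    Fin.ext_iff]
  split_ifs <;> first | (exfalso; omega) | simp

/-- A monomial matrix along the cyclic shift. -/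
def shiftMat (n : ℕ) (d : ℕ → F) : Matrix (Fin n) (Fin n) F :=
  fun i j => if i = finRotate n j then d j else 0

theorem shiftMat_det (m : ℕ) (d : ℕ → F) :
    (shiftMat (m + 1) d).det = (-1) ^ m * ∏ i ∈ Finset.range (m + 1), d i := by
  have h : shiftMat (m + 1) d =
      (Matrix.diagonal (fun j : Fin (m + 1) => d j)).submatrix ⇑(finRotate (m + 1)).symm id := by
    ext i j
    simp only [shiftMat, Matrix.submatrix_apply, Matrix.diagonal_apply, id_eq]
    by_cases h : i = finRotate (m + 1) j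
    · subst h; rw [if_pos rfl, Equiv.symm_apply_apply, if_pos rfl]
    · rw [if_neg h, if_neg (fun h' => h (by rw [← h', Equiv.apply_symm_apply]))]
  rw [h, Matrix.det_permute, Matrix.det_diagonal, Equiv.Perm.sign_symm, sign_finRotate,
    Finset.prod_range (fun i => d i)]
  simp

theorem shiftMat_mulVec (d : ℕ → F) {k : ℕ} (hk : k + 1 < n) :
    shiftMat n d *ᵥ eN n k = d k • eN n (k + 1) := by
  rw [eN_eq_single (by omega), Matrix.mulVec_single_one]
  obtain ⟨m, rfl⟩ : ∃ m, n = m + 1 := ⟨n - 1, by omega⟩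
  funext x
  have : (finRotate (m + 1) ⟨k, by omega⟩ : ℕ) = k + 1 := by
    rw [coe_finRotate_of_ne_last]
    simp [Fin.ext_iff]; omega
  simp only [Matrix.col_apply, shiftMat, Pi.smul_apply, eN, smul_eq_mul, Fin.ext_iff, this, mul_ite,
    mul_one, mul_zero]

theorem vecMul_shiftMat_succ (d : ℕ → F) {k : ℕ} (hk : k + 1 < n) :
    (eN n (k + 1)) ᵥ* shiftMat n d = d k • eN n k := by
  rw [eN_eq_single hk, Matrix.single_one_vecMul]
  obtain ⟨m, rfl⟩ : ∃ m, n = m + 1 := ⟨n - 1, by omega⟩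
  funext x
  simp only [Matrix.row_apply, shiftMat, Pi.smul_apply, eN, smul_eq_mul, Fin.ext_iff]
  by_cases hx : (x : ℕ) = m
  · have : x = Fin.last m := Fin.ext hx
    subst this
    simp [show m ≠ k by omega]
  · rw [coe_finRotate_of_ne_last (fun h => hx (by rw [h]; rfl))]
    by_cases hxk : (x : ℕ) = k
    · simp [hxk]
    · simp [hxk, Ne.symm hxk]

theorem vecMul_shiftMat_zero (d : ℕ → F) (hn : 1 ≤ n) :
    (eN n 0) ᵥ* shiftMat n d = d (n - 1) • eN n (n - 1) := by
  rw [eN_eq_single (show 0 < n by omega), Matrix.single_one_vecMul]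
  obtain ⟨m, rfl⟩ : ∃ m, n = m + 1 := ⟨n - 1, by omega⟩
  funext x
  simp only [Matrix.row_apply, shiftMat, Pi.smul_apply, eN, smul_eq_mul, Fin.ext_iff, Nat.add_sub_cancel,
    mul_ite, mul_one, mul_zero]
  by_cases hx : (x : ℕ) = m
  · have : x = Fin.last m := Fin.ext hx
    subst this
    rw [finRotate_last, if_pos (by simp), if_pos hx, hx]
  · rw [coe_finRotate_of_ne_last (fun h => hx (by rw [h]; rfl)), if_neg hx, if_neg (by omega)]

theorem shiftMat_mulVec_last (d : ℕ → F) (hn : 1 ≤ n) :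
    shiftMat n d *ᵥ eN n (n - 1) = d (n - 1) • eN n 0 := by
  rw [eN_eq_single (show n - 1 < n by omega), Matrix.mulVec_single_one]
  obtain ⟨m, rfl⟩ : ∃ m, n = m + 1 := ⟨n - 1, by omega⟩
  funext x
  simp only [Matrix.col_apply, shiftMat, Pi.smul_apply, eN, smul_eq_mul, Nat.add_sub_cancel]
  rw [show (⟨m, by omega⟩ : Fin (m + 1)) = Fin.last m from rfl, finRotate_last]
  by_cases hx : (x : ℕ) = 0
  · simp [hx, Fin.ext_iff]
  · simp [hx, Fin.ext_iff]

end Cfsg.Agent.Lib.KnownSimple
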