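import Cfsg.Agent.Lib.KnownSimple.RootGeneration
import Cfsg.Agent.Lib.LinGroup.Generation
import Mathlib

/-!
Tools for generating `SL_{m+1}(F)` by two regular unipotent elements.

* `Gen.eq_top`: the standard regular unipotent element with a full root group in position
  `(m, 0)` generates everything; `Gen.full_of_scaling`: one root element suffices when a
  further element scales by a ring generator.
* `Data`: given the diagonal `μ`, strictly lower entries `A` and last row `b` of a lower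
  triangular matrix `W`, polynomials `R` subject to a recursion and one identity yield a
  matrix `g` with `U g U = W g`, so that `U⁻¹ W` is a conjugate of `U`.
-/

set_option autoImplicit false

namespace Cfsg.Agent.Lib.KnownSimple.TwoUnip

open Matrix Polynomial

variable {F : Type*} [Field F] {m : ℕ}

/-- The standard regular unipotent matrix. -/
abbrev UM (F : Type*) [Field F] (m : ℕ) : Matrix (Fin (m + 1)) (Fin (m + 1)) F :=
  pathMat (m + 1) (fun _ => (1 : F))

/-- The standard regular unipotent element. -/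
abbrev UE (F : Type*) [Field F] (m : ℕ) : Matrix.SpecialLinearGroup (Fin (m + 1)) F :=
  pathElt (m + 1) (fun _ => (1 : F))

/-- The standard vectors of `F^(m+1)`. -/
abbrev e (F : Type*) [Field F] (m i : ℕ) : Fin (m + 1) → F := eN (m + 1) i

theorem e_out {i : ℕ} (hi : m + 1 ≤ i) : e F m i = 0 := by
  funext x
  simp only [e, eN, Pi.zero_apply]
  rw [if_neg (by omega)]

theorem e_dot (i : ℕ) (hi : i < m + 1) (v : Fin (m + 1) → F) : e F m i ⬝ᵥ v = v ⟨i, hi⟩ := by
  rw [e, eN_eq_single hi, single_dotProduct, one_mul]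

theorem dot_e (i : ℕ) (hi : i < m + 1) (v : Fin (m + 1) → F) : v ⬝ᵥ e F m i = v ⟨i, hi⟩ := by
  rw [dotProduct_comm, e_dot i hi]

theorem UM_pow (k : ℕ) (i j : Fin (m + 1)) :
    (UM F m ^ k) i j = if (i : ℕ) ≤ j then (Nat.choose k ((j : ℕ) - i) : F) else 0 := by
  induction k generalizing i with
  | zero =>
    rw [pow_zero, Matrix.one_apply]
    by_cases h : i = j
    · subst h; simp
    · rw [if_neg h]
      by_cases h' : (i : ℕ) ≤ j
      · rw [if_pos h', Nat.choose_eq_zero_of_lt (by have := Fin.val_ne_of_ne h; omega), Nat.cast_zero]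
      · rw [if_neg h']
  | succ k ih =>
    rw [pow_succ', Matrix.mul_apply]
    simp only [UM, pathMat, add_mul, ite_mul, one_mul, zero_mul, Finset.sum_add_distrib, Finset.sum_ite_eq,
      Finset.mem_univ, if_true]
    rw [ih i]
    by_cases hl : (i : ℕ) + 1 < m + 1
    · rw [Finset.sum_eq_single (⟨(i : ℕ) + 1, hl⟩ : Fin (m + 1))
        (fun l _ hne => by rw [if_neg (fun e => hne (Fin.ext e.symm))])
        (fun h => absurd (Finset.mem_univ _) h), if_pos rfl, ih]
      rcases lt_trichotomy (i : ℕ) j with h | h | h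
      · rw [if_pos h.le, if_pos h.le, if_pos (show (i : ℕ) + 1 ≤ j by omega)]
        obtain ⟨d, hd⟩ : ∃ d, (j : ℕ) - i = d + 1 := ⟨(j : ℕ) - i - 1, by omega⟩
        simp only [show (j : ℕ) - ((i : ℕ) + 1) = d by omega, hd, Nat.choose_succ_succ, Nat.cast_add]
        ring
      · rw [if_pos h.le, if_pos h.le, if_neg (by simp; omega)]
        simp [h]
      · rw [if_neg (show ¬((i : ℕ) ≤ j) by omega), if_neg (show ¬((i : ℕ) + 1 ≤ j) by omega), add_zero, if_neg (show ¬((i : ℕ) ≤ j) by omega)]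
    · rw [Finset.sum_eq_zero (fun l _ => by rw [if_neg (by omega)]), add_zero]
      by_cases h : (i : ℕ) ≤ j
      · rw [if_pos h, if_pos h, show (j : ℕ) - i = 0 by omega]; simp
      · rw [if_neg h, if_neg h]

theorem first_UM_pow (k : ℕ) (v : Fin (m + 1) → F) :
    (UM F m ^ k *ᵥ v) 0 = ∑ i : Fin (m + 1), (Nat.choose k i : F) * v i := by
  simp [Matrix.mulVec, dotProduct, UM_pow]

theorem vecMul_N (v : Fin (m + 1) → F) (j : Fin (m + 1)) :
    (v ᵥ* UM F m) j - v j = if h : 0 < (j : ℕ) then v ⟨(j : ℕ) - 1, by omega⟩ else 0 := by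
  simp only [Matrix.vecMul, dotProduct, UM, pathMat, mul_add, mul_ite, mul_one, mul_zero,
    Finset.sum_add_distrib, Finset.sum_ite_eq', Finset.mem_univ, if_true]
  split_ifs with h
  · rw [Finset.sum_eq_single (⟨(j : ℕ) - 1, by omega⟩ : Fin (m + 1))
      (fun l _ hne => by rw [if_neg (fun e => hne (Fin.ext (by simp; omega)))])
      (fun h => absurd (Finset.mem_univ _) h), if_pos (by simp; omega)]
    ring
  · rw [Finset.sum_eq_zero (fun l _ => by rw [if_neg (by omega)])]
    ring

namespace Gen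

variable {H : Subgroup (Matrix.SpecialLinearGroup (Fin (m + 1)) F)}

/-- `ψ_k = e₀ U^{-k}`. -/
noncomputable def psi (F : Type*) [Field F] (m k : ℕ) : Fin (m + 1) → F :=
  e F m 0 ᵥ* (((UE F m ^ k)⁻¹ : Matrix.SpecialLinearGroup (Fin (m + 1)) F) : Matrix (Fin (m + 1)) (Fin (m + 1)) F)

theorem UE_pow_coe (k : ℕ) :
    ((UE F m ^ k : Matrix.SpecialLinearGroup (Fin (m + 1)) F) : Matrix (Fin (m + 1)) (Fin (m + 1)) F) = UM F m ^ k :=
  Matrix.SpecialLinearGroup.coe_pow _ _

theorem psi_vecMul (k : ℕ) : psi F m k ᵥ* UM F m ^ k = e F m 0 := by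
  rw [psi, Matrix.vecMul_vecMul, ← UE_pow_coe, ← Matrix.SpecialLinearGroup.coe_mul, inv_mul_cancel,
    Matrix.SpecialLinearGroup.coe_one, Matrix.vecMul_one]

theorem psi_dot (k l : ℕ) (v : Fin (m + 1) → F) :
    psi F m k ⬝ᵥ (UM F m ^ (k + l) *ᵥ v) = (UM F m ^ l *ᵥ v) 0 := by
  rw [pow_add, ← Matrix.mulVec_mulVec, Matrix.dotProduct_mulVec, psi_vecMul, e_dot 0 (by omega)]
  rfl

theorem first_pow_top (j : ℕ) : (UM F m ^ j *ᵥ e F m m) 0 = (Nat.choose j m : F) := by
  rw [first_UM_pow, Finset.sum_eq_single (Fin.last m)]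
  · simp [e, eN]
  · intro b _ hb
    have : (b : ℕ) ≠ m := fun h => hb (Fin.ext (by simpa using h))
    simp [e, eN, this]
  · intro h; exact absurd (Finset.mem_univ _) h

theorem UM_e_succ {i : ℕ} (hi : i + 1 < m + 1) : UM F m *ᵥ e F m (i + 1) = e F m (i + 1) + e F m i := by
  rw [UM, e, pathMat_mulVec_succ _ hi, one_smul]

theorem psi_one_zero : psi F m 1 ⬝ᵥ e F m 0 = 1 := by
  have := psi_dot (F := F) (m := m) 1 0 (e F m 0)
  rw [pow_one, pow_zero, Matrix.one_mulVec, show UM F m *ᵥ e F m 0 = e F m 0 from pathMat_mulVec_zero _] at this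
  rw [this]
  simp [e, eN]

theorem psi_one (i : ℕ) (hi : i < m + 1) : psi F m 1 ⬝ᵥ e F m i = (-1) ^ i := by
  induction i with
  | zero => rw [psi_one_zero, pow_zero]
  | succ i ih =>
    have := psi_dot (F := F) (m := m) 1 0 (e F m (i + 1))
    rw [pow_one, pow_zero, Matrix.one_mulVec, UM_e_succ hi, dotProduct_add, ih (by omega)] at this
    have h0 : e F m (i + 1) (0 : Fin (m + 1)) = 0 := by simp [e, eN]
    rw [h0] at this
    rw [pow_succ, mul_neg_one]
    exact eq_neg_of_add_eq_zero_left this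

theorem psi_succ_dot (k : ℕ) : psi F m (k + 1) ⬝ᵥ (UM F m ^ k *ᵥ e F m m) = (-1) ^ m := by
  have h : psi F m (k + 1) ᵥ* UM F m ^ k = psi F m 1 := by
    rw [psi, psi, Matrix.vecMul_vecMul, ← UE_pow_coe, ← Matrix.SpecialLinearGroup.coe_mul]
    congr 2
    rw [pow_succ, _root_.mul_inv_rev, inv_mul_cancel_right, pow_one]
  rw [Matrix.dotProduct_mulVec, h, psi_one m (by omega)]

/-- Commutator of two root elements. -/
theorem comm_step {a φ b ψ : Fin (m + 1) → F} (h : InH H (Tm a φ)) (h' : InH H (Tm b ψ))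
    (hφb : φ ⬝ᵥ b = 0) (hφa : φ ⬝ᵥ a = 0) : InH H (Tm ((ψ ⬝ᵥ a) • b) φ) := by
  obtain ⟨g, hg, hge⟩ := h'
  have h1 := InH.conj hg (a := a) (φ := φ) (by rw [hge, vecMul_Tm, hφb, zero_smul, add_zero]; exact h)
  rw [hge, Tm_mulVec] at h1
  have h2 := (InH.neg_left h hφa).mul h1
  rwa [Tm_mul_left _ _ _ (by rw [dotProduct_add, dotProduct_smul, hφa, hφb, smul_zero, add_zero]),
    neg_add_cancel_left] at h2

theorem conj_pow (hu : UE F m ∈ H) (k : ℕ) {a : Fin (m + 1) → F} (h : InH H (Tm a (e F m 0))) :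
    InH H (Tm (UM F m ^ k *ᵥ a) (psi F m k)) := by
  have := InH.conj (H.pow_mem hu k) (a := a) (φ := psi F m k) (by rw [UE_pow_coe, psi_vecMul]; exact h)
  rwa [UE_pow_coe] at this

/-- From level `k` to level `k + 1`. -/
theorem step_up (hu : UE F m ∈ H) {γ : F} (hγ : γ ≠ 0) (hY : HasRoot H m 0 γ) {k : ℕ} (hk : k + 1 < m)
    (h : ∀ c : F, InH H (Tm (c • (UM F m ^ k *ᵥ e F m m)) (e F m 0))) (c : F) :
    InH H (Tm (c • (UM F m ^ (k + 1) *ᵥ e F m m)) (e F m 0)) := by
  have h1 := conj_pow hu (k + 1) hY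
  set c' := c / ((-1) ^ m * γ)
  have h2 := comm_step (h c') h1
    (by rw [e_dot 0 (by omega), Matrix.mulVec_smul, Pi.smul_apply]
        change γ • (UM F m ^ (k + 1) *ᵥ e F m m) 0 = 0
        rw [first_pow_top, Nat.choose_eq_zero_of_lt hk, Nat.cast_zero, smul_zero])
    (by rw [e_dot 0 (by omega), Pi.smul_apply]
        change c' • (UM F m ^ k *ᵥ e F m m) 0 = 0
        rw [first_pow_top, Nat.choose_eq_zero_of_lt (by omega), Nat.cast_zero, smul_zero])
  rw [dotProduct_smul, psi_succ_dot, Matrix.mulVec_smul, smul_smul, smul_eq_mul] at h2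
  have hne : (-1 : F) ^ m * γ ≠ 0 := mul_ne_zero (pow_ne_zero _ (by simp)) hγ
  rwa [mul_assoc, div_mul_cancel₀ _ hne] at h2

/-- `U` and a full root group in position `(m, 0)` generate everything. -/
theorem eq_top (hm : 2 ≤ m) (hu : UE F m ∈ H) (hY : ∀ c, HasRoot H m 0 c) : H = ⊤ := by
  have hlev : ∀ k, k < m → ∀ c : F, InH H (Tm (c • (UM F m ^ k *ᵥ e F m m)) (e F m 0)) := by
    intro k
    induction k with
    | zero => intro _ c; rw [pow_zero, Matrix.one_mulVec]; exact hY c
    | succ k ih => intro hk c; exact step_up hu one_ne_zero (hY 1) hk (ih (by omega)) c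
  let S : Submodule F (Fin (m + 1) → F) :=
    { carrier := {v | v 0 = 0 ∧ ∀ c : F, InH H (Tm (c • v) (e F m 0))}
      add_mem' := fun {v w} hv hw => ⟨by simp [hv.1, hw.1], fun c => by
        have := (hv.2 c).mul (hw.2 c)
        rwa [Tm_mul_left _ _ _ (by rw [e_dot 0 (by omega)]; simp [hw.1]), ← smul_add] at this⟩
      zero_mem' := ⟨rfl, fun c => by rw [smul_zero, Tm_zero_left]; exact InH.one⟩
      smul_mem' := fun r v hv => ⟨by simp [hv.1], fun c => by rw [smul_smul]; exact hv.2 _⟩ }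
  have hS : ∀ j l, l + j < m → UM F m ^ l *ᵥ e F m (m - j) ∈ S := by
    intro j
    induction j with
    | zero =>
      intro l hl
      exact ⟨by rw [Nat.sub_zero, first_pow_top, Nat.choose_eq_zero_of_lt (by omega), Nat.cast_zero], hlev l (by omega)⟩
    | succ j ih =>
      intro l hl
      have := S.sub_mem (ih (l + 1) (by omega)) (ih l (by omega))
      rwa [pow_succ, ← Matrix.mulVec_mulVec, show m - j = (m - (j + 1)) + 1 by omega, UM_e_succ (by omega),
        Matrix.mulVec_add, add_sub_cancel_left] at this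
  have hcol : ∀ i, 1 ≤ i → i < m + 1 → ∀ c, HasRoot H i 0 c := by
    intro i hi1 hi c
    have := (hS (m - i) 0 (by omega)).2 c
    rwa [pow_zero, Matrix.one_mulVec, show m - (m - i) = i by omega] at this
  let R : Submodule F (Fin (m + 1) → F) :=
    { carrier := {v | v 0 = 0 ∧ ∀ c : F, InH H (Tm (c • e F m 0) v)}
      add_mem' := fun {v w} hv hw => ⟨by simp [hv.1, hw.1], fun c => by
        have := (hv.2 c).mul (hw.2 c)
        rwa [Tm_mul_right _ _ _ (by rw [dotProduct_smul, dot_e 0 (by omega)]; simp [hv.1])] at this⟩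
      zero_mem' := ⟨rfl, fun c => by rw [Tm, Matrix.vecMulVec_zero, add_zero]; exact InH.one⟩
      smul_mem' := fun r v hv => ⟨by simp [hv.1], fun c => by
        rw [← Tm_smul, smul_smul]; exact hv.2 _⟩ }
  have hRU : ∀ v ∈ R, v ᵥ* UM F m ∈ R := by
    intro v hv
    refine ⟨?_, fun c => ?_⟩
    · have := vecMul_N v (0 : Fin (m + 1))
      simpa [hv.1] using this
    · have h := InH.conj' hu (a := c • e F m 0) (φ := v) (by
        change InH H (Tm (UM F m *ᵥ (c • e F m 0)) v)
        rw [Matrix.mulVec_smul, show UM F m *ᵥ e F m 0 = e F m 0 from pathMat_mulVec_zero _]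
        exact hv.2 c)
      exact h
  obtain ⟨Φ, hΦR, hΦ1⟩ : ∃ Φ ∈ R, Φ ⟨1, by omega⟩ = -1 := by
    obtain ⟨g, hg, hge⟩ := hcol 1 le_rfl (by omega) 1
    refine ⟨psi F m 1 ᵥ* (g : Matrix (Fin (m + 1)) (Fin (m + 1)) F), ⟨?_, fun c => ?_⟩, ?_⟩
    · change (psi F m 1 ᵥ* (g : Matrix (Fin (m + 1)) (Fin (m + 1)) F)) 0 = 0
      rw [hge, vecMul_Tm, dotProduct_smul, psi_one 1 (by omega)]
      have h0 : psi F m 1 0 = 1 := by
        have := psi_one_zero (F := F) (m := m)
        rwa [dot_e 0 (by omega)] at this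
      simp [h0, eN]
    · refine InH.conj' hg ?_
      rw [hge, Tm_mulVec]
      have h := conj_pow hu 1 (hcol 1 le_rfl (by omega) c)
      rw [pow_one, Matrix.mulVec_smul, UM_e_succ (i := 0) (by omega)] at h
      convert h using 2
      rw [dotProduct_smul, eN_dot_self (by omega)]
      simp [smul_add, smul_smul, mul_comm, add_comm]
    · rw [hge, vecMul_Tm]
      have h1 : psi F m 1 ⟨1, by omega⟩ = -1 := by
        have := psi_one (F := F) (m := m) 1 (by omega)
        rwa [dot_e 1 (by omega), pow_one] at this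
      simp [h1, eN]
  have hΨ : ∀ k, k + 1 < m + 1 → ∃ Ψ ∈ R, (∀ i : Fin (m + 1), (i : ℕ) ≤ k → Ψ i = 0) ∧
      ∀ i : Fin (m + 1), (i : ℕ) = k + 1 → Ψ i = -1 := by
    intro k
    induction k with
    | zero =>
      intro _
      refine ⟨Φ, hΦR, fun i hi => ?_, fun i hi => ?_⟩
      · rw [show i = 0 from Fin.ext (by simpa using hi)]; exact hΦR.1
      · rw [show i = ⟨1, by omega⟩ from Fin.ext hi]; exact hΦ1
    | succ k ih =>
      intro hk
      obtain ⟨Ψ, hΨR, h0, h1⟩ := ih (by omega)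
      refine ⟨Ψ ᵥ* UM F m - Ψ, R.sub_mem (hRU Ψ hΨR) hΨR, fun i hi => ?_, fun i hi => ?_⟩
      · rw [Pi.sub_apply, vecMul_N]
        split_ifs with h
        · exact h0 _ (by simp; omega)
        · rfl
      · rw [Pi.sub_apply, vecMul_N, dif_pos (by omega)]
        exact h1 _ (by simp; omega)
  have hRall : ∀ d j, j + d = m → ∀ v : Fin (m + 1) → F, (∀ i : Fin (m + 1), (i : ℕ) ≤ j → v i = 0) → v ∈ R := by
    intro d
    induction d with
    | zero =>
      intro j hj v hv
      rw [show v = 0 from funext fun i => hv i (by omega)]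
      exact R.zero_mem
    | succ d ih =>
      intro j hj v hv
      obtain ⟨Ψ, hΨR, h0, h1⟩ := hΨ j (by omega)
      set r := v ⟨j + 1, by omega⟩
      have : v + r • Ψ ∈ R := by
        refine ih (j + 1) (by omega) _ fun i hi => ?_
        rcases Nat.lt_or_ge (i : ℕ) (j + 1) with hlt | hge
        · simp [hv i (by omega), h0 i (by omega)]
        · have hi' : (i : ℕ) = j + 1 := by omega
          simp only [Pi.add_apply, Pi.smul_apply, smul_eq_mul, h1 i hi']
          rw [show i = ⟨j + 1, by omega⟩ from Fin.ext hi']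
          simp [r]
      simpa using R.sub_mem this (R.smul_mem r hΨR)
  have hrow : ∀ j, 1 ≤ j → j < m + 1 → ∀ c, HasRoot H 0 j c := by
    intro j hj1 hj c
    exact (hRall m 0 (by omega) (e F m j) fun i hi => by simp [e, eN]; omega).2 c
  refine Cfsg.Agent.Lib.LinGroup.eq_top_of_transvection_mem H fun i j hij c => ?_
  have hij' : (i : ℕ) ≠ j := fun h => hij (Fin.ext h)
  have hroot : HasRoot H (i : ℕ) (j : ℕ) c := by
    rcases Nat.eq_zero_or_pos (i : ℕ) with hi0 | hi0
    · rw [hi0]; exact hrow j (by omega) j.2 c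
    rcases Nat.eq_zero_or_pos (j : ℕ) with hj0 | hj0
    · rw [hj0]; exact hcol i hi0 i.2 c
    have := HasRoot.comm i.2 j.2 (show 0 < m + 1 by omega) hij' (by omega) (by omega) (hcol i hi0 i.2 c)
      (hrow j hj0 j.2 1)
    rwa [mul_one] at this
  obtain ⟨g, hg, hge⟩ := hroot
  suffices g = Matrix.SpecialLinearGroup.transvection hij c from this ▸ hg
  apply Subtype.ext
  rw [hge]
  change Tm (c • eN (m + 1) (i : ℕ)) (eN (m + 1) (j : ℕ)) = Matrix.transvection i j c
  rw [eN_eq_single i.2, eN_eq_single j.2, Tm, Matrix.transvection]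
  congr 1
  ext p q
  rw [Matrix.vecMulVec_apply, Matrix.single_apply, Pi.smul_apply, Pi.single_apply, Pi.single_apply, smul_eq_mul]
  by_cases e1 : p = i
  · subst e1
    by_cases e2 : q = j
    · subst e2; simp
    · simp [e2, Ne.symm e2]
  · simp [e1, Ne.symm e1]

/-- One root element becomes a root group in the presence of a scaling element. -/
theorem full_of_scaling (hm : 3 ≤ m) (hu : UE F m ∈ H) {γ : F} (hγ : γ ≠ 0) (hY : HasRoot H m 0 γ)
    {w : Matrix.SpecialLinearGroup (Fin (m + 1)) F} (hw : w ∈ H) {l μ β : F} (hl : l ≠ 0) (hμ : μ ≠ l)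
    (hwm : (w : Matrix (Fin (m + 1)) (Fin (m + 1)) F) *ᵥ e F m m = l • e F m m)
    (h0w : e F m 0 ᵥ* (w : Matrix (Fin (m + 1)) (Fin (m + 1)) F) = l • e F m 0)
    (hwv : (w : Matrix (Fin (m + 1)) (Fin (m + 1)) F) *ᵥ (e F m (m - 1) + β • e F m m) =
      μ • (e F m (m - 1) + β • e F m m))
    (hcl : Subring.closure ({μ / l} : Set F) = ⊤) : ∀ c, HasRoot H m 0 c := by
  set v := e F m (m - 1) + β • e F m m with hvdef
  have hv0 : v 0 = 0 := by simp [v, e, eN, show (0 : ℕ) ≠ m - 1 by omega, show (0 : ℕ) ≠ m by omega]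
  have hem0 : e F m m 0 = 0 := by simp [e, eN, show (0 : ℕ) ≠ m by omega]
  let Col : AddSubgroup (Fin (m + 1) → F) :=
    { carrier := {x | x 0 = 0 ∧ InH H (Tm x (e F m 0))}
      add_mem' := fun {x y} hx hy => ⟨by simp [hx.1, hy.1], by
        have := hx.2.mul hy.2
        rwa [Tm_mul_left _ _ _ (by rw [e_dot 0 (by omega)]; exact hy.1)] at this⟩
      zero_mem' := ⟨rfl, by rw [Tm_zero_left]; exact InH.one⟩
      neg_mem' := fun {x} hx => ⟨by simp [hx.1], InH.neg_left hx.2 (by rw [e_dot 0 (by omega)]; exact hx.1)⟩ }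
  have hW : ∀ x, (l • x : Fin (m + 1) → F) ∈ Col → (w : Matrix (Fin (m + 1)) (Fin (m + 1)) F) *ᵥ x ∈ Col := by
    intro x hx
    refine ⟨?_, ?_⟩
    · have h := congrArg (fun y => y ⬝ᵥ x) h0w
      simp only [← Matrix.dotProduct_mulVec, smul_dotProduct, e_dot 0 (show 0 < m + 1 by omega)] at h
      exact h.trans hx.1
    · refine InH.conj hw ?_
      rw [h0w, ← Tm_smul]
      exact hx.2
  set d := (-1 : F) ^ m * γ * γ with hd
  have hd0 : d ≠ 0 := mul_ne_zero (mul_ne_zero (pow_ne_zero _ (by simp)) hγ) hγ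
  have hUe : UM F m *ᵥ e F m m = e F m m + e F m (m - 1) := by
    rw [show m = (m - 1) + 1 by omega, UM_e_succ (by omega)]; simp
  have hZ : d • (UM F m *ᵥ e F m m) ∈ Col := by
    refine ⟨?_, ?_⟩
    · rw [Pi.smul_apply, hUe, Pi.add_apply, hem0]
      simp [e, eN, show (0 : ℕ) ≠ m - 1 by omega]
    have h := comm_step hY (conj_pow hu 1 hY)
      (by rw [e_dot 0 (by omega)]
          change (UM F m ^ 1 *ᵥ (γ • e F m m)) 0 = 0
          rw [Matrix.mulVec_smul, Pi.smul_apply, first_pow_top, Nat.choose_eq_zero_of_lt (by omega),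
            Nat.cast_zero, smul_zero])
      (by rw [e_dot 0 (by omega)]; simp [eN, show (0 : ℕ) ≠ m by omega])
    rw [dotProduct_smul, psi_one m (by omega), pow_one, Matrix.mulVec_smul, smul_smul, smul_eq_mul] at h
    rw [hd]
    convert h using 3
    ring
  have hline : ∀ c : F, c • v ∈ Col := by
    have hT : ∀ a b : F, a • v + b • e F m m ∈ Col → (μ / l * a) • v + b • e F m m ∈ Col := by
      intro a b h
      have := hW ((a / l) • v + (b / l) • e F m m) (by
        rw [smul_add, smul_smul, smul_smul, mul_div_cancel₀ _ hl, mul_div_cancel₀ _ hl]; exact h)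
      rw [Matrix.mulVec_add, Matrix.mulVec_smul, Matrix.mulVec_smul, hwm, hwv, smul_smul, smul_smul,
        div_mul_cancel₀ _ hl] at this
      rwa [show μ / l * a = a / l * μ by ring]
    have hZ' : d • v + (d * (1 - β)) • e F m m ∈ Col := by
      convert hZ using 1
      rw [hUe, hvdef]
      module
    have hs0 : ((μ / l - 1) * d) • v ∈ Col := by
      have h := Col.sub_mem (hT _ _ hZ') hZ'
      rwa [add_sub_add_right_eq_sub, ← sub_smul, ← sub_one_mul] at h
    let R : Subring F :=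
      { carrier := {s | ∀ a : F, a • v ∈ Col → (s * a) • v ∈ Col}
        one_mem' := fun a h => by rwa [one_mul]
        mul_mem' := fun {s t} hs ht a h => by rw [mul_assoc]; exact hs _ (ht a h)
        zero_mem' := fun a h => by rw [zero_mul, zero_smul]; exact Col.zero_mem
        add_mem' := fun {s t} hs ht a h => by rw [add_mul, add_smul]; exact Col.add_mem (hs a h) (ht a h)
        neg_mem' := fun {s} hs a h => by rw [neg_mul, neg_smul]; exact Col.neg_mem (hs a h) }
    have hR : ∀ s, s ∈ R := fun s => by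
      have : Subring.closure ({μ / l} : Set F) ≤ R := Subring.closure_le.2 (Set.singleton_subset_iff.2 fun a ha => by
        have := hT a 0 (by rwa [zero_smul, add_zero])
        rwa [zero_smul, add_zero] at this)
      exact this (hcl ▸ Subring.mem_top s)
    have hne : (μ / l - 1) * d ≠ 0 := mul_ne_zero (sub_ne_zero.2 fun h => hμ ((div_eq_one_iff_eq hl).1 h)) hd0
    intro c
    have := hR (c / ((μ / l - 1) * d)) _ hs0
    rwa [div_mul_cancel₀ _ hne] at this
  obtain ⟨k, hk1, hk, hkv⟩ : ∃ k, 1 ≤ k ∧ k < m ∧ psi F m k ⬝ᵥ v ≠ 0 := by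
    by_contra hcon
    push Not at hcon
    set x := (((UE F m ^ (m - 1))⁻¹ : Matrix.SpecialLinearGroup (Fin (m + 1)) F) :
      Matrix (Fin (m + 1)) (Fin (m + 1)) F) *ᵥ v with hxdef
    have hx : UM F m ^ (m - 1) *ᵥ x = v := by
      rw [hxdef, Matrix.mulVec_mulVec, ← UE_pow_coe, ← Matrix.SpecialLinearGroup.coe_mul, mul_inv_cancel,
        Matrix.SpecialLinearGroup.coe_one, Matrix.one_mulVec]
    have hj : ∀ j, j ≤ m - 1 → (UM F m ^ j *ᵥ x) 0 = 0 := by
      intro j hj
      rcases eq_or_lt_of_le hj with rfl | hlt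
      · rw [hx]; exact hv0
      · have := psi_dot (F := F) (m - 1 - j) j x
        rw [show m - 1 - j + j = m - 1 by omega, hx, hcon _ (by omega) (by omega)] at this
        exact this.symm
    have hxi : ∀ i : Fin (m + 1), (i : ℕ) < m → x i = 0 := by
      intro i
      induction' hiv : (i : ℕ) using Nat.strong_induction_on with k ih generalizing i
      intro hik
      have := hj k (by omega)
      rw [first_UM_pow, Finset.sum_eq_single i] at this
      · simpa [hiv] using this
      · intro b _ hb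
        rcases Nat.lt_or_ge (b : ℕ) k with hbk | hbk
        · rw [ih _ hbk b rfl (by omega), mul_zero]
        · rw [Nat.choose_eq_zero_of_lt (lt_of_le_of_ne hbk fun h => hb (Fin.ext (by omega))), Nat.cast_zero, zero_mul]
      · intro h; exact absurd (Finset.mem_univ _) h
    have hxm : x = x (Fin.last m) • e F m m := by
      funext i
      rcases Nat.lt_or_ge (i : ℕ) m with h | h
      · simp [hxi i h, e, eN, show (i : ℕ) ≠ m by omega]
      · have : i = Fin.last m := Fin.ext (by simp; omega)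
        subst this; simp [e, eN]
    have h1 := congrFun hx ⟨1, by omega⟩
    rw [hxm, Matrix.mulVec_smul, Pi.smul_apply] at h1
    have hU1 : (UM F m ^ (m - 1) *ᵥ e F m m) ⟨1, by omega⟩ = 1 := by
      rw [e, eN_eq_single (by omega), Matrix.mulVec_single_one, Matrix.col_apply, UM_pow, if_pos (by simp; omega)]
      simp
    rw [hU1, smul_eq_mul, mul_one] at h1
    have hv1 : v ⟨1, by omega⟩ = 0 := by
      simp [v, e, eN, show (1 : ℕ) ≠ m - 1 by omega, show (1 : ℕ) ≠ m by omega]
    rw [hv1] at h1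
    rw [hxm, h1, zero_smul, Matrix.mulVec_zero] at hx
    have := congrFun hx ⟨m - 1, by omega⟩
    simp [v, e, eN, show m - 1 ≠ m by omega] at this
  have hk' : ∀ c : F, InH H (Tm (c • (UM F m ^ k *ᵥ e F m m)) (e F m 0)) := by
    intro c
    set c' := c / ((psi F m k ⬝ᵥ v) * γ)
    have h := comm_step (hline c').2 (conj_pow hu k hY)
      (by rw [e_dot 0 (by omega)]
          change (UM F m ^ k *ᵥ (γ • e F m m)) 0 = 0
          rw [Matrix.mulVec_smul, Pi.smul_apply, first_pow_top, Nat.choose_eq_zero_of_lt hk, Nat.cast_zero, smul_zero])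
      (by rw [e_dot 0 (by omega)]; exact (hline c').1)
    rw [dotProduct_smul, Matrix.mulVec_smul, smul_smul, smul_eq_mul, mul_assoc,
      div_mul_cancel₀ _ (mul_ne_zero hkv hγ)] at h
    exact h
  have htop : ∀ d', k + d' < m → ∀ c : F, InH H (Tm (c • (UM F m ^ (k + d') *ᵥ e F m m)) (e F m 0)) := by
    intro d'
    induction d' with
    | zero => intro _ c; simpa using hk' c
    | succ d' ih => intro h c; exact step_up hu hγ hY (by omega) (ih (by omega)) c
  intro c
  have hlast := htop (m - 1 - k) (by omega) (c / d)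
  rw [show k + (m - 1 - k) = m - 1 by omega] at hlast
  have hpsi : InH H (Tm (d • e F m m) (e F m 0 ᵥ* UM F m)) := by
    refine InH.conj' hu ?_
    change InH H (Tm (UM F m *ᵥ (d • e F m m)) (e F m 0))
    rw [Matrix.mulVec_smul]; exact hZ.2
  have h := comm_step hlast hpsi
    (by rw [dotProduct_smul, e_dot 0 (by omega)]; exact (congrArg _ hem0).trans (smul_zero d))
    (by rw [dotProduct_smul, e_dot 0 (by omega)]
        change (c / d) • (UM F m ^ (m - 1) *ᵥ e F m m) 0 = 0
        rw [first_pow_top, Nat.choose_eq_zero_of_lt (by omega), Nat.cast_zero, smul_zero])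
  rw [← Matrix.dotProduct_mulVec, Matrix.mulVec_smul, Matrix.mulVec_mulVec, ← pow_succ',
    show m - 1 + 1 = m by omega, dotProduct_smul, e_dot 0 (by omega)] at h
  rw [show ((⟨0, by omega⟩ : Fin (m + 1))) = 0 from rfl, first_pow_top, Nat.choose_self, Nat.cast_one,
    smul_smul, smul_eq_mul, mul_one, div_mul_cancel₀ _ hd0] at h
  exact h

end Gen

/-- The data of a lower triangular matrix together with the polynomials of its rows. -/
structure Data (F : Type*) [Field F] (m : ℕ) where
  mu : ℕ → F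
  A : ℕ → ℕ → F
  R : ℕ → F[X]
  R_zero : R 0 = 1
  R_succ : ∀ i, i < m → R (i + 1) = (C (mu i) - X) * R i + ∑ j ∈ Finset.range i, C (A i j) * X ^ (i - j) * R j
  A_upper : ∀ i j, i ≤ j → A i j = 0
  mu_ne : ∀ i, i ≤ m → mu i ≠ 0
  prod_mu : ∏ i ∈ Finset.range (m + 1), mu i = 1

namespace Data

variable (D : Data F m)

theorem R_props : ∀ i, i ≤ m → (D.R i).natDegree ≤ i ∧ (D.R i).coeff i = (-1) ^ i ∧
    (D.R i).coeff 0 = ∏ j ∈ Finset.range i, D.mu j := by
  intro i
  induction' i using Nat.strong_induction_on with i ih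
  intro hi
  rcases Nat.eq_zero_or_pos i with rfl | hpos
  · simp [D.R_zero]
  obtain ⟨i, rfl⟩ : ∃ k, i = k + 1 := ⟨i - 1, by omega⟩
  obtain ⟨h1, h2, h3⟩ := ih i (by omega) (by omega)
  have hs : (∑ j ∈ Finset.range i, C (D.A i j) * X ^ (i - j) * D.R j).natDegree ≤ i := by
    refine natDegree_sum_le_of_forall_le _ _ fun j hj => ?_
    have hj' := Finset.mem_range.1 hj
    have hd := (ih j (by omega) (by omega)).1
    refine natDegree_mul_le.trans ?_
    have := natDegree_C_mul_X_pow_le (D.A i j) (i - j)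
    omega
  have hs0 : (∑ j ∈ Finset.range i, C (D.A i j) * X ^ (i - j) * D.R j).coeff 0 = 0 := by
    rw [finsetSum_coeff]
    refine Finset.sum_eq_zero fun j hj => ?_
    have hj' := Finset.mem_range.1 hj
    rw [mul_coeff_zero, mul_coeff_zero, coeff_X_pow, if_neg (by omega)]
    simp
  have hd : ((C (D.mu i) - X) * D.R i).natDegree ≤ i + 1 := by
    refine natDegree_mul_le.trans ?_
    have : (C (D.mu i) - X : F[X]).natDegree ≤ 1 :=
      (natDegree_sub_le _ _).trans (by simp)
    omega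
  rw [D.R_succ i (by omega)]
  refine ⟨(natDegree_add_le _ _).trans (max_le hd (by omega)), ?_, ?_⟩
  · rw [coeff_add, coeff_eq_zero_of_natDegree_lt (lt_of_le_of_lt hs (by omega)), add_zero, sub_mul,
      coeff_sub, coeff_C_mul, coeff_X_mul, coeff_eq_zero_of_natDegree_lt (lt_of_le_of_lt h1 (by omega)),
      h2, pow_succ]
    ring
  · rw [coeff_add, hs0, add_zero, mul_coeff_zero, h3, Finset.prod_range_succ]
    simp [mul_comm]

theorem natDegree_R {i : ℕ} (hi : i ≤ m) : (D.R i).natDegree ≤ i := (D.R_props i hi).1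

theorem coeff_zero_R {i : ℕ} (hi : i ≤ m) : (D.R i).coeff 0 = ∏ j ∈ Finset.range i, D.mu j :=
  (D.R_props i hi).2.2

/-- Every polynomial of degree at most `k` is a combination of the `X^(k-j) R_j`. -/
theorem exists_coeffs : ∀ k, k ≤ m → ∀ P : F[X], P.natDegree ≤ k →
    ∃ b : ℕ → F, P = ∑ j ∈ Finset.range (k + 1), C (b j) * X ^ (k - j) * D.R j := by
  intro k
  induction k with
  | zero =>
    intro _ P hP
    refine ⟨fun _ => P.coeff 0, ?_⟩
    rw [Finset.sum_range_one, D.R_zero, Nat.sub_self, pow_zero, mul_one, mul_one]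
    exact eq_C_of_natDegree_le_zero hP
  | succ k ih =>
    intro hk P hP
    have hne : (D.R (k + 1)).coeff 0 ≠ 0 := by
      rw [D.coeff_zero_R hk]
      exact Finset.prod_ne_zero_iff.2 fun j hj => D.mu_ne j (by have := Finset.mem_range.1 hj; omega)
    set c := P.coeff 0 / (D.R (k + 1)).coeff 0
    have h0 : (P - C c * D.R (k + 1)).coeff 0 = 0 := by
      rw [coeff_sub, coeff_C_mul, div_mul_cancel₀ _ hne, sub_self]
    obtain ⟨Q, hQ⟩ := X_dvd_iff.2 h0
    have hdeg : (P - C c * D.R (k + 1)).natDegree ≤ k + 1 :=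
      (natDegree_sub_le _ _).trans (max_le hP ((natDegree_C_mul_le _ _).trans (D.natDegree_R hk)))
    have hQd : Q.natDegree ≤ k := by
      rcases eq_or_ne Q 0 with rfl | hQ0
      · simp
      · rw [hQ, natDegree_mul X_ne_zero hQ0, natDegree_X] at hdeg
        omega
    obtain ⟨b, hb⟩ := ih (by omega) Q hQd
    refine ⟨fun j => if j ≤ k then b j else c, ?_⟩
    rw [Finset.sum_range_succ]
    dsimp only
    rw [if_neg (by omega), Nat.sub_self, pow_zero, mul_one]
    have : ∑ j ∈ Finset.range (k + 1), C (if j ≤ k then b j else c) * X ^ (k + 1 - j) * D.R j = X * Q := by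
      rw [hb, Finset.mul_sum]
      refine Finset.sum_congr rfl fun j hj => ?_
      have := Finset.mem_range.1 hj
      rw [if_pos (by omega), show k + 1 - j = (k - j) + 1 by omega, pow_succ]
      ring
    rw [this, ← hQ, sub_add_cancel]

/-- The polynomial that the last row must represent. -/
noncomputable def lhs : F[X] := (X - C (D.mu m)) * D.R m + (-1) ^ (m + 1) * (X - 1) ^ (m + 1)

theorem lhs_coeff_zero : D.lhs.coeff 0 = 0 := by
  have h := D.prod_mu
  rw [Finset.prod_range_succ, ← D.coeff_zero_R le_rfl] at h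
  rw [lhs, coeff_add, mul_coeff_zero, mul_coeff_zero, coeff_zero_eq_eval_zero (p := X - C (D.mu m)),
    coeff_zero_eq_eval_zero (p := (-1) ^ (m + 1)), coeff_zero_eq_eval_zero (p := (X - 1) ^ (m + 1))]
  simp only [eval_sub, eval_X, eval_C, zero_sub, eval_pow, eval_neg, eval_one, ← mul_pow, neg_mul_neg,
    one_mul, one_pow]
  linear_combination -h

theorem lhs_natDegree : D.lhs.natDegree ≤ m := by
  rw [natDegree_le_iff_coeff_eq_zero]
  intro N hN
  have h1 := D.natDegree_R (le_refl m)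
  have hpow : ((X : F[X]) - 1) ^ (m + 1) = (X + C (-1)) ^ (m + 1) := by simp [sub_eq_add_neg]
  rw [lhs, coeff_add, sub_mul, coeff_sub, coeff_C_mul, coeff_eq_zero_of_natDegree_lt (lt_of_le_of_lt h1 hN),
    mul_zero, sub_zero, hpow, show ((-1 : F[X]) ^ (m + 1)) = C ((-1) ^ (m + 1)) by simp, coeff_C_mul,
    coeff_X_add_C_pow]
  obtain ⟨N, rfl⟩ : ∃ k, N = k + 1 := ⟨N - 1, by omega⟩
  rw [coeff_X_mul]
  rcases eq_or_lt_of_le (show m ≤ N by omega) with rfl | hlt
  · rw [(D.R_props m le_rfl).2.1]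
    simp [pow_succ]
  · rw [coeff_eq_zero_of_natDegree_lt (lt_of_le_of_lt h1 hlt), Nat.choose_eq_zero_of_lt (show m + 1 < N + 1 by omega)]
    simp

/-- The last row. -/
theorem exists_row : ∃ b : ℕ → F, D.lhs = ∑ j ∈ Finset.range m, C (b j) * X ^ (m - j) * D.R j := by
  obtain ⟨b, hb⟩ := D.exists_coeffs m le_rfl _ D.lhs_natDegree
  refine ⟨b, ?_⟩
  rw [Finset.sum_range_succ, Nat.sub_self, pow_zero, mul_one] at hb
  have h0 := congrArg (fun P : F[X] => P.coeff 0) hb
  simp only [D.lhs_coeff_zero, coeff_add, finsetSum_coeff, coeff_C_mul] at h0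
  rw [Finset.sum_eq_zero (fun j hj => by
    have := Finset.mem_range.1 hj
    rw [mul_coeff_zero, mul_coeff_zero, coeff_X_pow, if_neg (by omega)]
    simp), zero_add] at h0
  have hne : (D.R m).coeff 0 ≠ 0 := by
    rw [D.coeff_zero_R le_rfl]
    exact Finset.prod_ne_zero_iff.2 fun j hj => D.mu_ne j (by have := Finset.mem_range.1 hj; omega)
  rw [(mul_eq_zero.1 h0.symm).resolve_right hne] at hb
  simpa using hb

/-- The lower triangular matrix. -/
def W (b : ℕ → F) : Matrix (Fin (m + 1)) (Fin (m + 1)) F :=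
  fun i j => (if i = j then D.mu i else 0) +
    (if (i : ℕ) = m then (if (j : ℕ) = m then 0 else b j) else D.A i j)

/-- The conjugating matrix. -/
noncomputable def g : Matrix (Fin (m + 1)) (Fin (m + 1)) F :=
  fun i => e F m 0 ᵥ* Polynomial.aeval (UM F m) (X ^ (m - (i : ℕ)) * D.R i)

theorem rowPoly_natDegree (i : Fin (m + 1)) : (X ^ (m - (i : ℕ)) * D.R i).natDegree < m + 1 := by
  have := D.natDegree_R (i := (i : ℕ)) (by omega)
  refine lt_of_le_of_lt natDegree_mul_le ?_
  rw [natDegree_X_pow]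
  omega

theorem g_det : D.g.det =
    (Equiv.Perm.sign (Fin.revPerm : Equiv.Perm (Fin (m + 1))) : ℤ) *
      ∏ i ∈ Finset.range (m + 1), ∏ j ∈ Finset.range i, D.mu j := by
  let Cm : Matrix (Fin (m + 1)) (Fin (m + 1)) F := fun i k => (X ^ (m - (i : ℕ)) * D.R i).coeff k
  let Φ : Matrix (Fin (m + 1)) (Fin (m + 1)) F := fun k => e F m 0 ᵥ* UM F m ^ (k : ℕ)
  have hCm : ∀ i k, Cm i k = (X ^ (m - (i : ℕ)) * D.R i).coeff k := fun _ _ => rfl
  have hg : D.g = Cm * Φ := by
    refine funext fun i => ?_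
    change e F m 0 ᵥ* _ = Cm i ᵥ* Φ
    conv_lhs => rw [Polynomial.as_sum_range' _ (m + 1) (D.rowPoly_natDegree i), map_sum,
      Finset.sum_range (fun k => Polynomial.aeval (UM F m) (monomial k _))]
    rw [Matrix.vecMul_sum, Matrix.vecMul_eq_sum]
    refine Finset.sum_congr rfl fun k _ => ?_
    rw [aeval_monomial, ← Algebra.smul_def, Matrix.vecMul_smul]
  have hΦ : Φ.det = 1 := by
    have hent : ∀ k l : Fin (m + 1), Φ k l = (Nat.choose k l : F) := by
      intro k l
      simp only [Φ, e]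
      rw [eN_eq_single (show 0 < m + 1 by omega), Matrix.single_one_vecMul, Matrix.row_apply, UM_pow]
      simp
    rw [Matrix.det_of_isLowerTriangular]
    · exact Finset.prod_eq_one fun k _ => by simp [hent]
    · intro k l hkl
      have : (k : ℕ) < l := hkl
      simp [hent, Nat.choose_eq_zero_of_lt this]
  have hC : (Cm.submatrix ⇑(Fin.revPerm : Equiv.Perm (Fin (m + 1))) id).det =
      ∏ i ∈ Finset.range (m + 1), ∏ j ∈ Finset.range i, D.mu j := by
    rw [Matrix.det_of_isUpperTriangular]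
    · rw [← Equiv.prod_comp (Fin.revPerm : Equiv.Perm (Fin (m + 1))), Finset.prod_range]
      refine Finset.prod_congr rfl fun i _ => ?_
      rw [Matrix.submatrix_apply, id_eq, Fin.revPerm_apply, Fin.revPerm_apply, Fin.rev_rev, hCm, Fin.val_rev]
      rw [coeff_X_pow_mul', if_pos (by omega), show m + 1 - ((i : ℕ) + 1) - (m - (i : ℕ)) = 0 by omega,
        D.coeff_zero_R (by omega)]
    · intro i k hki
      have : (k : ℕ) < i := hki
      rw [Matrix.submatrix_apply, id_eq, Fin.revPerm_apply, hCm, Fin.val_rev]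
      rw [coeff_X_pow_mul', if_neg (by omega)]
  rw [Matrix.det_permute] at hC
  rw [hg, Matrix.det_mul, hΦ, mul_one, ← hC, ← mul_assoc, ← Int.cast_mul, ← Units.val_mul,
    Int.units_mul_self]
  simp

theorem UgU (hm : 1 ≤ m) {b : ℕ → F} (hb : D.lhs = ∑ j ∈ Finset.range m, C (b j) * X ^ (m - j) * D.R j) :
    UM F m * D.g * UM F m = D.W b * D.g := by
  let φ : F[X] →ₗ[F] (Fin (m + 1) → F) :=
    { toFun := fun P => e F m 0 ᵥ* Polynomial.aeval (UM F m) P
      map_add' := fun P Q => by rw [map_add, Matrix.vecMul_add]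
      map_smul' := fun c P => by rw [map_smul, Matrix.vecMul_smul]; rfl }
  let Q : ℕ → F[X] := fun i => X ^ (m - i) * D.R i
  have hg : ∀ i : Fin (m + 1), D.g i = φ (Q i) := fun i => rfl
  have hX : ∀ P, φ (P * X) = φ P ᵥ* UM F m := fun P => by
    simp [φ, Matrix.vecMul_vecMul]
  have hkill : φ ((X - 1) ^ (m + 1)) = 0 := by
    have : (UM F m - 1) ^ (m + 1) = 0 := by
      ext i j
      rw [UM, pathMat_sub_one_pow, if_neg (by omega), Matrix.zero_apply]
    simp [φ, this]
  have hsum : ∀ (f : ℕ → F) (i : ℕ), i ≤ m + 1 → (∀ j, i ≤ j → f j = 0) →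
      (fun j : Fin (m + 1) => f j) ᵥ* D.g = φ (∑ j ∈ Finset.range i, C (f j) * Q j) := by
    intro f i hi hf
    rw [Matrix.vecMul_eq_sum, map_sum, ← Finset.sum_subset (Finset.range_subset_range.2 hi)
      (fun j _ hj => by rw [hf j (by simpa using hj)]; simp) |>.symm, Finset.sum_range]
    refine Finset.sum_congr rfl fun j _ => ?_
    rw [hg, ← Polynomial.smul_eq_C_mul, map_smul]
  refine funext fun i => ?_
  change ((UM F m) i ᵥ* D.g) ᵥ* UM F m = D.W b i ᵥ* D.g
  have hUrow : UM F m i = e F m i + e F m ((i : ℕ) + 1) := by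
    have := vecMul_pathMat (fun _ => (1 : F)) (n := m + 1) (k := (i : ℕ)) i.2
    rw [one_smul, eN_eq_single i.2, Matrix.single_one_vecMul] at this
    rw [e, eN_eq_single i.2]
    exact this
  have hWrow : D.W b i = D.mu i • e F m i +
      (fun j : Fin (m + 1) => if (i : ℕ) = m then (if (j : ℕ) = m then 0 else b j) else D.A i j) := by
    funext j
    simp only [W, Pi.add_apply, Pi.smul_apply, e, eN, smul_eq_mul, mul_ite, mul_one, mul_zero, Fin.ext_iff, eq_comm]
  have he : e F m i ᵥ* D.g = φ (Q i) := by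
    rw [e, eN_eq_single i.2, Matrix.single_one_vecMul]; rfl
  rw [hUrow, hWrow, Matrix.add_vecMul, Matrix.add_vecMul, Matrix.add_vecMul, Matrix.smul_vecMul, he]
  rcases Nat.lt_or_ge (i : ℕ) m with hi | hi
  · have he1 : e F m ((i : ℕ) + 1) ᵥ* D.g = φ (Q (i + 1)) := by
      rw [e, eN_eq_single (show (i : ℕ) + 1 < m + 1 by omega), Matrix.single_one_vecMul]; rfl
    simp only [if_neg hi.ne]
    rw [he1, ← hX, ← hX, ← map_add, hsum (D.A i) i (by omega) (fun j hj => D.A_upper _ _ hj), ← map_smul, ← map_add]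
    congr 1
    simp only [Q, D.R_succ i hi, Polynomial.smul_eq_C_mul]
    obtain ⟨k, hk⟩ : ∃ k, m = (i : ℕ) + 1 + k := ⟨m - ((i : ℕ) + 1), by omega⟩
    rw [show m - (i : ℕ) = k + 1 by omega, show m - ((i : ℕ) + 1) = k by omega]
    rw [mul_add (X ^ k), Finset.mul_sum, add_mul, Finset.sum_mul]
    have : ∑ j ∈ Finset.range (i : ℕ), X ^ k * (C (D.A i j) * X ^ ((i : ℕ) - j) * D.R j) * X =
        ∑ j ∈ Finset.range (i : ℕ), C (D.A i j) * (X ^ (m - j) * D.R j) := by
      refine Finset.sum_congr rfl fun j hj => ?_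
      have := Finset.mem_range.1 hj
      rw [show m - j = k + ((i : ℕ) - j) + 1 by omega, pow_succ, pow_add]
      ring
    rw [this, pow_succ]
    ring
  · have him : (i : ℕ) = m := by omega
    have hfun : (fun j : Fin (m + 1) => if (i : ℕ) = m then (if (j : ℕ) = m then 0 else b j) else D.A i j) =
        fun j : Fin (m + 1) => (fun k => if m ≤ k then 0 else b k) (j : ℕ) := by
      funext j
      rw [if_pos him]
      refine if_congr ?_ rfl rfl
      omega
    rw [hfun, hsum (fun k => if m ≤ k then 0 else b k) m (by omega) (fun j hj => if_pos hj),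
      e_out (by omega), Matrix.zero_vecMul, Matrix.zero_vecMul, add_zero, ← hX, ← map_smul, ← map_add, ← sub_eq_zero, ← map_sub]
    have : Q i * X - (D.mu i • Q i + ∑ j ∈ Finset.range m, C (if m ≤ j then 0 else b j) * Q j) =
        ((-1) ^ m : F) • (X - 1) ^ (m + 1) := by
      simp only [Q, him, Nat.sub_self, pow_zero, one_mul, Polynomial.smul_eq_C_mul, map_pow, map_neg, map_one]
      rw [Finset.sum_congr rfl (fun j hj => by
        rw [if_neg (not_le.2 (Finset.mem_range.1 hj)), ← mul_assoc]), ← hb, lhs, pow_succ (-1 : F[X]) m]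
      ring
    rw [this, map_smul, hkill, smul_zero]

theorem W_mulVec_last (b : ℕ → F) : D.W b *ᵥ e F m m = D.mu m • e F m m := by
  rw [e, eN_eq_single (by omega), Matrix.mulVec_single_one]
  funext i
  simp only [Matrix.col_apply, W, Pi.smul_apply, Pi.single_apply, smul_eq_mul, Fin.ext_iff, mul_ite, mul_one, mul_zero]
  by_cases h : (i : ℕ) = m
  · simp [h]
  · rw [if_neg h, if_neg h, if_neg h, D.A_upper _ _ (by omega), add_zero]

theorem W_mulVec (b : ℕ → F) {j : ℕ} (hj : j < m) :
    D.W b *ᵥ e F m j = D.mu j • e F m j + b j • e F m m +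
      fun i : Fin (m + 1) => if (i : ℕ) = m then 0 else D.A i j := by
  rw [e, eN_eq_single (show j < m + 1 by omega), Matrix.mulVec_single_one]
  funext i
  simp only [Matrix.col_apply, W, Pi.smul_apply, Pi.add_apply, Pi.single_apply, eN, smul_eq_mul, Fin.ext_iff,
    mul_ite, mul_one, mul_zero]
  by_cases h : (i : ℕ) = m
  · simp [h, show m ≠ j by omega, show j ≠ m by omega]
  · by_cases h' : (i : ℕ) = j
    · subst h'; simp [h]
    · simp [h, h']

theorem vecMul_W_zero (b : ℕ → F) (hm : 1 ≤ m) : e F m 0 ᵥ* D.W b = D.mu 0 • e F m 0 := by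
  rw [e, eN_eq_single (show 0 < m + 1 by omega), Matrix.single_one_vecMul]
  funext j
  simp only [Matrix.row_apply, W, Pi.smul_apply, Pi.single_apply, smul_eq_mul, Fin.ext_iff]
  rw [if_neg (show 0 ≠ m by omega), D.A_upper _ _ (Nat.zero_le _)]
  by_cases h : (j : ℕ) = 0
  · simp [h]
  · simp [h, Ne.symm h]

end Data

theorem sign_revPerm (n : ℕ) :
    (Equiv.Perm.sign (Fin.revPerm : Equiv.Perm (Fin n))) = (-1) ^ (∑ j ∈ Finset.range n, j) := by
  rw [Equiv.Perm.sign_eq_prod_prod_Iio, ← Finset.prod_pow_eq_pow_sum, Finset.prod_range]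
  refine Finset.prod_congr rfl fun j _ => ?_
  rw [Finset.prod_eq_pow_card (b := -1), Fin.card_Iio]
  intro i hi
  have : i < j := Finset.mem_Iio.1 hi
  rw [if_neg (by simp only [Fin.revPerm_apply, Fin.rev_lt_rev]; exact not_lt.2 this.le)]

end Cfsg.Agent.Lib.KnownSimple.TwoUnip
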