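import Cfsg.Agent.Lib.Similarity.KerDim
import Mathlib

/-!
Unipotent classes of `GL_n(F)` correspond to partitions of `n` through the ranks of the powers
of `g - 1`.
-/

set_option autoImplicit false

namespace Cfsg.Agent.Lib.KnownSimple

open Polynomial Matrix Cfsg.Agent.Lib.Similarity

variable {F : Type*} [Field F]

/-- `Σ min k a` over the parts. -/
def minSum (s : Multiset ℕ) (k : ℕ) : ℕ := (s.map (min k)).sum

theorem minSum_succ (s : Multiset ℕ) (k : ℕ) :
    minSum s (k + 1) = minSum s k + s.countP (fun a => k < a) := by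
  induction s using Multiset.induction with
  | empty => simp [minSum]
  | cons a s ih =>
    simp only [minSum, Multiset.map_cons, Multiset.sum_cons, Multiset.countP_cons] at ih ⊢
    split_ifs <;> omega

theorem countP_lt_eq (s : Multiset ℕ) (k : ℕ) :
    s.countP (fun a => k < a) = s.count (k + 1) + s.countP (fun a => k + 1 < a) := by
  induction s using Multiset.induction with
  | empty => simp
  | cons a s ih =>
    simp only [Multiset.countP_cons, Multiset.count_cons] at ih ⊢
    split_ifs <;> omega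

theorem minSum_injective {s t : Multiset ℕ} (hs : ∀ a ∈ s, 0 < a) (ht : ∀ a ∈ t, 0 < a)
    (h : ∀ k, minSum s k = minSum t k) : s = t := by
  ext a
  rcases Nat.eq_zero_or_pos a with rfl | ha
  · rw [Multiset.count_eq_zero.2 (fun h0 => (hs 0 h0).false),
      Multiset.count_eq_zero.2 (fun h0 => (ht 0 h0).false)]
  obtain ⟨k, rfl⟩ : ∃ k, a = k + 1 := ⟨a - 1, by omega⟩
  have h1 := h (k + 1)
  have h2 := h (k + 1 + 1)
  rw [minSum_succ, minSum_succ, h k] at h1
  rw [minSum_succ, minSum_succ t (k + 1), h (k + 1)] at h2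
  have h3 := countP_lt_eq s k
  have h4 := countP_lt_eq t k
  omega

theorem minSum_of_le {s : Multiset ℕ} {k : ℕ} (h : ∀ a ∈ s, a ≤ k) : minSum s k = s.sum := by
  rw [minSum, Multiset.map_congr rfl (fun a ha => min_eq_right (h a ha)), Multiset.map_id']

/-- A nilpotent endomorphism of an `n`-space has a partition of `n` attached. -/
theorem exists_parts {n : ℕ} (A : Matrix (Fin n) (Fin n) F) (hA : IsNilpotent A) :
    ∃ μ : Nat.Partition n, ∀ k, (A ^ k).rank + minSum μ.parts k = n := by
  classical
  set f : Module.End F (Fin n → F) := Matrix.toLinAlgEquiv' A with hf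
  have hker : ∀ k, (A ^ k).rank + kerDim F (Module.AEval' f) (X ^ k) = n := by
    intro k
    rw [kerDim_aeval, map_pow, aeval_X, hf, ← map_pow]
    have := LinearMap.finrank_range_add_finrank_ker (Matrix.toLinAlgEquiv' (A ^ k))
    rw [Module.finrank_fin_fun] at this
    exact this
  obtain ⟨ι, _, p, hp, e, ⟨E⟩⟩ := Module.equiv_directSum_of_isTorsion (isTorsion_aeval f)
  let q : ι → F[X] := fun i => normalize (p i)
  have hq : ∀ i, Irreducible (q i) ∧ (q i).Monic := fun i =>
    ⟨(normalize_associated (p i)).symm.irreducible (hp i), Polynomial.monic_normalize (hp i).ne_zero⟩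
  have hspan : ∀ (a : F[X]) (m : ℕ),
      (Submodule.span F[X] {a ^ m} : Submodule F[X] F[X]) = Ideal.span {normalize a ^ m} := fun a m =>
    (Ideal.span_singleton_eq_span_singleton.2 ((normalize_associated a).symm.pow_pow))
  let M := fun i : ι => F[X] ⧸ Ideal.span {q i ^ e i}
  let E1 : Module.AEval' f ≃ₗ[F[X]] (∀ i, M i) :=
    E ≪≫ₗ DirectSum.linearEquivFunOnFintype F[X] ι _ ≪≫ₗ
      LinearEquiv.piCongrRight (fun i => Submodule.quotEquivOfEq _ _ (hspan (p i) (e i)))
  have : ∀ i, FiniteDimensional F (M i) := fun i => finite_quot ((hq i).2.pow _)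
  let s : Multiset ℕ := (Finset.univ.filter fun i => q i = X).val.map e
  have hsum : ∀ k, kerDim F (Module.AEval' f) (X ^ k) = minSum s k := by
    intro k
    rw [kerDim_congr E1, kerDim_pi,
      Finset.sum_congr rfl (fun i _ => kerDim_quot (hq i).1 (hq i).2 irreducible_X monic_X (e i) k),
      ← Finset.sum_filter, minSum, Multiset.map_map]
    refine Finset.sum_congr rfl fun i hi => ?_
    rw [(Finset.mem_filter.1 hi).2, natDegree_X, one_mul]
    rfl
  obtain ⟨N, hN⟩ := hA
  have htot : s.sum = n := by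
    have h1 := hker (N + s.sum)
    rw [pow_add, hN, zero_mul, Matrix.rank_zero, zero_add, hsum,
      minSum_of_le (fun a ha => (Multiset.le_sum_of_mem ha).trans (Nat.le_add_left _ N))] at h1
    exact h1
  refine ⟨Nat.Partition.ofSums n s htot, fun k => ?_⟩
  have hdrop : minSum (s.filter (· ≠ 0)) k = minSum s k := by
    induction s using Multiset.induction with
    | empty => rfl
    | cons a s ih =>
      by_cases ha : a = 0
      · subst ha; simp only [minSum] at ih ⊢; simp [ih]
      · simp only [minSum] at ih ⊢; simp [ha, ih]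
  have hparts : (Nat.Partition.ofSums n s htot).parts = s.filter (· ≠ 0) := rfl
  rw [hparts, hdrop, ← hsum]
  exact hker k

/-- Every partition is realised by a nilpotent matrix. -/
theorem exists_nilpotent_of_partition {n : ℕ} (μ : Nat.Partition n) :
    ∃ A : Matrix (Fin n) (Fin n) F, IsNilpotent A ∧ ∀ k, (A ^ k).rank + minSum μ.parts k = n := by
  classical
  let ι := {x // x ∈ μ.parts.toFinset} 
  let T := Σ a : ι, Fin (μ.parts.count a.1)
  let M := fun i : T => F[X] ⧸ Ideal.span {(X : F[X]) ^ i.1.1}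
  have : ∀ i, FiniteDimensional F (M i) := fun i => finite_quot (monic_X.pow _)
  have hmin : ∀ k, kerDim F (∀ i, M i) (X ^ k) = minSum μ.parts k := by
    intro k
    rw [kerDim_pi,
      Finset.sum_congr rfl (fun i _ => kerDim_quot (p := (X : F[X])) (r := X) irreducible_X monic_X
        irreducible_X monic_X i.1.1 k)]
    simp only [if_true, natDegree_X, one_mul]
    rw [Fintype.sum_sigma, minSum, Finset.sum_multiset_map_count]
    simp only [Finset.sum_const, Finset.card_univ, Fintype.card_fin, smul_eq_mul]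
    exact Finset.sum_coe_sort μ.parts.toFinset (fun a => μ.parts.count a * min k a)
  have hdim : Module.finrank F (∀ i, M i) = n := by
    have h := hmin n
    rw [minSum_of_le (fun a ha => by rw [← μ.parts_sum]; exact Multiset.le_sum_of_mem ha), μ.parts_sum] at h
    refine le_antisymm ?_ (h.symm.le.trans (Submodule.finrank_le _))
    rw [Module.finrank_pi_fintype, Finset.sum_congr rfl fun i _ => finrank_quot (monic_X.pow _)]
    simp only [natDegree_X_pow]
    refine le_of_eq ?_
    rw [Fintype.sum_sigma]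
    simp only [Finset.sum_const, Finset.card_univ, Fintype.card_fin, smul_eq_mul]
    rw [Finset.sum_coe_sort μ.parts.toFinset (fun a => μ.parts.count a * a)]
    conv_rhs => rw [← μ.parts_sum, ← Multiset.map_id' μ.parts, Finset.sum_multiset_map_count]
    simp
  let e : (∀ i, M i) ≃ₗ[F] (Fin n → F) := LinearEquiv.ofFinrankEq _ _ (by rw [hdim, Module.finrank_fin_fun])
  let g : Module.End F (∀ i, M i) := (LinearMap.lsmul F[X] (∀ i, M i) X).restrictScalars F
  have hg : ∀ k x, (g ^ k) x = (X : F[X]) ^ k • x := by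
    intro k
    induction k with
    | zero => simp
    | succ k ih => intro x; rw [pow_succ', Module.End.mul_apply, ih, pow_succ', mul_smul]; rfl
  refine ⟨Matrix.toLinAlgEquiv'.symm (e.conjAlgEquiv F g), ⟨n, ?_⟩, fun k => ?_⟩
  · have hgn : g ^ n = 0 := by
      refine LinearMap.ext fun x => funext fun i => ?_
      rw [hg, LinearMap.zero_apply, Pi.smul_apply, Pi.zero_apply]
      obtain ⟨y, hy⟩ := Submodule.Quotient.mk_surjective _ (x i)
      rw [← hy, ← Submodule.Quotient.mk_smul, Submodule.Quotient.mk_eq_zero, Ideal.mem_span_singleton,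
        smul_eq_mul]
      refine Dvd.dvd.mul_right (pow_dvd_pow _ ?_) _
      exact (Multiset.le_sum_of_mem (Multiset.mem_toFinset.1 i.1.2)).trans μ.parts_sum.le
    rw [← map_pow, ← map_pow, hgn, map_zero, map_zero]
  · rw [← map_pow, ← map_pow, ← hmin k]
    have h1 := LinearMap.finrank_range_add_finrank_ker (e.conjAlgEquiv F (g ^ k))
    rw [Module.finrank_fin_fun] at h1
    have hr : (Matrix.toLinAlgEquiv'.symm (e.conjAlgEquiv F (g ^ k))).rank =
        Module.finrank F (LinearMap.range (e.conjAlgEquiv F (g ^ k))) := by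
      conv_rhs => rw [← Matrix.toLinAlgEquiv'.apply_symm_apply (e.conjAlgEquiv F (g ^ k))]
      rfl
    have hk : Module.finrank F (LinearMap.ker (e.conjAlgEquiv F (g ^ k))) = kerDim F (∀ i, M i) (X ^ k) := by
      unfold kerDim
      symm
      refine LinearEquiv.finrank_eq (R := F) (e.ofSubmodules _ _ ?_)
      ext y
      obtain ⟨x, rfl⟩ := e.surjective y
      rw [Submodule.mem_map]
      simp only [Submodule.restrictScalars_mem, LinearMap.mem_ker, LinearMap.lsmul_apply,
        LinearEquiv.conjAlgEquiv_apply, LinearMap.comp_apply, LinearEquiv.coe_coe,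
        LinearEquiv.symm_apply_apply, LinearEquiv.map_eq_zero_iff, hg]
      constructor
      · rintro ⟨z, hz, hze⟩; rwa [← e.injective hze]
      · intro h; exact ⟨x, h, rfl⟩
    rw [hr, ← hk]
    exact h1

/-- Nilpotent matrices with equal rank sequences are similar. -/
theorem isConj_of_rank_pow {n : ℕ} {A B : Matrix (Fin n) (Fin n) F} (hA : IsNilpotent A)
    (hB : IsNilpotent B) (h : ∀ k, (A ^ k).rank = (B ^ k).rank) : IsConj A B := by
  refine isConj_of_rank A B fun r hr hrm k => ?_
  by_cases hX : r = X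
  · subst hX
    rw [map_pow, map_pow, aeval_X, aeval_X, h]
  have h0 : r.coeff 0 ≠ 0 := fun h0 => hX
    ((eq_of_monic_of_associated monic_X hrm
      (irreducible_X.associated_of_dvd hr (X_dvd_iff.2 h0))).symm)
  have key : ∀ C : Matrix (Fin n) (Fin n) F, IsNilpotent C → IsUnit (aeval C (r ^ k)) := by
    intro C hC
    rw [map_pow]
    refine IsUnit.pow _ ?_
    have hdec : aeval C r = algebraMap F (Matrix (Fin n) (Fin n) F) (r.coeff 0) + C * aeval C (divX r) := by
      conv_lhs => rw [← X_mul_divX_add r]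
      rw [map_add, map_mul, aeval_X, aeval_C, add_comm]
    rw [hdec]
    refine IsNilpotent.isUnit_add_left_of_commute ?_ ((IsUnit.mk0 _ h0).map _) ?_
    · exact (Commute.isNilpotent_mul_right (by
        have := (Commute.all (X : F[X]) (divX r)).map (aeval (R := F) C)
        rwa [aeval_X] at this) hC)
    · exact (Algebra.commute_algebraMap_right _ _)
  rw [Matrix.rank_of_isUnit _ (key A hA), Matrix.rank_of_isUnit _ (key B hB)]

/-- The unipotent classes correspond to the partitions. -/
theorem exists_partition_equiv (n : ℕ) (P : Matrix.GeneralLinearGroup (Fin n) F → Prop)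
    (Q : Nat.Partition n → Prop)
    (hP : ∀ g, P g → IsNilpotent ((g : Matrix (Fin n) (Fin n) F) - 1))
    (hPQ : ∀ (g : Matrix.GeneralLinearGroup (Fin n) F) (μ : Nat.Partition n),
      IsNilpotent ((g : Matrix (Fin n) (Fin n) F) - 1) →
      (∀ k, (((g : Matrix (Fin n) (Fin n) F) - 1) ^ k).rank + minSum μ.parts k = n) → (P g ↔ Q μ)) :
    Nat.card {C : ConjClasses (Matrix.GeneralLinearGroup (Fin n) F) //
      ∃ g, P g ∧ ConjClasses.mk g = C} = Nat.card {μ : Nat.Partition n // Q μ} := by
  classical
  have hreal : ∀ μ : Nat.Partition n, ∃ g : Matrix.GeneralLinearGroup (Fin n) F,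
      IsNilpotent ((g : Matrix (Fin n) (Fin n) F) - 1) ∧
      ∀ k, (((g : Matrix (Fin n) (Fin n) F) - 1) ^ k).rank + minSum μ.parts k = n := by
    intro μ
    obtain ⟨A, hA, hk⟩ := exists_nilpotent_of_partition (F := F) μ
    obtain ⟨u, hu⟩ := hA.isUnit_one_add
    exact ⟨u, by rw [hu, add_sub_cancel_left]; exact ⟨hA, hk⟩⟩
  choose g hgn hgk using hreal
  refine (Nat.card_eq_of_bijective
    (fun μ : {μ : Nat.Partition n // Q μ} => (⟨ConjClasses.mk (g μ.1), g μ.1,
      (hPQ _ _ (hgn _) (hgk _)).2 μ.2, rfl⟩ : {C : ConjClasses (Matrix.GeneralLinearGroup (Fin n) F) //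
        ∃ h, P h ∧ ConjClasses.mk h = C})) ⟨?_, ?_⟩).symm
  · intro μ ν h
    obtain ⟨c, hc⟩ := isConj_iff.1 (ConjClasses.mk_eq_mk_iff_isConj.1 (congrArg Subtype.val h))
    refine Subtype.ext (Nat.Partition.ext (minSum_injective (fun a ha => μ.1.parts_pos ha)
      (fun a ha => ν.1.parts_pos ha) fun k => ?_))
    have e1 := hgk μ.1 k
    have e2 := hgk ν.1 k
    have hrk : (((g ν.1 : Matrix (Fin n) (Fin n) F) - 1) ^ k).rank =
        (((g μ.1 : Matrix (Fin n) (Fin n) F) - 1) ^ k).rank := by
      have hsub : ((g ν.1 : Matrix (Fin n) (Fin n) F) - 1) =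
          (c : Matrix (Fin n) (Fin n) F) * ((g μ.1 : Matrix (Fin n) (Fin n) F) - 1) *
            ((c⁻¹ : Matrix.GeneralLinearGroup (Fin n) F) : Matrix (Fin n) (Fin n) F) := by
        rw [← hc, mul_sub, sub_mul, mul_one, ← Units.val_mul, ← Units.val_mul, ← Units.val_mul,
          mul_inv_cancel, Units.val_one]
      rw [hsub, Units.conj_pow]
      rw [Matrix.rank_mul_eq_left_of_isUnit_det _ _
          ((Matrix.isUnit_iff_isUnit_det _).1 (c⁻¹).isUnit),
        Matrix.rank_mul_eq_right_of_isUnit_det _ _ ((Matrix.isUnit_iff_isUnit_det _).1 c.isUnit)]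
    omega
  · rintro ⟨C, h, hh, rfl⟩
    obtain ⟨μ, hμ⟩ := exists_parts _ (hP h hh)
    refine ⟨⟨μ, (hPQ h μ (hP h hh) hμ).1 hh⟩, Subtype.ext (ConjClasses.mk_eq_mk_iff_isConj.2 ?_)⟩
    obtain ⟨c, hc⟩ := isConj_of_rank_pow (hgn μ) (hP h hh) (fun k => by
      have e1 := hgk μ k
      have e2 := hμ k
      omega)
    refine isConj_iff.2 ⟨c, ?_⟩
    rw [mul_inv_eq_iff_eq_mul]
    apply Units.ext
    have := hc.eq
    rw [mul_sub, sub_mul, mul_one, one_mul, sub_left_inj] at this
    exact this

end Cfsg.Agent.Lib.KnownSimple
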