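import Mathlib

/-!
Even automizers of abelian Sylow subgroups from an element of order `p` conjugate to its inverse,
and such elements in symmetric groups.
-/

namespace Cfsg.Agent.Lib.KnownSimple

/-- An abelian Sylow subgroup containing, up to conjugacy, a real element of odd prime order has
an automizer of even order. -/
theorem two_dvd_automizer_of_real_element {G : Type*} [Group G] [Finite G] {p : ℕ} [Fact p.Prime]
    (hp : p ≠ 2) (P : Sylow p G) (hP : IsMulCommutative (P : Subgroup G))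
    (x t : G) (hx : orderOf x = p) (ht : t * x * t⁻¹ = x⁻¹) :
    2 ∣ ((Subgroup.centralizer ((P : Subgroup G) : Set G)).subgroupOf
      (Subgroup.normalizer ((P : Subgroup G) : Set G))).index := by
  obtain ⟨Q, hQ⟩ := IsPGroup.exists_le_sylow (G := G) (P := Subgroup.zpowers x) (p := p)
    (IsPGroup.of_card (n := 1) (by rw [Nat.card_zpowers, hx, pow_one]))
  obtain ⟨g, hg⟩ := MulAction.exists_smul_eq G Q P
  set y := g * x * g⁻¹ with hy_def
  have hy : y ∈ P := by
    rw [← hg]
    exact Subgroup.smul_mem_pointwise_smul x (MulAut.conj g) _ (hQ (Subgroup.mem_zpowers x))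
  have hy' : (g * t⁻¹ * g⁻¹)⁻¹ * y * (g * t⁻¹ * g⁻¹) = y⁻¹ := by
    calc _ = g * (t * x * t⁻¹) * g⁻¹ := by rw [hy_def]; group
      _ = y⁻¹ := by rw [ht, hy_def]; group
  obtain ⟨n, hn, hconj⟩ := P.conj_eq_normalizer_conj_of_mem y (g * t⁻¹ * g⁻¹) hy
    (by rw [hy']; exact inv_mem hy)
  rw [hy'] at hconj
  rw [← Subgroup.normalizerMonoidHom_ker, Subgroup.index_ker]
  set f := (P : Subgroup G).normalizerMonoidHom with hf
  set m : (Subgroup.normalizer ((P : Subgroup G) : Set G) : Subgroup G) := ⟨n⁻¹, inv_mem hn⟩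
  set a := f m with ha
  have hay : a ⟨y, hy⟩ = (⟨y, hy⟩ : (P : Subgroup G))⁻¹ := by
    apply Subtype.ext
    change n⁻¹ * y * n⁻¹⁻¹ = y⁻¹
    rw [inv_inv, ← hconj]
  have hpow : ∀ k : ℕ, Odd k → (a ^ k) ⟨y, hy⟩ = (⟨y, hy⟩ : (P : Subgroup G))⁻¹ := by
    rintro k ⟨j, rfl⟩
    induction j with
    | zero => simpa using hay
    | succ j ih =>
      rw [show 2 * (j + 1) + 1 = 1 + 1 + (2 * j + 1) from by ring, pow_add, MulAut.mul_apply, ih,
        map_inv, pow_add, pow_one, MulAut.mul_apply, hay, map_inv, hay, inv_inv]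
  have heven : 2 ∣ orderOf a := by
    by_contra hodd
    have h := hpow (orderOf a) (Nat.odd_iff.2 (by omega))
    rw [pow_orderOf_eq_one, MulAut.one_apply] at h
    have h2 : y = y⁻¹ := congrArg Subtype.val h
    have h3 : orderOf y ∣ 2 := orderOf_dvd_of_pow_eq_one (by rw [pow_two]; nth_rw 1 [h2]; group)
    rw [hy_def, show g * x * g⁻¹ = MulAut.conj g x from rfl, (MulAut.conj g).orderOf_eq x,
      hx] at h3
    exact hp ((Nat.prime_dvd_prime_iff_eq Fact.out Nat.prime_two).1 h3)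
  refine heven.trans ?_
  have := orderOf_dvd_natCard (⟨a, ⟨m, rfl⟩⟩ : f.range)
  rwa [← Subgroup.orderOf_coe] at this

open Equiv in
/-- In `S_n`, `n ≥ k p`, a product of `k` disjoint `p`-cycles, both it and an inverting
permutation having sign a `k`-th power. -/
theorem exists_real_element_of_order_prime {p k n : ℕ} [Fact p.Prime] (hk : 0 < k) (hn : k * p ≤ n) :
    ∃ x t : Perm (Fin n), orderOf x = p ∧ t * x * t⁻¹ = x⁻¹ ∧
      (∃ ε : ℤˣ, Perm.sign x = ε ^ k) ∧ (∃ ε : ℤˣ, Perm.sign t = ε ^ k) := by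
  classical
  obtain ⟨ι⟩ : Nonempty (Fin k × ZMod p ↪ Fin n) :=
    Function.Embedding.nonempty_of_card_le (by simpa using hn)
  let s : Perm (Fin k × ZMod p) := prodCongrRight fun _ => Equiv.addRight (1 : ZMod p)
  let r : Perm (Fin k × ZMod p) := prodCongrRight fun _ => Equiv.neg (ZMod p)
  have hs : ∀ (m : ℕ) i a, (s ^ m) (i, a) = (i, a + (m : ZMod p)) := by
    intro m
    induction m with
    | zero => simp
    | succ m ih => intro i a; simp [pow_succ', Perm.mul_apply, ih, s, add_assoc]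
  have hord : orderOf s = p := by
    refine orderOf_eq_prime_iff.2 ⟨?_, ?_⟩
    · ext ⟨i, a⟩ <;> simp [hs]
    · intro h
      have := congrArg (fun e : Perm _ => (e (⟨0, hk⟩, 0)).2) h
      simp [s] at this
  let φ : Perm (Fin k × ZMod p) →* Perm (Fin n) := Perm.viaEmbeddingHom ι
  have hsign : ∀ e, Perm.sign (φ e) = Perm.sign e := fun e => by
    refine Eq.trans ?_ (Perm.sign_extendDomain e (Equiv.ofInjective ι ι.injective))
    simp [φ, Perm.viaEmbeddingHom, Perm.extendDomainHom]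
  refine ⟨φ s, φ r, ?_, ?_, ?_, ?_⟩
  · rw [orderOf_injective φ (Perm.viaEmbeddingHom_injective ι), hord]
  · rw [← map_inv φ r, ← map_mul, ← map_mul, ← map_inv φ s]
    congr 1
    rw [mul_inv_eq_iff_eq_mul, eq_inv_mul_iff_mul_eq]
    ext ⟨i, a⟩ <;> simp [s, r, Perm.mul_apply]
  · exact ⟨Perm.sign (Equiv.addRight (1 : ZMod p)), by simp [hsign, s, Perm.sign_prodCongrRight]⟩
  · exact ⟨Perm.sign (Equiv.neg (ZMod p)), by simp [hsign, r, Perm.sign_prodCongrRight]⟩

end Cfsg.Agent.Lib.KnownSimple
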