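import Mathlib

/-!
Two `p`-elements in general position: the local work on a single orbit.
-/

namespace Cfsg.Agent.FreePair

open Equiv Equiv.Perm
open scoped commutatorElement

variable {G H : Type*} [Group G] [Group H]

/-- The product is no `p`-element and the pair generates a non-solvable group. -/
def Good (p : ℕ) (a b : G) : Prop :=
  (∀ k : ℕ, (a * b) ^ (p ^ k) ≠ 1) ∧ ¬ Group.IsSolvable ↥(Subgroup.closure ({a, b} : Set G))

theorem Good.of_map (f : G →* H) {p : ℕ} {a b : G} (h : Good p (f a) (f b)) : Good p a b := by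
  refine ⟨fun k hk => h.1 k ?_, fun hs => h.2 ?_⟩
  · rw [← map_mul, ← map_pow, hk, map_one]
  · have e : Subgroup.closure ({f a, f b} : Set H) = (Subgroup.closure {a, b}).map f := by
      rw [MonoidHom.map_closure, Set.image_pair]
    rw [e]
    haveI := hs
    exact Group.isSolvable_of_surjective (f.subgroupMap_surjective (Subgroup.closure {a, b}))

theorem Good.map (f : G →* H) (hf : Function.Injective f) {p : ℕ} {a b : G} (h : Good p a b) :
    Good p (f a) (f b) := by
  refine ⟨fun k hk => h.1 k (hf ?_), fun hs => h.2 ?_⟩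
  · rw [map_one, ← hk, map_pow, map_mul]
  · have e : Subgroup.closure ({f a, f b} : Set H) = (Subgroup.closure {a, b}).map f := by
      rw [MonoidHom.map_closure, Set.image_pair]
    rw [e] at hs
    haveI := hs
    exact Group.isSolvable_of_isSolvable_injective
      (f := ((Subgroup.closure {a, b}).equivMapOfInjective f hf).toMonoidHom)
      (MulEquiv.injective _)

theorem Good.conj {p : ℕ} {a b : G} (g : G) (h : Good p a b) :
    Good p (g * a * g⁻¹) (g * b * g⁻¹) := by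
  simpa using h.map (MulAut.conj g).toMonoidHom (MulEquiv.injective _)

theorem not_solvable_of_cert (S : Subgroup G) {x y z : G} (hx : x ∈ S) (hy : y ∈ S) (hz : z ∈ S)
    (h1 : x ≠ 1) (key : x = z * ⁅x, y * x * y⁻¹⁆ * z⁻¹) : ¬ Group.IsSolvable ↥S := by
  refine not_isSolvable_of_mem_derivedSeries (g := (⟨x, hx⟩ : S)) (by simpa [Subtype.ext_iff] using h1)
    fun n => ?_
  induction n with
  | zero => exact Subgroup.mem_top _
  | succ n ih =>
    have e : (⟨x, hx⟩ : S) = ⟨z, hz⟩ * ⁅(⟨x, hx⟩ : S), ⟨y, hy⟩ * ⟨x, hx⟩ * (⟨y, hy⟩ : S)⁻¹⁆ *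
        (⟨z, hz⟩ : S)⁻¹ := by
      apply Subtype.ext
      simpa [commutatorElement_def] using key
    rw [e, (derivedSeries_normal _ _).mem_comm_iff, inv_mul_cancel_left]
    exact Subgroup.commutator_mem_commutator ih ((derivedSeries_normal _ _).conj_mem _ ih _)

/-- A certificate for `Good`. -/
theorem good_of_cert {p : ℕ} (hp : p.Prime) (a b : G) (q e : ℕ) (hq : q.Coprime p)
    (hqe : ((a * b) ^ e) ^ q = 1) (hne : (a * b) ^ e ≠ 1) {x y z : G}
    (hx : x ∈ Subgroup.closure ({a, b} : Set G)) (hy : y ∈ Subgroup.closure ({a, b} : Set G))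
    (hz : z ∈ Subgroup.closure ({a, b} : Set G)) (h1 : x ≠ 1)
    (key : x = z * ⁅x, y * x * y⁻¹⁆ * z⁻¹) : Good p a b := by
  refine ⟨fun k hk => hne ?_, not_solvable_of_cert _ hx hy hz h1 key⟩
  have h' : ((a * b) ^ e) ^ (p ^ k) = 1 := by rw [← pow_mul, mul_comm, pow_mul, hk, one_pow]
  have hg : ((a * b) ^ e) ^ (Nat.gcd q (p ^ k)) = 1 := pow_gcd_eq_one.mpr ⟨hqe, h'⟩
  have : Nat.gcd q (p ^ k) = 1 := Nat.Coprime.pow_right k hq
  simpa [this] using hg

variable {X : Type*} [DecidableEq X]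

theorem via_swap {Y : Type*} [DecidableEq Y] (ι : Y ↪ X) (i j : Y) :
    Equiv.Perm.viaEmbeddingHom ι (swap i j) = swap (ι i) (ι j) := by
  ext x
  rw [Equiv.Perm.viaEmbeddingHom_apply]
  by_cases hx : x ∈ Set.range ι
  · obtain ⟨y, rfl⟩ := hx
    rw [Equiv.Perm.viaEmbedding_apply, ι.injective.swap_apply]
  · rw [Equiv.Perm.viaEmbedding_apply_of_notMem _ _ _ hx, swap_apply_of_ne_of_ne]
    · rintro rfl; exact hx ⟨i, rfl⟩
    · rintro rfl; exact hx ⟨j, rfl⟩

/-- Two 3-cycles meeting in one point. -/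
theorem not_solvable_of_threeCycles (S : Subgroup (Equiv.Perm X)) (f : Fin 5 → X)
    (hf : Function.Injective f)
    (hs : swap (f 0) (f 1) * swap (f 1) (f 2) ∈ S) (ht : swap (f 2) (f 3) * swap (f 3) (f 4) ∈ S) :
    ¬ Group.IsSolvable ↥S := by
  let Φ := Equiv.Perm.viaEmbeddingHom (⟨f, hf⟩ : Fin 5 ↪ X)
  let A : Equiv.Perm (Fin 5) := swap 0 1 * swap 1 2
  let B : Equiv.Perm (Fin 5) := swap 2 3 * swap 3 4
  have hA : Φ A = swap (f 0) (f 1) * swap (f 1) (f 2) := by
    simp only [Φ, A, map_mul, via_swap]; rfl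
  have hB : Φ B = swap (f 2) (f 3) * swap (f 3) (f 4) := by
    simp only [Φ, B, map_mul, via_swap]; rfl
  have hAS : Φ A ∈ S := hA ▸ hs
  have hBS : Φ B ∈ S := hB ▸ ht
  have key : A = (B * B * A * A) * ⁅A, (B * A * B) * A * (B * A * B)⁻¹⁆ * (B * B * A * A)⁻¹ := by
    decide +kernel
  refine not_solvable_of_cert S (y := Φ B * Φ A * Φ B) (z := Φ B * Φ B * Φ A * Φ A) hAS
    (mul_mem (mul_mem hBS hAS) hBS) (mul_mem (mul_mem (mul_mem hBS hBS) hAS) hAS) ?_ ?_
  · intro h
    have : A = 1 := Equiv.Perm.viaEmbeddingHom_injective _ (h.trans (map_one Φ).symm)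
    revert this
    decide +kernel
  · have := congrArg Φ key
    simpa [map_mul, map_inv, map_commutatorElement] using this

theorem conj_swap (f : Equiv.Perm X) (x y : X) : f * swap x y * f⁻¹ = swap (f x) (f y) :=
  (Equiv.swap_apply_apply f x y).symm

/-- A double transposition and a cyclic shift. -/
theorem not_solvable_of_pair (S : Subgroup (Equiv.Perm X)) (c : Equiv.Perm X) (hc : c ∈ S) (x0 : X)
    (d e : ℕ)
    (h7 : Function.Injective fun i : Fin 7 =>
      (c ^ (![0, d, e, d + e, (d + e) + d, (d + e) + e, (d + e) + (d + e)] i)) x0)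
    (h5 : Function.Injective fun i : Fin 5 =>
      (c ^ (![e, e + d, e + 2 * d, e + 3 * d, e + 4 * d] i)) x0)
    (hD : swap x0 ((c ^ d) x0) * swap ((c ^ e) x0) ((c ^ (d + e)) x0) ∈ S) :
    ¬ Group.IsSolvable ↥S := by
  have hsh : ∀ (t a : ℕ), (c ^ t) ((c ^ a) x0) = (c ^ (t + a)) x0 := fun t a => by
    rw [← Equiv.Perm.mul_apply, ← pow_add]
  set D : Equiv.Perm X := swap x0 ((c ^ d) x0) * swap ((c ^ e) x0) ((c ^ (d + e)) x0) with hDdef
  set f : Fin 7 → X := fun i =>
      (c ^ (![0, d, e, d + e, (d + e) + d, (d + e) + e, (d + e) + (d + e)] i)) x0 with hfdef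
  have hD' : c ^ (d + e) * D * (c ^ (d + e))⁻¹ ∈ S :=
    mul_mem (mul_mem (pow_mem hc _) hD) (inv_mem (pow_mem hc _))
  have eD' : c ^ (d + e) * D * (c ^ (d + e))⁻¹ = swap (f 3) (f 4) * swap (f 5) (f 6) := by
    rw [hDdef, ← conj_mul, conj_swap, conj_swap]
    simp [hfdef, hsh]
  have eD : D = swap (f 0) (f 1) * swap (f 2) (f 3) := by
    simp [hDdef, hfdef]
  let Φ := Equiv.Perm.viaEmbeddingHom (⟨f, h7⟩ : Fin 7 ↪ X)
  have hΦ : ∀ i j, Φ (swap i j) = swap (f i) (f j) := fun i j => via_swap _ i j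
  have hx : swap (f 2) (f 3) * swap (f 3) (f 4) ∈ S := by
    have k7 : (swap (3 : Fin 7) 4 * swap 5 6 * (swap 0 1 * swap 2 3)) ^ 2 =
        swap 2 3 * swap 3 4 := by decide +kernel
    have := congrArg Φ k7
    simp only [map_pow, map_mul, hΦ] at this
    rw [← this, ← eD, ← eD']
    exact pow_mem (mul_mem hD' hD) 2
  have hx2 : c ^ (2 * d) * (swap (f 2) (f 3) * swap (f 3) (f 4)) * (c ^ (2 * d))⁻¹ ∈ S :=
    mul_mem (mul_mem (pow_mem hc _) hx) (inv_mem (pow_mem hc _))
  refine not_solvable_of_threeCycles S (fun i : Fin 5 =>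
      (c ^ (![e, e + d, e + 2 * d, e + 3 * d, e + 4 * d] i)) x0) h5 ?_ ?_
  · convert hx using 1
    simp [hfdef, add_comm, add_left_comm, two_mul]
  · convert hx2 using 1
    rw [← conj_mul, conj_swap, conj_swap]
    simp only [hfdef, hsh, Matrix.cons_val]
    ring_nf

end Cfsg.Agent.FreePair
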