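import Mathlib
import Cfsg.Agent.Lib.KnownSimple.FreePairCore

/-!
For a `p`-element `v` of a set of `p^k` points, a full cycle in general position to it.
The cycle is `z * v⁻¹`, where `z` runs through one point of every orbit of `v`.
-/

namespace Cfsg.Agent.FreePair

open Equiv Equiv.Perm
open scoped commutatorElement

variable {X : Type*} [DecidableEq X] [Fintype X]

/-- `z` is a cycle through exactly one point of every orbit of `v`. -/
structure Transversal (v z : Equiv.Perm X) (E : Finset X) : Prop where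
  cyc : z.IsCycleOn (E : Set X)
  fix : ∀ x, x ∉ E → z x = x
  rep : ∀ x, ∃ e ∈ E, v.SameCycle e x
  uniq : ∀ e ∈ E, ∀ f ∈ E, v.SameCycle e f → e = f

theorem exists_transversal (v : Equiv.Perm X) (l0 : List X)
    (h0 : l0.Pairwise fun a b => ¬ v.SameCycle a b) :
    ∃ (z : Equiv.Perm X) (E : Finset X), Transversal v z E ∧ (∀ x ∈ l0, x ∈ E) ∧
      ∀ a b l, l0 = a :: b :: l → z a = b := by
  classical
  let s : Setoid X := Equiv.Perm.SameCycle.setoid v
  let r : X → X := fun x => (Quotient.mk s x).out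
  have hr : ∀ x, v.SameCycle (r x) x := fun x => Quotient.mk_out (s := s) x
  have hr' : ∀ x y, v.SameCycle x y → r x = r y := fun x y h =>
    congrArg Quotient.out (Quotient.sound (s := s) h)
  let R : Finset X := (Finset.univ.filter fun x => r x = x ∧ ∀ e ∈ l0, ¬ v.SameCycle e x)
  have hnd0 : l0.Nodup := h0.imp fun h e => h (by subst e; exact SameCycle.refl _ _)
  have hnd1 : (l0.map r).Nodup := List.pairwise_map.2 (h0.imp (S := fun a b => r a ≠ r b) fun {a b} h e => h
    ((hr a).symm.trans (by rw [e]; exact hr b)))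
  let l := l0 ++ R.toList
  have hnd : l.Nodup := by
    refine List.nodup_append.2 ⟨hnd0, Finset.nodup_toList _, ?_⟩
    intro a ha b hb e
    subst e
    rw [Finset.mem_toList, Finset.mem_filter] at hb
    exact hb.2.2 a ha (SameCycle.refl v a)
  refine ⟨l.formPerm, l.toFinset, ⟨?_, ?_, ?_, ?_⟩, ?_, ?_⟩
  · have := hnd.isCycleOn_formPerm
    simpa [List.coe_toFinset] using this
  · intro x hx
    exact List.formPerm_apply_of_notMem (by simpa using hx)
  · intro x
    by_cases h : ∃ e ∈ l0, v.SameCycle e x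
    · obtain ⟨e, he, hex⟩ := h
      exact ⟨e, by simp [l, he], hex⟩
    · refine ⟨r x, ?_, hr x⟩
      have : r x ∈ R := by
        refine Finset.mem_filter.2 ⟨Finset.mem_univ _, hr' _ _ (hr x), fun e he hs => h ⟨e, he, hs.trans (hr x)⟩⟩
      simp [l, this]
  · intro e he f hf hef
    simp only [List.mem_toFinset, l, List.mem_append, Finset.mem_toList, R, Finset.mem_filter,
      Finset.mem_univ, true_and] at he hf
    rcases he with he | ⟨he1, he2⟩
    · rcases hf with hf | ⟨_, hf2⟩
      · exact List.inj_on_of_nodup_map hnd1 he hf (hr' _ _ hef)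
      · exact absurd hef (hf2 e he)
    · rcases hf with hf | ⟨hf1, _⟩
      · exact absurd hef.symm (he2 f hf)
      · rw [← he1, ← hf1]; exact hr' _ _ hef
  · intro x hx; simp [l, hx]
  · intro a b l' e
    have : l = a :: b :: (l' ++ R.toList) := by simp [l, e]
    rw [this] at hnd ⊢
    exact List.formPerm_apply_head a b _ hnd

variable {v z : Equiv.Perm X} {E : Finset X}

theorem Transversal.apply_of_notMem (h : Transversal v z E) {x : X} (hx : x ∉ E) :
    (z * v⁻¹) (v x) = x := by
  simp [h.fix x hx]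

theorem Transversal.isCycleOn (h : Transversal v z E) :
    (z * v⁻¹).IsCycleOn (Set.univ : Set X) := by
  set c := z * v⁻¹ with hc
  have h1 : ∀ x, c (v x) = z x := by simp [hc]
  have h2 : ∀ x, c.SameCycle (v x) (z x) := fun x => ⟨1, by simpa using h1 x⟩
  have key : ∀ e ∈ E, ∀ i : ℕ, c.SameCycle ((v ^ (i + 1)) e) (z e) := by
    intro e he i
    induction i with
    | zero => simpa using h2 e
    | succ i ih =>
      by_cases hm : (v ^ (i + 1)) e ∈ E
      · have := h.uniq e he _ hm (sameCycle_pow_right.2 (SameCycle.refl v e))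
        rw [pow_succ' v (i + 1), Equiv.Perm.mul_apply, ← this]
        exact h2 e
      · have h3 := h2 ((v ^ (i + 1)) e)
        rw [h.fix _ hm] at h3
        rw [pow_succ' v (i + 1), Equiv.Perm.mul_apply]
        exact h3.trans ih
  have hez : ∀ e ∈ E, c.SameCycle e (z e) := by
    intro e he
    have := key e he (orderOf v - 1)
    rwa [Nat.sub_add_cancel (orderOf_pos v), pow_orderOf_eq_one] at this
  have hpow : ∀ e ∈ E, ∀ i : ℕ, (z ^ i) e ∈ E ∧ c.SameCycle e ((z ^ i) e) := by
    intro e he i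
    induction i with
    | zero => exact ⟨by simpa using he, by simpa using SameCycle.refl c e⟩
    | succ i ih =>
      rw [pow_succ', Equiv.Perm.mul_apply]
      exact ⟨h.cyc.apply_mem_iff.2 ih.1, ih.2.trans (hez _ ih.1)⟩
  have hrep : ∀ x, ∃ e ∈ E, c.SameCycle e x := by
    intro x
    obtain ⟨e, he, hs⟩ := h.rep x
    obtain ⟨i, -, -, hi⟩ := hs.exists_pow_eq v
    refine ⟨e, he, ?_⟩
    rcases i with _ | i
    · subst hi; simpa using SameCycle.refl c e
    · rw [← hi]; exact (hez e he).trans (key e he i).symm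
  refine ⟨Set.bijOn_univ.2 c.bijective, fun x _ y _ => ?_⟩
  obtain ⟨e, he, hx⟩ := hrep x
  obtain ⟨f, hf, hy⟩ := hrep y
  obtain ⟨i, hi⟩ := Equiv.Perm.IsCycleOn.exists_pow_eq' (f := z) E.finite_toSet h.cyc he hf
  have := (hpow e he i).2
  rw [hi] at this
  exact hx.symm.trans (this.trans hy)

theorem pow_apply_inj {c : Equiv.Perm X} (hc : c.IsCycleOn (Set.univ : Set X)) (x : X) {a b : ℕ}
    (h : (c ^ a) x = (c ^ b) x) : a % Fintype.card X = b % Fintype.card X := by
  have hc' : c.IsCycleOn ((Finset.univ : Finset X) : Set X) := by simpa using hc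
  simpa [Nat.ModEq] using (hc'.pow_apply_eq_pow_apply (Finset.mem_univ x)).1 h

theorem sign_of_pow {g : Equiv.Perm X} {n : ℕ} (hn : Odd n) (h : g ^ n = 1) :
    Equiv.Perm.sign g = 1 := by
  rcases Int.units_eq_one_or (Equiv.Perm.sign g) with e | e
  · exact e
  · exfalso
    have := congrArg Equiv.Perm.sign h
    rw [map_pow, map_one, e, hn.neg_one_pow] at this
    exact absurd this (by decide)

theorem isCycle_of_univ {c : Equiv.Perm X} (hc : c.IsCycleOn (Set.univ : Set X))
    (hX : 1 < Fintype.card X) : c.IsCycle ∧ c.support = Finset.univ := by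
  have : Nontrivial X := Fintype.one_lt_card_iff_nontrivial.1 hX
  have hne : ∀ x, c x ≠ x := fun x => hc.apply_ne Set.nontrivial_univ (Set.mem_univ x)
  exact ⟨isCycle_iff_exists_isCycleOn.2 ⟨Set.univ, Set.nontrivial_univ, hc, fun x _ => Set.mem_univ x⟩,
    Finset.eq_univ_of_forall fun x => mem_support.2 (hne x)⟩

theorem Transversal.pow_card (h : Transversal v z E) : z ^ E.card = 1 := by
  ext x
  by_cases hx : x ∈ E
  · simpa using h.cyc.pow_card_apply hx
  · exact Function.IsFixedPt.perm_pow (h.fix x hx) _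

theorem Transversal.odd_card (h : Transversal v z E) (hv : ∃ n, Odd n ∧ v ^ n = 1)
    (hX : Odd (Fintype.card X)) : Odd E.card := by
  have : Nonempty X := Fintype.card_pos_iff.1 hX.pos
  obtain ⟨e0, he0, -⟩ := h.rep (Classical.arbitrary X)
  have hcard : 1 ≤ E.card := Finset.card_pos.2 ⟨e0, he0⟩
  rcases hcard.eq_or_lt with e | h1
  · rw [← e]; exact odd_one
  have hnt : (E : Set X).Nontrivial := Finset.one_lt_card_iff_nontrivial.1 h1
  have hzc : z.IsCycle := isCycle_iff_exists_isCycleOn.2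
    ⟨E, hnt, h.cyc, fun x hx => by_contra fun hm => hx (h.fix x hm)⟩
  have hsupp : z.support = E := by
    ext x
    exact ⟨fun hx => by_contra fun hm => mem_support.1 hx (h.fix x hm),
      fun hx => mem_support.2 (h.cyc.apply_ne hnt hx)⟩
  have hX1 : 1 < Fintype.card X := lt_of_lt_of_le h1 (Finset.card_le_univ _)
  obtain ⟨hc, hcs⟩ := isCycle_of_univ h.isCycleOn hX1
  have hsc : Equiv.Perm.sign (z * v⁻¹) = 1 := by
    rw [hc.sign, hcs, Finset.card_univ, hX.neg_one_pow, neg_neg]
  obtain ⟨n, hn, hvn⟩ := hv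
  rw [map_mul, map_inv, sign_of_pow hn hvn, inv_one, mul_one, hzc.sign, hsupp] at hsc
  rcases Nat.even_or_odd E.card with he | ho
  · rw [he.neg_one_pow] at hsc
    exact absurd hsc (by decide)
  · exact ho

theorem swap_comm_of_ne {a b c d : X} (h1 : a ≠ c) (h2 : a ≠ d) (h3 : b ≠ c) (h4 : b ≠ d) :
    swap a b * swap c d = swap c d * swap a b := by
  have : swap a b * swap c d * (swap a b)⁻¹ = swap c d := by
    rw [conj_swap, swap_apply_of_ne_of_ne h1.symm h3.symm, swap_apply_of_ne_of_ne h2.symm h4.symm]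
  exact mul_inv_eq_iff_eq_mul.1 this

/-- The product with a conjugate of `v` under a transposition. -/
theorem Transversal.good_swap (h : Transversal v z E) {p : ℕ} (hp : p.Prime) (hp3 : 3 ≤ p)
    (hv : ∃ n, Odd n ∧ v ^ n = 1) (hX : Odd (Fintype.card X))
    (a b : X) (ha : a ∉ E) (hb : b ∉ E) (ha' : v⁻¹ a ∉ E) (hb' : v⁻¹ b ∉ E)
    (hne : a ≠ b) (h1 : v⁻¹ a ≠ a) (h2 : v⁻¹ a ≠ b) (h3 : v⁻¹ b ≠ a) (h4 : v⁻¹ b ≠ b)
    (x0 : X) (d e : ℕ)
    (h7 : Function.Injective fun i : Fin 7 =>
      ![0, d, e, d + e, (d + e) + d, (d + e) + e, (d + e) + (d + e)] i % Fintype.card X)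
    (h5 : Function.Injective fun i : Fin 5 =>
      ![e, e + d, e + 2 * d, e + 3 * d, e + 4 * d] i % Fintype.card X)
    (hD : swap (v⁻¹ a) (v⁻¹ b) * swap a b = swap x0 (((z * v⁻¹) ^ d) x0) *
      swap (((z * v⁻¹) ^ e) x0) (((z * v⁻¹) ^ (d + e)) x0)) :
    Good p (z * v⁻¹) (swap a b * v * (swap a b)⁻¹) := by
  set c := z * v⁻¹ with hc
  set D := swap (v⁻¹ a) (v⁻¹ b) * swap a b with hDdef
  have hw : swap a b * v * (swap a b)⁻¹ = v * D := by
    rw [hDdef, ← conj_swap v⁻¹ a b, Equiv.swap_inv]; group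
  have hzD : c * (swap a b * v * (swap a b)⁻¹) = z * D := by
    rw [hw, hc]; group
  have hcomm : Commute z D := by
    have hzz : ∀ x y, x ∉ E → y ∉ E → Commute z (swap x y) := fun x y hx hy => by
      refine mul_inv_eq_iff_eq_mul.1 ?_
      rw [conj_swap, h.fix x hx, h.fix y hy]
    exact (hzz _ _ ha' hb').mul_right (hzz _ _ ha hb)
  have hD2 : D * D = 1 := by
    have := swap_comm_of_ne h1 h2 h3 h4
    rw [hDdef, mul_assoc, ← mul_assoc (swap a b), ← this, mul_assoc, Equiv.swap_mul_self, mul_one,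
      Equiv.swap_mul_self]
  have hodd : ∀ n, Odd n → D ^ n = D := by
    rintro n ⟨m, rfl⟩
    rw [pow_succ, pow_mul, pow_two, hD2, one_pow, one_mul]
  constructor
  · intro k hk
    rw [hzD, hcomm.mul_pow, hodd _ ((hp.odd_of_ne_two (by omega)).pow)] at hk
    have := congrArg (fun f : Equiv.Perm X => f a) hk
    simp only [Equiv.Perm.mul_apply, hDdef, Equiv.Perm.one_apply, swap_apply_left] at this
    rw [swap_apply_of_ne_of_ne h2.symm h4.symm, Function.IsFixedPt.perm_pow (h.fix b hb) _] at this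
    exact hne this.symm
  · set S := Subgroup.closure ({c, swap a b * v * (swap a b)⁻¹} : Set (Equiv.Perm X))
    have hcS : c ∈ S := Subgroup.subset_closure (by simp)
    have hwS : swap a b * v * (swap a b)⁻¹ ∈ S := Subgroup.subset_closure (by simp)
    have hDS : D ∈ S := by
      have := pow_mem (mul_mem hcS hwS) E.card
      rwa [hzD, hcomm.mul_pow, h.pow_card, one_mul, hodd _ (h.odd_card hv hX)] at this
    refine not_solvable_of_pair S c hcS x0 d e ?_ ?_ (hD ▸ hDS)
    · exact fun i j hij => h7 (pow_apply_inj h.isCycleOn x0 hij)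
    · exact fun i j hij => h5 (pow_apply_inj h.isCycleOn x0 hij)

theorem good_of_full {p : ℕ} {c c0 w : Equiv.Perm X} (hc : c.IsCycleOn (Set.univ : Set X))
    (hc0 : c0.IsCycle) (hc0s : c0.support = Finset.univ) (hX : 1 < Fintype.card X)
    (h : ∃ σ, Good p c (σ * w * σ⁻¹)) : ∃ σ, Good p c0 (σ * w * σ⁻¹) := by
  obtain ⟨σ, hσ⟩ := h
  obtain ⟨hc1, hc2⟩ := isCycle_of_univ hc hX
  obtain ⟨ρ, hρ⟩ := isConj_iff.1 ((hc1.isConj_iff hc0).2 (by rw [hc2, hc0s]))
  refine ⟨ρ * σ, ?_⟩
  have := hσ.conj ρ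
  rw [hρ] at this
  simpa [mul_assoc, _root_.mul_inv_rev] using this

end Cfsg.Agent.FreePair
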