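import Mathlib
import Cfsg.Agent.Lib.KnownSimple.FreePairCycle

/-!
On a single orbit: every non-trivial `p`-element has a conjugate in general position to a full cycle.
-/

namespace Cfsg.Agent.FreePair

open Equiv Equiv.Perm
open scoped commutatorElement

variable {X : Type*} [DecidableEq X] [Fintype X]

noncomputable def per (v : Equiv.Perm X) (x : X) : ℕ := MulAction.period v x

theorem pow_succ_apply (g : Equiv.Perm X) (m : ℕ) (x : X) : (g ^ (m + 1)) x = g ((g ^ m) x) := by
  rw [pow_succ']; rfl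

theorem pow_add_apply (g : Equiv.Perm X) (m n : ℕ) (x : X) : (g ^ m) ((g ^ n) x) = (g ^ (m + n)) x := by
  rw [pow_add]; rfl

theorem per_dvd {v : Equiv.Perm X} {x : X} {n : ℕ} : (v ^ n) x = x ↔ per v x ∣ n :=
  MulAction.pow_smul_eq_iff_period_dvd (m := v) (a := x)

theorem per_pow {v : Equiv.Perm X} {x : X} {i j : ℕ} (hij : i < j) (hj : j < i + per v x) :
    (v ^ i) x ≠ (v ^ j) x := by
  intro e
  have h : (v ^ i) ((v ^ (j - i)) x) = (v ^ i) x := by
    rw [← Equiv.Perm.mul_apply, ← pow_add, Nat.add_sub_cancel' hij.le, e]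
  have := per_dvd.1 ((v ^ i).injective h)
  have := Nat.le_of_dvd (by omega) this
  omega

theorem inj_nums {M : ℕ} (h : Odd M) (h7 : 7 ≤ M) :
    (Function.Injective fun i : Fin 7 => ![0, 2, 1, 3, 5, 4, 6] i % M) ∧
    (Function.Injective fun i : Fin 5 => ![1, 3, 5, 7, 9] i % M) ∧
    (Function.Injective fun i : Fin 7 => ![0, 4, 2, 6, 10, 8, 12] i % M) ∧
    (Function.Injective fun i : Fin 5 => ![2, 6, 10, 14, 18] i % M) := by
  by_cases hM : 19 ≤ M
  · refine ⟨?_, ?_, ?_, ?_⟩ <;> intro i j hij <;> fin_cases i <;> fin_cases j <;>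
      simp_all [Nat.mod_eq_of_lt (show (0 : ℕ) < M by omega)] <;>
      (repeat' rw [Nat.mod_eq_of_lt (by omega)] at hij) <;> omega
  · obtain ⟨r, rfl⟩ := h
    have : r < 9 := by omega
    have : 3 ≤ r := by omega
    interval_cases r <;> decide

theorem inj_nums_three {M : ℕ} (hM : 14 ≤ M) :
    (Function.Injective fun i : Fin 7 => ![0, 3, 1, 4, 7, 5, 8] i % M) ∧
    (Function.Injective fun i : Fin 5 => ![1, 4, 7, 10, 13] i % M) := by
  refine ⟨?_, ?_⟩ <;> intro i j hij <;> fin_cases i <;> fin_cases j <;>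
      simp_all <;>
      (repeat' rw [Nat.mod_eq_of_lt (by omega)] at hij) <;> omega

variable {v z : Equiv.Perm X} {E : Finset X}

theorem Transversal.notMem (h : Transversal v z E) {e : X} (he : e ∈ E) (i : ℕ)
    (hne : (v ^ i) e ≠ e) : (v ^ i) e ∉ E :=
  fun hm => hne (h.uniq e he _ hm (sameCycle_pow_right.2 (SameCycle.refl v e))).symm

theorem Transversal.step (h : Transversal v z E) {e : X} (he : e ∈ E) (i : ℕ)
    (hne : (v ^ i) e ≠ e) : (z * v⁻¹) ((v ^ (i + 1)) e) = (v ^ i) e := by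
  rw [pow_succ_apply v i e]
  exact h.apply_of_notMem (h.notMem he i hne)

theorem inv_pow_succ (v : Equiv.Perm X) (e : X) (i : ℕ) : v⁻¹ ((v ^ (i + 1)) e) = (v ^ i) e := by
  rw [pow_succ', Equiv.Perm.mul_apply, ← Equiv.Perm.mul_apply, inv_mul_cancel, Equiv.Perm.one_apply]

/-- An orbit with at least five points. -/
theorem exists_good_long {p : ℕ} (hp : p.Prime) (hp3 : 3 ≤ p) (hv : ∃ n, Odd n ∧ v ^ n = 1)
    (hX : Odd (Fintype.card X)) (h7 : 7 ≤ Fintype.card X) (e : X) (he : 5 ≤ per v e) :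
    ∃ c : Equiv.Perm X, c.IsCycleOn (Set.univ : Set X) ∧
      ∃ σ, Good p c (σ * v * σ⁻¹) := by
  obtain ⟨z, E, h, hmem, -⟩ := exists_transversal v [e] (List.pairwise_singleton _ _)
  have heE : e ∈ E := hmem e (by simp)
  have hne : ∀ i, 1 ≤ i → i ≤ 4 → (v ^ i) e ≠ e := fun i h1 h4 =>
    (per_pow (v := v) (x := e) (i := 0) (j := i) (by omega) (by omega)).symm.trans_eq (by simp)
  have hd : ∀ i j, i < j → j ≤ 4 → (v ^ i) e ≠ (v ^ j) e := fun i j h1 h4 =>
    per_pow h1 (by omega)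
  refine ⟨z * v⁻¹, h.isCycleOn, swap ((v ^ 2) e) ((v ^ 4) e), ?_⟩
  have s3 := h.step heE 3 (hne 3 (by omega) (by omega))
  have s2 := h.step heE 2 (hne 2 (by omega) (by omega))
  have s1 := h.step heE 1 (hne 1 (by omega) (by omega))
  have n := fun i h1 h4 => h.notMem heE i (hne i h1 h4)
  refine h.good_swap hp hp3 hv hX _ _ (n 2 (by omega) (by omega)) (n 4 (by omega) (by omega))
    ?_ ?_ (hd 2 4 (by omega) le_rfl) ?_ ?_ ?_ ?_ ((v ^ 4) e) 2 1
    (inj_nums hX h7).1 (inj_nums hX h7).2.1 ?_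
  · rw [inv_pow_succ]; exact n 1 le_rfl (by omega)
  · rw [inv_pow_succ]; exact n 3 (by omega) (by omega)
  · rw [inv_pow_succ]; exact hd 1 2 (by omega) (by omega)
  · rw [inv_pow_succ]; exact hd 1 4 (by omega) (by omega)
  · rw [inv_pow_succ]; exact (hd 2 3 (by omega) (by omega)).symm
  · rw [inv_pow_succ]; exact hd 3 4 (by omega) (by omega)
  · rw [inv_pow_succ, inv_pow_succ]
    set c := z * v⁻¹
    have c1 : (c ^ 1) ((v ^ 4) e) = (v ^ 3) e := by rw [pow_one]; exact s3
    have c2 : (c ^ 2) ((v ^ 4) e) = (v ^ 2) e := by rw [pow_succ_apply c 1, c1]; exact s2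
    have c3 : (c ^ (2 + 1)) ((v ^ 4) e) = (v ^ 1) e := by rw [pow_succ_apply c 2, c2]; exact s1
    rw [c1, c2, c3, swap_comm ((v ^ 4) e) ((v ^ 2) e), swap_comm ((v ^ 3) e) ((v ^ 1) e)]
    exact swap_comm_of_ne (hd 1 2 (by omega) (by omega)) (hd 1 4 (by omega) le_rfl)
      (hd 2 3 (by omega) (by omega)).symm (hd 3 4 (by omega) le_rfl)

/-- Two orbits of three points. -/
theorem exists_good_two {p : ℕ} (hp : p.Prime) (hp3 : 3 ≤ p) (hv : ∃ n, Odd n ∧ v ^ n = 1)
    (hX : Odd (Fintype.card X)) (h14 : 14 ≤ Fintype.card X) (e f : X) (he : per v e = 3)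
    (hf : per v f = 3) (hef : ¬ v.SameCycle e f) :
    ∃ c : Equiv.Perm X, c.IsCycleOn (Set.univ : Set X) ∧
      ∃ σ, Good p c (σ * v * σ⁻¹) := by
  obtain ⟨z, E, h, hmem, hz⟩ := exists_transversal v [e, f] (by simpa using hef)
  have heE : e ∈ E := hmem e (by simp)
  have hfE : f ∈ E := hmem f (by simp)
  have hze : z e = f := hz e f [] rfl
  have hd : ∀ x, per v x = 3 → ∀ i j, i < j → j ≤ 2 → (v ^ i) x ≠ (v ^ j) x := fun x hx i j h1 h4 =>
    per_pow h1 (by omega)
  have hne : ∀ x, per v x = 3 → ∀ i, 1 ≤ i → i ≤ 2 → (v ^ i) x ≠ x := fun x hx i h1 h2 =>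
    (hd x hx 0 i (by omega) h2).symm.trans_eq (by simp)
  have hne' : ∀ i j, (v ^ i) e ≠ (v ^ j) f := fun i j hh => hef
    ((sameCycle_pow_right.2 (SameCycle.refl v e)).trans
      (hh ▸ (sameCycle_pow_right.2 (SameCycle.refl v f)).symm))
  have hinv : v⁻¹ f = (v ^ 2) f := by
    rw [Equiv.Perm.inv_def, Equiv.symm_apply_eq, ← Equiv.Perm.mul_apply, ← pow_succ']
    exact ((per_dvd.2 (by rw [hf])).symm : f = (v ^ (2 + 1)) f)
  refine ⟨z * v⁻¹, h.isCycleOn, swap ((v ^ 2) e) ((v ^ 2) f), ?_⟩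
  have s1 := h.step heE 1 (hne e he 1 le_rfl (by omega))
  have s1' := h.step hfE 1 (hne f hf 1 le_rfl (by omega))
  have s0 : (z * v⁻¹) ((v ^ 1) e) = f := by simp [hze]
  have s2 : (z * v⁻¹) f = (v ^ 2) f := by
    rw [Equiv.Perm.mul_apply, hinv, h.fix _ (h.notMem hfE 2 (hne f hf 2 (by omega) le_rfl))]
  refine h.good_swap hp hp3 hv hX _ _ (h.notMem heE 2 (hne e he 2 (by omega) le_rfl))
    (h.notMem hfE 2 (hne f hf 2 (by omega) le_rfl)) ?_ ?_ (hne' 2 2) ?_ ?_ ?_ ?_ ((v ^ 2) e) 3 1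
    (inj_nums_three h14).1 (inj_nums_three h14).2 ?_
  · rw [inv_pow_succ]; exact h.notMem heE 1 (hne e he 1 le_rfl (by omega))
  · rw [inv_pow_succ]; exact h.notMem hfE 1 (hne f hf 1 le_rfl (by omega))
  · rw [inv_pow_succ]; exact hd e he 1 2 (by omega) le_rfl
  · rw [inv_pow_succ]; exact hne' 1 2
  · rw [inv_pow_succ]; exact (hne' 2 1).symm
  · rw [inv_pow_succ]; exact hd f hf 1 2 (by omega) le_rfl
  · rw [inv_pow_succ, inv_pow_succ]
    set c := z * v⁻¹
    have c1 : (c ^ 1) ((v ^ 2) e) = (v ^ 1) e := by rw [pow_one]; exact s1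
    have c3 : (c ^ 3) ((v ^ 2) e) = (v ^ 2) f := by
      rw [pow_succ_apply c 2, pow_succ_apply c 1, c1, s0, s2]
    have c4 : (c ^ (3 + 1)) ((v ^ 2) e) = (v ^ 1) f := by
      rw [pow_succ_apply c 3, c3]; exact s1'
    rw [c3, c4, c1]
    exact swap_comm_of_ne (hd e he 1 2 (by omega) le_rfl) (hne' 1 2) (hne' 2 1).symm
      (hd f hf 1 2 (by omega) le_rfl)

/-- A single three-cycle. -/
theorem exists_good_one (hcard : ∃ k, 0 < k ∧ Fintype.card X = 3 ^ k) (h7 : 7 ≤ Fintype.card X) (e : X)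
    (he : per v e = 3) (hrest : ∀ x, v x ≠ x → v.SameCycle e x) :
    ∃ c : Equiv.Perm X, c.IsCycleOn (Set.univ : Set X) ∧ ∃ σ, Good 3 c (σ * v * σ⁻¹) := by
  have h01 : e ≠ (v ^ 1) e := by simpa using per_pow (v := v) (x := e) (i := 0) (j := 1) (by omega) (by omega)
  have h02 : e ≠ (v ^ 2) e := by simpa using per_pow (v := v) (x := e) (i := 0) (j := 2) (by omega) (by omega)
  have h12 : (v ^ 1) e ≠ (v ^ 2) e := per_pow (by omega) (by omega)
  have h3 : (v ^ 3) e = e := per_dvd.2 (by rw [he])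
  have horb : ∀ x, v.SameCycle e x → x = e ∨ x = (v ^ 1) e ∨ x = (v ^ 2) e := by
    intro x hs
    obtain ⟨i, -, -, hi⟩ := hs.exists_pow_eq v
    have : ∀ m, (v ^ (3 * m)) e = e := fun m => per_dvd.2 (by rw [he]; exact dvd_mul_right 3 m)
    have hi' : (v ^ (i % 3)) e = x := by
      conv_rhs => rw [← hi, ← Nat.mod_add_div i 3, pow_add, Equiv.Perm.mul_apply, this]
    have : i % 3 = 0 ∨ i % 3 = 1 ∨ i % 3 = 2 := by omega
    rcases this with r | r | r <;> rw [r] at hi'
    · left; simpa using hi'.symm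
    · right; left; exact hi'.symm
    · right; right; exact hi'.symm
  obtain ⟨z, E, h, hmem, -⟩ := exists_transversal v [e] (List.pairwise_singleton _ _)
  have heE : e ∈ E := hmem e (by simp)
  have n1 := h.notMem heE 1 h01.symm
  have n2 := h.notMem heE 2 h02.symm
  have hE : E = (Finset.univ.erase ((v ^ 1) e)).erase ((v ^ 2) e) := by
    ext x
    simp only [Finset.mem_erase, Finset.mem_univ, and_true]
    refine ⟨fun hx => ⟨fun q => n2 (q ▸ hx), fun q => n1 (q ▸ hx)⟩, fun hx => ?_⟩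
    by_cases hs : v.SameCycle e x
    · rcases horb x hs with r | r | r
      · rwa [r]
      · exact absurd r hx.2
      · exact absurd r hx.1
    · have hfx : v x = x := by_contra fun q => hs (hrest x q)
      obtain ⟨f, hf, hfs⟩ := h.rep x
      rwa [← hfs.symm.eq_of_left (Function.IsFixedPt.eq hfx)] at hf
  have hcardE : E.card = Fintype.card X - 2 := by
    rw [hE, Finset.card_erase_of_mem (Finset.mem_erase.2 ⟨h12.symm, Finset.mem_univ _⟩),
      Finset.card_erase_of_mem (Finset.mem_univ _),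
      Finset.card_univ]
    omega
  refine ⟨z * v⁻¹, h.isCycleOn, 1, ?_⟩
  simp only [inv_one, mul_one, one_mul]
  constructor
  · intro k hk
    rw [inv_mul_cancel_right] at hk
    have : (z ^ (3 ^ k)) e = e := by rw [hk]; rfl
    rw [h.cyc.pow_apply_eq heE, hcardE] at this
    obtain ⟨j, -, hj⟩ := (Nat.dvd_prime_pow Nat.prime_three).1 this
    obtain ⟨l, hl, hcd⟩ := hcard
    have h3M : 3 ∣ Fintype.card X := hcd ▸ dvd_pow_self 3 hl.ne'
    rcases j with _ | j
    · simp at hj; omega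
    · have : 3 ∣ Fintype.card X - 2 := hj ▸ dvd_pow_self 3 (Nat.succ_ne_zero j)
      omega
  · set c := z * v⁻¹ with hc
    set S := Subgroup.closure ({c, v} : Set (Equiv.Perm X))
    have hcS : c ∈ S := Subgroup.subset_closure (by simp)
    have hvS : v ∈ S := Subgroup.subset_closure (by simp)
    have c1 : (c ^ 1) e = (v ^ 2) e := by
      have : v⁻¹ e = (v ^ 2) e := by
        rw [Equiv.Perm.inv_def, Equiv.symm_apply_eq, ← Equiv.Perm.mul_apply, ← pow_succ']
        exact h3.symm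
      rw [pow_one, hc, Equiv.Perm.mul_apply, this, h.fix _ n2]
    have c2 : (c ^ 2) e = (v ^ 1) e := by
      rw [pow_succ_apply c 1, c1]
      exact h.step heE 1 h01.symm
    have hodd : Odd (Fintype.card X) := by
      obtain ⟨l, -, hcd⟩ := hcard
      rw [hcd]; exact Odd.pow (by decide)
    have hx : swap ((c ^ 0) e) ((c ^ 1) e) * swap ((c ^ 1) e) ((c ^ 2) e) = v⁻¹ := by
      rw [c1, c2, pow_zero, Equiv.Perm.one_apply]
      refine eq_inv_of_mul_eq_one_left ?_
      have e3 : v ((v ^ 2) e) = e := by rw [← Equiv.Perm.mul_apply, ← pow_succ']; exact h3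
      have e2 : v ((v ^ 1) e) = (v ^ 2) e := by rw [← Equiv.Perm.mul_apply, ← pow_succ']
      have e1 : v e = (v ^ 1) e := by simp
      ext x
      simp only [Equiv.Perm.mul_apply, Equiv.Perm.one_apply]
      by_cases hs : v.SameCycle e x
      · rcases horb x hs with r | r | r <;> subst r
        · rw [e1, swap_apply_right, swap_apply_right]
        · rw [e2, swap_apply_left, swap_apply_of_ne_of_ne h01.symm h12]
        · rw [e3, swap_apply_of_ne_of_ne h02 h01, swap_apply_left]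
      · have hfx : v x = x := by_contra fun q => hs (hrest x q)
        have q0 : x ≠ e := fun q => hs (q ▸ SameCycle.refl v e)
        have q1 : x ≠ (v ^ 1) e := fun q => hs (q ▸ sameCycle_pow_right.2 (SameCycle.refl v e))
        have q2 : x ≠ (v ^ 2) e := fun q => hs (q ▸ sameCycle_pow_right.2 (SameCycle.refl v e))
        rw [hfx, swap_apply_of_ne_of_ne q2 q1, swap_apply_of_ne_of_ne q0 q2]
    refine not_solvable_of_threeCycles S (fun i : Fin 5 => (c ^ (i : ℕ)) e) ?_ ?_ ?_
    · intro i j hij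
      have := pow_apply_inj h.isCycleOn e hij
      rw [Nat.mod_eq_of_lt (by omega), Nat.mod_eq_of_lt (by omega)] at this
      exact Fin.ext this
    · change swap ((c ^ 0) e) ((c ^ 1) e) * swap ((c ^ 1) e) ((c ^ 2) e) ∈ S
      rw [hx]; exact inv_mem hvS
    · change swap ((c ^ 2) e) ((c ^ 3) e) * swap ((c ^ 3) e) ((c ^ 4) e) ∈ S
      have : c ^ 2 * (swap ((c ^ 0) e) ((c ^ 1) e) * swap ((c ^ 1) e) ((c ^ 2) e)) * (c ^ 2)⁻¹ =
          swap ((c ^ 2) e) ((c ^ 3) e) * swap ((c ^ 3) e) ((c ^ 4) e) := by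
        rw [← conj_mul, conj_swap, conj_swap]
        simp only [← Equiv.Perm.mul_apply, ← pow_add]
      rw [← this, hx]
      exact mul_mem (mul_mem (pow_mem hcS 2) (inv_mem hvS)) (inv_mem (pow_mem hcS 2))

/-- The two classes of full cycles. -/
theorem exists_good_sign {p : ℕ} (hp : p.Prime) (hp3 : 3 ≤ p) (hv : v.IsCycleOn (Set.univ : Set X))
    (hvn : ∃ n, Odd n ∧ v ^ n = 1) (hX : Odd (Fintype.card X)) (h7 : 7 ≤ Fintype.card X) :
    (∃ σ, Equiv.Perm.sign σ = -1 ∧ Good p v⁻¹ (σ * v * σ⁻¹)) ∧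
    (∃ σ, Equiv.Perm.sign σ = 1 ∧ Good p v⁻¹ (σ * v * σ⁻¹)) := by
  have : Nonempty X := Fintype.card_pos_iff.1 hX.pos
  set e := Classical.arbitrary X
  have hT : Transversal v (1 : Equiv.Perm X) {e} := by
    refine ⟨by simp, fun x _ => rfl, fun x => ⟨e, by simp, hv.2 (Set.mem_univ e) (Set.mem_univ x)⟩,
      fun a ha b hb _ => by simp_all⟩
  have hc := hT.isCycleOn
  rw [one_mul] at hc
  have hinj : ∀ {a b : ℕ}, a % Fintype.card X ≠ b % Fintype.card X →
      ((v⁻¹) ^ a) e ≠ ((v⁻¹) ^ b) e := fun h he => h (pow_apply_inj hc e he)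
  have hne : ∀ a b : ℕ, a < Fintype.card X → b < Fintype.card X → a ≠ b →
      ((v⁻¹) ^ a) e ≠ ((v⁻¹) ^ b) e :=
    fun a b ha hb hab => hinj (by rwa [Nat.mod_eq_of_lt ha, Nat.mod_eq_of_lt hb])
  set φ : ℕ → X := fun a => ((v⁻¹) ^ a) e with hφ
  have hstep : ∀ a, v⁻¹ (φ a) = φ (a + 1) := fun a => (pow_succ_apply v⁻¹ a e).symm
  have hz0 : φ 0 = e := by show (v⁻¹ ^ 0) e = e; rw [pow_zero]; rfl
  have hnm : ∀ a, a ≠ 0 → a < Fintype.card X → φ a ∉ ({e} : Finset X) := fun a h0 ha => by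
    rw [Finset.mem_singleton, ← hz0]; exact hne a 0 ha (by omega) h0
  refine ⟨⟨swap (φ 1) (φ 3), Equiv.Perm.sign_swap (hne 1 3 (by omega) (by omega) (by omega)), ?_⟩, ?_⟩
  · have hh := hT.good_swap hp hp3 hvn hX (φ 1) (φ 3) (hnm 1 (by omega) (by omega))
      (hnm 3 (by omega) (by omega)) (by rw [hstep]; exact hnm 2 (by omega) (by omega))
      (by rw [hstep]; exact hnm 4 (by omega) (by omega)) (hne 1 3 (by omega) (by omega) (by omega))
      (by rw [hstep]; exact hne 2 1 (by omega) (by omega) (by omega))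
      (by rw [hstep]; exact hne 2 3 (by omega) (by omega) (by omega))
      (by rw [hstep]; exact hne 4 1 (by omega) (by omega) (by omega))
      (by rw [hstep]; exact hne 4 3 (by omega) (by omega) (by omega))
      (φ 1) 2 1 (inj_nums hX h7).1 (inj_nums hX h7).2.1 (by
        rw [one_mul, hstep, hstep]
        have : ∀ m a, (v⁻¹ ^ m) (φ a) = φ (m + a) := fun m a => pow_add_apply v⁻¹ m a e
        rw [this, this, this, swap_comm_of_ne (hne 2 1 (by omega) (by omega) (by omega))
          (hne 2 3 (by omega) (by omega) (by omega)) (hne 4 1 (by omega) (by omega) (by omega))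
          (hne 4 3 (by omega) (by omega) (by omega))])
    rwa [one_mul] at hh
  · set A := swap (φ 0) (φ 4) with hA
    set B := swap (φ 1) (φ 5) with hB
    have hAB : A * B = B * A := swap_comm_of_ne (hne _ _ (by omega) (by omega) (by omega))
      (hne _ _ (by omega) (by omega) (by omega)) (hne _ _ (by omega) (by omega) (by omega))
      (hne _ _ (by omega) (by omega) (by omega))
    set C := swap (φ 2) (φ 6) with hC
    have hBC : B * C = C * B := swap_comm_of_ne (hne _ _ (by omega) (by omega) (by omega))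
      (hne _ _ (by omega) (by omega) (by omega)) (hne _ _ (by omega) (by omega) (by omega))
      (hne _ _ (by omega) (by omega) (by omega))
    have hAC : A * C = C * A := swap_comm_of_ne (hne _ _ (by omega) (by omega) (by omega))
      (hne _ _ (by omega) (by omega) (by omega)) (hne _ _ (by omega) (by omega) (by omega))
      (hne _ _ (by omega) (by omega) (by omega))
    refine ⟨A * B, ?_, ?_⟩
    · rw [map_mul, Equiv.Perm.sign_swap (hne _ _ (by omega) (by omega) (by omega)),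
        Equiv.Perm.sign_swap (hne _ _ (by omega) (by omega) (by omega))]
      rfl
    have hD : v⁻¹ * (A * B * v * (A * B)⁻¹) = swap (φ 0) (φ 4) * swap (φ 2) (φ 6) := by
      have e1 : v⁻¹ * (A * B) * v = B * C := by
        have : v⁻¹ * (A * B) * (v⁻¹)⁻¹ = B * C := by
          rw [← conj_mul, hA, hB, conj_swap, conj_swap, hstep, hstep, hstep, hstep]
        simpa using this
      calc v⁻¹ * (A * B * v * (A * B)⁻¹) = (v⁻¹ * (A * B) * v) * (B * A) := by
            rw [_root_.mul_inv_rev, hA, hB, Equiv.swap_inv, Equiv.swap_inv]; group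
        _ = C * A := by
            rw [e1, hBC, mul_assoc, ← mul_assoc B B, hB, Equiv.swap_mul_self, one_mul]
        _ = _ := hAC.symm
    constructor
    · intro k hk
      rw [hD, ← hA, ← hC] at hk
      have h2 : (A * C) ^ 2 = 1 := by
        rw [(show Commute A C from hAC).mul_pow, pow_two, pow_two, hA, hC, Equiv.swap_mul_self,
          Equiv.swap_mul_self, one_mul]
      obtain ⟨m, hm⟩ : Odd (p ^ k) := (hp.odd_of_ne_two (by omega)).pow
      rw [hm, pow_succ, pow_mul, h2, one_pow, one_mul] at hk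
      have := congrArg (fun f : Equiv.Perm X => f (φ 0)) hk
      simp only [Equiv.Perm.mul_apply, Equiv.Perm.one_apply, hA, hC] at this
      rw [swap_apply_of_ne_of_ne (hne 0 2 (by omega) (by omega) (by omega))
        (hne 0 6 (by omega) (by omega) (by omega)), swap_apply_left] at this
      exact hne 4 0 (by omega) (by omega) (by omega) this
    · set S := Subgroup.closure ({v⁻¹, A * B * v * (A * B)⁻¹} : Set (Equiv.Perm X))
      have hcS : v⁻¹ ∈ S := Subgroup.subset_closure (by simp)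
      have hwS : A * B * v * (A * B)⁻¹ ∈ S := Subgroup.subset_closure (by simp)
      have hDS := mul_mem hcS hwS
      rw [hD] at hDS
      refine not_solvable_of_pair S v⁻¹ hcS (φ 0) 4 2
        (fun i j hij => (inj_nums hX h7).2.2.1 (pow_apply_inj hc (φ 0) hij))
        (fun i j hij => (inj_nums hX h7).2.2.2 (pow_apply_inj hc (φ 0) hij)) ?_
      have : ∀ m, (v⁻¹ ^ m) (φ 0) = φ m := fun m => by rw [hz0]
      rwa [this, this, this]

end Cfsg.Agent.FreePair
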