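import Mathlib
import Cfsg.Agent.Lib.KnownSimple.FreePairLocal

/-!
General position on one orbit of a prime-power number of points, and on five or six points.
-/

namespace Cfsg.Agent.FreePair

open Equiv Equiv.Perm
open scoped commutatorElement

theorem cycleType_of_pow {X : Type*} [DecidableEq X] [Fintype X] {p : ℕ} (hp : p.Prime)
    (g : Equiv.Perm X) (hg : g ^ p = 1) :
    ∃ j, g.cycleType = Multiset.replicate j p ∧ j * p = g.support.card ∧ j * p ≤ Fintype.card X := by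
  have hall : ∀ n ∈ g.cycleType, n = p := fun n hn => by
    have h2 := two_le_of_mem_cycleType hn
    rcases hp.eq_one_or_self_of_dvd n
      ((dvd_of_mem_cycleType hn).trans (orderOf_dvd_of_pow_eq_one hg)) with h | h
    · omega
    · exact h
  have he := Multiset.eq_replicate_card.2 hall
  have hs := g.sum_cycleType
  rw [he, Multiset.sum_replicate, smul_eq_mul] at hs
  exact ⟨g.cycleType.card, he, hs, hs.trans_le (Finset.card_le_univ _)⟩

theorem conj_of_cycleType {X : Type*} [DecidableEq X] [Fintype X] {a A : Equiv.Perm X}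
    (h : a.cycleType = A.cycleType) : ∃ ρ : Equiv.Perm X, ρ * A * ρ⁻¹ = a :=
  isConj_iff.1 (isConj_iff_cycleType_eq.2 h.symm)

theorem transfer {X : Type*} [DecidableEq X] [Fintype X] {p : ℕ} {a b A B s ρ τ : Equiv.Perm X}
    (ha : ρ * A * ρ⁻¹ = a) (hb : τ * B * τ⁻¹ = b) (h : Good p A (s * B * s⁻¹)) :
    Good p a (ρ * s * τ⁻¹ * b * (ρ * s * τ⁻¹)⁻¹) := by
  have e : ρ * s * τ⁻¹ * b * (ρ * s * τ⁻¹)⁻¹ = ρ * (s * B * s⁻¹) * ρ⁻¹ := by
    rw [← hb]; group
  rw [e, ← ha]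
  exact h.conj ρ

/-- `(0 1 2)` and `(0 1 2)(3 4 5)`. -/
def T1 (n : ℕ) : Equiv.Perm (Fin (n + 5)) := swap 0 1 * swap 1 2
def T2 (n : ℕ) : Equiv.Perm (Fin (n + 6)) := swap 0 1 * swap 1 2 * (swap 3 4 * swap 4 5)

def T3 : Equiv.Perm (Fin 9) := swap 0 1 * swap 1 2 * (swap 3 4 * swap 4 5) * (swap 6 7 * swap 7 8)

theorem gen_mem {G : Type*} [Group G] {a b : G} :
    a ∈ Subgroup.closure ({a, b} : Set G) ∧ b ∈ Subgroup.closure ({a, b} : Set G) :=
  ⟨Subgroup.subset_closure (by simp), Subgroup.subset_closure (by simp)⟩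

theorem five_three : ∃ s, Good 3 (T1 0) (s * T1 0 * s⁻¹) := by
  refine ⟨⟨![0, 3, 4, 1, 2], ![0, 3, 4, 1, 2], by decide, by decide⟩, ?_⟩
  set B := _ * T1 0 * _
  refine good_of_cert Nat.prime_three (T1 0) B 5 1 (by decide) ?_ ?_ (x := T1 0)
    (y := B * T1 0 * B) (z := B * B * T1 0 * T1 0) gen_mem.1
    (mul_mem (mul_mem gen_mem.2 gen_mem.1) gen_mem.2)
    (mul_mem (mul_mem (mul_mem gen_mem.2 gen_mem.2) gen_mem.1) gen_mem.1) ?_ ?_
  all_goals decide +kernel

theorem five_five : (∃ s, Equiv.Perm.sign s = -1 ∧ Good 5 (finRotate 5) (s * finRotate 5 * s⁻¹)) ∧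
    ∃ s, Equiv.Perm.sign s = 1 ∧ Good 5 (finRotate 5) (s * finRotate 5 * s⁻¹) := by
  constructor
  · refine ⟨⟨![0, 1, 2, 4, 3], ![0, 1, 2, 4, 3], by decide, by decide⟩, by decide +kernel, ?_⟩
    set B := _ * finRotate 5 * _
    refine good_of_cert Nat.prime_five (finRotate 5) B 2 1 (by decide) ?_ ?_ (x := finRotate 5)
      (y := B) (z := B * B * B) gen_mem.1 gen_mem.2
      (mul_mem (mul_mem gen_mem.2 gen_mem.2) gen_mem.2) ?_ ?_
    all_goals decide +kernel
  · refine ⟨⟨![0, 2, 1, 4, 3], ![0, 2, 1, 4, 3], by decide, by decide⟩, by decide +kernel, ?_⟩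
    set B := _ * finRotate 5 * _
    refine good_of_cert Nat.prime_five (finRotate 5) B 3 1 (by decide) ?_ ?_ (x := finRotate 5)
      (y := B) (z := B) gen_mem.1 gen_mem.2 gen_mem.2 ?_ ?_
    all_goals decide +kernel

theorem six_11 : ∃ s, Good 3 (T1 1) (s * T1 1 * s⁻¹) := by
  refine ⟨⟨![0, 3, 4, 1, 2, 5], ![0, 3, 4, 1, 2, 5], by decide, by decide⟩, ?_⟩
  set B := _ * T1 1 * _
  refine good_of_cert Nat.prime_three (T1 1) B 5 1 (by decide) ?_ ?_ (x := T1 1)
    (y := B * T1 1 * B) (z := B * B * T1 1 * T1 1) gen_mem.1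
    (mul_mem (mul_mem gen_mem.2 gen_mem.1) gen_mem.2)
    (mul_mem (mul_mem (mul_mem gen_mem.2 gen_mem.2) gen_mem.1) gen_mem.1) ?_ ?_
  all_goals decide +kernel

theorem six_12 : ∃ s, Good 3 (T1 1) (s * T2 0 * s⁻¹) := by
  refine ⟨⟨![0, 1, 3, 2, 4, 5], ![0, 1, 3, 2, 4, 5], by decide, by decide⟩, ?_⟩
  set B := _ * T2 0 * _
  refine good_of_cert Nat.prime_three (T1 1) B 2 2 (by decide) ?_ ?_ (x := T1 1)
    (y := B) (z := B * B * T1 1 * B) gen_mem.1 gen_mem.2
    (mul_mem (mul_mem (mul_mem gen_mem.2 gen_mem.2) gen_mem.1) gen_mem.2) ?_ ?_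
  all_goals decide +kernel

theorem six_21 : ∃ s, Good 3 (T2 0) (s * T1 1 * s⁻¹) := by
  refine ⟨⟨![0, 1, 3, 2, 4, 5], ![0, 1, 3, 2, 4, 5], by decide, by decide⟩, ?_⟩
  set B := _ * T1 1 * _
  refine good_of_cert Nat.prime_three (T2 0) B 2 2 (by decide) ?_ ?_ (x := T2 0)
    (y := B) (z := B * B * T2 0 * B) gen_mem.1 gen_mem.2
    (mul_mem (mul_mem (mul_mem gen_mem.2 gen_mem.2) gen_mem.1) gen_mem.2) ?_ ?_
  all_goals decide +kernel

theorem six_22 : ∃ s, Good 3 (T2 0) (s * T2 0 * s⁻¹) := by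
  refine ⟨⟨![0, 1, 3, 2, 5, 4], ![0, 1, 3, 2, 5, 4], by decide, by decide⟩, ?_⟩
  set B := _ * T2 0 * _
  refine good_of_cert Nat.prime_three (T2 0) B 5 1 (by decide) ?_ ?_ (x := T2 0)
    (y := B * T2 0 * B) (z := B * B * T2 0 * T2 0) gen_mem.1
    (mul_mem (mul_mem gen_mem.2 gen_mem.1) gen_mem.2)
    (mul_mem (mul_mem (mul_mem gen_mem.2 gen_mem.2) gen_mem.1) gen_mem.1) ?_ ?_
  all_goals decide +kernel

theorem nine_2 : ∃ s, Good 3 (finRotate 9) (s * T2 3 * s⁻¹) := by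
  refine ⟨⟨![0, 1, 2, 3, 5, 4, 6, 7, 8], ![0, 1, 2, 3, 5, 4, 6, 7, 8], by decide, by decide⟩, ?_⟩
  set A := finRotate 9
  set B := _ * T2 3 * _
  refine good_of_cert Nat.prime_three A B 7 1 (by decide) ?_ ?_ (x := A * A * A)
    (y := B * A * B) (z := B * B) (mul_mem (mul_mem gen_mem.1 gen_mem.1) gen_mem.1)
    (mul_mem (mul_mem gen_mem.2 gen_mem.1) gen_mem.2) (mul_mem gen_mem.2 gen_mem.2) ?_ ?_
  all_goals decide +kernel

theorem nine_3 : ∃ s, Good 3 (finRotate 9) (s * T3 * s⁻¹) := by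
  refine ⟨⟨![0, 1, 2, 3, 4, 5, 6, 8, 7], ![0, 1, 2, 3, 4, 5, 6, 8, 7], by decide, by decide⟩, ?_⟩
  set A := finRotate 9
  set B := _ * T3 * _
  refine good_of_cert Nat.prime_three A B 7 1 (by decide) ?_ ?_ (x := A * A * A)
    (y := B * A * B * B * A * B) (z := B * A * A * A * B * B * A)
    (mul_mem (mul_mem gen_mem.1 gen_mem.1) gen_mem.1)
    (mul_mem (mul_mem (mul_mem (mul_mem (mul_mem gen_mem.2 gen_mem.1) gen_mem.2) gen_mem.2)
      gen_mem.1) gen_mem.2)
    (mul_mem (mul_mem (mul_mem (mul_mem (mul_mem (mul_mem gen_mem.2 gen_mem.1) gen_mem.1) gen_mem.1)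
      gen_mem.2) gen_mem.2) gen_mem.1) ?_ ?_
  all_goals decide +kernel

theorem full_conj_rotate {n : ℕ} {a : Equiv.Perm (Fin (n + 2))} (ha : a.IsCycle)
    (has : a.support = Finset.univ) : ∃ ρ : Equiv.Perm (Fin (n + 2)), ρ * finRotate (n + 2) * ρ⁻¹ = a :=
  isConj_iff.1 ((isCycle_finRotate.isConj_iff ha).2 (by rw [support_finRotate, has]))

theorem pow_prime_of_small {X : Type*} [DecidableEq X] [Fintype X] {p m : ℕ} (hp : p.Prime)
    {g : Equiv.Perm X} (hg : g ^ p ^ m = 1) (hsmall : Fintype.card X < p * p) : g ^ p = 1 := by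
  rw [← orderOf_dvd_iff_pow_eq_one, ← Equiv.Perm.lcm_cycleType, Multiset.lcm_dvd]
  intro n hn
  obtain ⟨i, -, rfl⟩ := (Nat.dvd_prime_pow hp).1 ((dvd_of_mem_cycleType hn).trans
    (orderOf_dvd_of_pow_eq_one hg))
  have hle : p ^ i ≤ Fintype.card X :=
    (le_card_support_of_mem_cycleType hn).trans (Finset.card_le_univ _)
  rcases i with _ | _ | i
  · simp
  · simp
  · have : p * p ≤ p ^ (i + 1 + 1) := by
      calc p * p = p ^ 2 := by ring
        _ ≤ _ := Nat.pow_le_pow_right hp.pos (by omega)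
    omega

theorem count_of_ne_one {X : Type*} [DecidableEq X] [Fintype X] {p : ℕ} (hp : p.Prime)
    {g : Equiv.Perm X} (hg : g ^ p = 1) (hg1 : g ≠ 1) :
    ∃ j, 1 ≤ j ∧ g.cycleType = Multiset.replicate j p ∧ j * p ≤ Fintype.card X := by
  obtain ⟨j, h1, h2, h3⟩ := cycleType_of_pow hp g hg
  refine ⟨j, Nat.one_le_iff_ne_zero.2 fun h0 => hg1 ?_, h1, h3⟩
  rw [← Equiv.Perm.cycleType_eq_zero, h1, h0, Multiset.replicate_zero]

theorem T1_type (n : ℕ) (h : (T1 n) ^ 3 = 1) (hs : (T1 n).support.card = 3) :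
    (T1 n).cycleType = Multiset.replicate 1 3 := by
  obtain ⟨j, h1, h2, -⟩ := cycleType_of_pow Nat.prime_three _ h
  rw [h1, show j = 1 by omega]

theorem T2_type (n : ℕ) (h : (T2 n) ^ 3 = 1) (hs : (T2 n).support.card = 6) :
    (T2 n).cycleType = Multiset.replicate 2 3 := by
  obtain ⟨j, h1, h2, -⟩ := cycleType_of_pow Nat.prime_three _ h
  rw [h1, show j = 2 by omega]

theorem T3_type : T3.cycleType = Multiset.replicate 3 3 := by
  obtain ⟨j, h1, h2, -⟩ := cycleType_of_pow Nat.prime_three T3 (by decide +kernel)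
  have : T3.support.card = 9 := by decide +kernel
  rw [h1, show j = 3 by omega]

/-- Five points, `p = 3`. -/
theorem exists_good_five {m m' : ℕ} (a b : Equiv.Perm (Fin 5)) (ha : a ≠ 1) (hb : b ≠ 1)
    (ha' : a ^ 3 ^ m = 1) (hb' : b ^ 3 ^ m' = 1) : ∃ σ, Good 3 a (σ * b * σ⁻¹) := by
  have hA := T1_type 0 (by decide +kernel) (by decide +kernel)
  have key : ∀ g : Equiv.Perm (Fin 5), g ≠ 1 → (∃ k, g ^ 3 ^ k = 1) → g.cycleType = (T1 0).cycleType := by
    rintro g hg ⟨k, hk⟩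
    obtain ⟨j, hj, h1, h2⟩ := count_of_ne_one Nat.prime_three
      (pow_prime_of_small Nat.prime_three hk (by simp)) hg
    simp only [Fintype.card_fin] at h2
    rw [h1, hA, show j = 1 by omega]
  obtain ⟨ρ, hρ⟩ := conj_of_cycleType (key a ha ⟨m, ha'⟩)
  obtain ⟨τ, hτ⟩ := conj_of_cycleType (key b hb ⟨m', hb'⟩)
  obtain ⟨s, hs⟩ := five_three
  exact ⟨_, transfer hρ hτ hs⟩

/-- Six points, `p = 3`. -/
theorem exists_good_six {m m' : ℕ} (a b : Equiv.Perm (Fin 6)) (ha : a ≠ 1) (hb : b ≠ 1)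
    (ha' : a ^ 3 ^ m = 1) (hb' : b ^ 3 ^ m' = 1) : ∃ σ, Good 3 a (σ * b * σ⁻¹) := by
  have hA := T1_type 1 (by decide +kernel) (by decide +kernel)
  have hB := T2_type 0 (by decide +kernel) (by decide +kernel)
  have key : ∀ g : Equiv.Perm (Fin 6), g ≠ 1 → (∃ k, g ^ 3 ^ k = 1) →
      g.cycleType = (T1 1).cycleType ∨ g.cycleType = (T2 0).cycleType := by
    rintro g hg ⟨k, hk⟩
    obtain ⟨j, hj, h1, h2⟩ := count_of_ne_one Nat.prime_three
      (pow_prime_of_small Nat.prime_three hk (by simp)) hg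
    simp only [Fintype.card_fin] at h2
    rcases (show j = 1 ∨ j = 2 by omega) with rfl | rfl
    · exact Or.inl (h1.trans hA.symm)
    · exact Or.inr (h1.trans hB.symm)
  rcases key a ha ⟨m, ha'⟩ with h | h <;> rcases key b hb ⟨m', hb'⟩ with h' | h' <;>
    obtain ⟨ρ, hρ⟩ := conj_of_cycleType h <;> obtain ⟨τ, hτ⟩ := conj_of_cycleType h'
  · obtain ⟨s, hs⟩ := six_11; exact ⟨_, transfer hρ hτ hs⟩
  · obtain ⟨s, hs⟩ := six_12; exact ⟨_, transfer hρ hτ hs⟩
  · obtain ⟨s, hs⟩ := six_21; exact ⟨_, transfer hρ hτ hs⟩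
  · obtain ⟨s, hs⟩ := six_22; exact ⟨_, transfer hρ hτ hs⟩

/-- Two full cycles, with a conjugator of either sign. -/
theorem exists_good_cycles {M p k : ℕ} (hp : p.Prime) (hp3 : 3 ≤ p) (hM : M = p ^ k) (h5 : 5 ≤ M)
    (a b : Equiv.Perm (Fin M)) (ha : a.IsCycle) (has : a.support = Finset.univ) (hb : b.IsCycle)
    (hbs : b.support = Finset.univ) (ε : ℤˣ) :
    ∃ σ, Equiv.Perm.sign σ = ε ∧ Good p a (σ * b * σ⁻¹) := by
  have hodd : Odd M := hM ▸ (hp.odd_of_ne_two (by omega)).pow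
  by_cases h7 : 7 ≤ M
  · have hbo : b.IsCycleOn (Set.univ : Set (Fin M)) := by
      have h := hb.isCycleOn
      have e : {x | b x ≠ x} = Set.univ := Set.eq_univ_of_forall fun x =>
        mem_support.1 (hbs ▸ Finset.mem_univ x)
      rwa [e] at h
    have hbn : ∃ n, Odd n ∧ b ^ n = 1 := by
      refine ⟨orderOf b, ?_, pow_orderOf_eq_one b⟩
      rw [hb.orderOf, hbs, Finset.card_univ, Fintype.card_fin]; exact hodd
    obtain ⟨⟨σ1, hs1, g1⟩, ⟨σ2, hs2, g2⟩⟩ := exists_good_sign hp hp3 hbo hbn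
      (by simpa using hodd) (by simpa using h7)
    obtain ⟨ρ, hρ⟩ := isConj_iff.1 ((hb.inv.isConj_iff ha).2 (by rw [support_inv, hbs, has]))
    have key : ∀ σ, Good p b⁻¹ (σ * b * σ⁻¹) → Good p a (ρ * σ * b * (ρ * σ)⁻¹) := fun σ g => by
      have := g.conj ρ
      rw [hρ] at this
      simpa [mul_assoc, _root_.mul_inv_rev] using this
    by_cases e : Equiv.Perm.sign ρ = ε
    · exact ⟨ρ * σ2, by rw [map_mul, hs2, mul_one, e], key _ g2⟩
    · refine ⟨ρ * σ1, ?_, key _ g1⟩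
      rw [map_mul, hs1]
      rcases Int.units_eq_one_or (Equiv.Perm.sign ρ) with h | h <;>
        rcases Int.units_eq_one_or ε with h' | h' <;> simp_all
  · obtain ⟨r, hr⟩ := hodd
    obtain rfl : M = 5 := by omega
    have hp5 : p = 5 := ((Nat.prime_dvd_prime_iff_eq Nat.prime_five hp).1
      (Nat.prime_five.dvd_of_dvd_pow (show 5 ∣ p ^ k by rw [← hM]))).symm
    subst hp5
    obtain ⟨ρ, hρ⟩ := full_conj_rotate (n := 3) ha has
    obtain ⟨τ, hτ⟩ := full_conj_rotate (n := 3) hb hbs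
    obtain ⟨⟨s1, e1, g1⟩, ⟨s2, e2, g2⟩⟩ := five_five
    by_cases e : Equiv.Perm.sign (ρ * τ⁻¹) = ε
    · refine ⟨_, ?_, transfer hρ hτ g2⟩
      rw [map_mul, map_mul, e2, mul_one, ← map_mul, e]
    · refine ⟨_, ?_, transfer hρ hτ g1⟩
      rw [map_mul, map_mul, e1]
      rw [map_mul] at e
      rcases Int.units_eq_one_or (Equiv.Perm.sign ρ) with h | h <;>
        rcases Int.units_eq_one_or (Equiv.Perm.sign τ⁻¹) with h' | h' <;>
        rcases Int.units_eq_one_or ε with h'' | h'' <;>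
        rw [h, h', h''] at e <;> rw [h, h', h''] <;>
        first | decide | exact absurd (by decide) e

/-- A full cycle of prime-power length and any non-trivial `p`-element. -/
theorem exists_good_pow {M p k m : ℕ} (hp : p.Prime) (hp3 : 3 ≤ p) (hM : M = p ^ k) (h5 : 5 ≤ M)
    (a b : Equiv.Perm (Fin M)) (ha : a.IsCycle) (has : a.support = Finset.univ) (hb : b ≠ 1)
    (hb' : b ^ p ^ m = 1) : ∃ σ, Good p a (σ * b * σ⁻¹) := by
  have hodd : Odd M := hM ▸ (hp.odd_of_ne_two (by omega)).pow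
  have hM1 : 1 < Fintype.card (Fin M) := by simp; omega
  have hbn : ∃ n, Odd n ∧ b ^ n = 1 := ⟨p ^ m, (hp.odd_of_ne_two (by omega)).pow, hb'⟩
  by_cases h7 : 7 ≤ M
  swap
  · obtain ⟨r, hr⟩ := hodd
    obtain rfl : M = 5 := by omega
    have hp5 : p = 5 := ((Nat.prime_dvd_prime_iff_eq Nat.prime_five hp).1
      (Nat.prime_five.dvd_of_dvd_pow (show 5 ∣ p ^ k by rw [← hM]))).symm
    subst hp5
    obtain ⟨j, hj, h1, h2⟩ := count_of_ne_one Nat.prime_five
      (pow_prime_of_small Nat.prime_five hb' (by simp)) hb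
    simp only [Fintype.card_fin] at h2
    have hj1 : j = 1 := by omega
    subst hj1
    have hbc : b.IsCycle := card_cycleType_eq_one.1 (by rw [h1, Multiset.card_replicate])
    have hbs : b.support = Finset.univ := Finset.eq_univ_of_card _ (by
      rw [← sum_cycleType, h1]; simp)
    obtain ⟨σ, -, h⟩ := exists_good_cycles hp hp3 hM h5 a b ha has hbc hbs 1
    exact ⟨σ, h⟩
  have fin : ∀ c, c.IsCycleOn (Set.univ : Set (Fin M)) → (∃ σ, Good p c (σ * b * σ⁻¹)) →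
      ∃ σ, Good p a (σ * b * σ⁻¹) := fun c hc h => good_of_full hc ha has hM1 h
  by_cases hlong : ∃ e, 5 ≤ per b e
  · obtain ⟨e, he⟩ := hlong
    obtain ⟨c, hc, h⟩ := exists_good_long hp hp3 hbn (by simpa using hodd) (by simpa using h7) e he
    exact fin c hc h
  push Not at hlong
  have hper : ∀ e, b e ≠ e → p = 3 ∧ per b e = 3 := by
    intro e he
    have hd : per b e ∣ p ^ m := per_dvd.1 (by rw [hb']; rfl)
    obtain ⟨i, -, hi⟩ := (Nat.dvd_prime_pow hp).1 hd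
    have hlt := hlong e
    rcases i with _ | _ | i
    · exact absurd (by simpa using per_dvd.2 (show per b e ∣ 1 by simp [hi])) he
    · rw [zero_add, pow_one] at hi
      rw [hi] at hlt
      rcases (show p = 3 ∨ p = 4 by omega) with h | h
      · exact ⟨h, hi.trans h⟩
      · subst h; norm_num at hp
    · have : p * p ≤ p ^ (i + 1 + 1) := by
        calc p * p = p ^ 2 := by ring
          _ ≤ _ := Nat.pow_le_pow_right hp.pos (by omega)
      have : 9 ≤ p * p := Nat.mul_le_mul hp3 hp3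
      omega
  obtain ⟨e, he⟩ : ∃ e, b e ≠ e := by
    by_contra h
    push Not at h
    exact hb (Equiv.ext h)
  obtain ⟨hp', he3⟩ := hper e he
  subst hp'
  have hk : 0 < k := by
    rcases Nat.eq_zero_or_pos k with h | h
    · rw [h, pow_zero] at hM; omega
    · exact h
  by_cases hone : ∀ x, b x ≠ x → b.SameCycle e x
  · obtain ⟨c, hc, h⟩ := exists_good_one (v := b) ⟨k, hk, by simpa using hM⟩ (by simpa using h7) e he3 hone
    exact fin c hc h
  push Not at hone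
  obtain ⟨f, hf, hef⟩ := hone
  obtain ⟨-, hf3⟩ := hper f hf
  by_cases h9 : M = 9
  · subst h9
    have hb3 : b ^ 3 = 1 := by
      ext x
      by_cases hx : b x = x
      · rw [Function.IsFixedPt.perm_pow hx 3, Equiv.Perm.one_apply]
      · rw [per_dvd.2 (show per b x ∣ 3 by rw [(hper x hx).2]), Equiv.Perm.one_apply]
    obtain ⟨ρ, hρ⟩ := full_conj_rotate (n := 7) ha has
    obtain ⟨j, hj, h1, h2⟩ := count_of_ne_one Nat.prime_three hb3 hb
    simp only [Fintype.card_fin] at h2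
    rcases (show j = 1 ∨ j = 2 ∨ j = 3 by omega) with rfl | rfl | rfl
    · exact absurd ((card_cycleType_eq_one.1 (by rw [h1, Multiset.card_replicate])).sameCycle he hf) hef
    · obtain ⟨τ, hτ⟩ := conj_of_cycleType
        (h1.trans (T2_type 3 (by decide +kernel) (by decide +kernel)).symm)
      obtain ⟨s, hs⟩ := nine_2
      exact ⟨_, transfer hρ hτ hs⟩
    · obtain ⟨τ, hτ⟩ := conj_of_cycleType (h1.trans T3_type.symm)
      obtain ⟨s, hs⟩ := nine_3
      exact ⟨_, transfer hρ hτ hs⟩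
  · have h14 : 14 ≤ M := by
      rcases k with _ | _ | _ | k
      · omega
      · simp at hM; omega
      · simp at hM; omega
      · have : 27 ≤ 3 ^ (k + 1 + 1 + 1) := by
          calc (27 : ℕ) = 3 ^ 3 := by norm_num
            _ ≤ _ := Nat.pow_le_pow_right (by norm_num) (by omega)
        omega
    obtain ⟨c, hc, h⟩ := exists_good_two Nat.prime_three le_rfl hbn (by simpa using hodd)
      (by simpa using h14) e f he3 hf3 hef
    exact fin c hc h

end Cfsg.Agent.FreePair
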