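import Mathlib
import Cfsg.Agent.Lib.KnownSimple.FreePairSmall

/-!
From permutations of `n` points down to one invariant set, and back.
-/

namespace Cfsg.Agent.FreePair

open Equiv Equiv.Perm
open scoped commutatorElement

theorem Good.symm {G : Type*} [Group G] {p : ℕ} {a b : G} (h : Good p a b) : Good p b a := by
  refine ⟨fun k hk => h.1 k ?_, by rw [Set.pair_comm]; exact h.2⟩
  have e : a * b = a * (b * a) * a⁻¹ := by group
  rw [e, conj_pow, hk, mul_one, mul_inv_cancel]

variable {α : Type*} [DecidableEq α] [Fintype α]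

def orb (g : Equiv.Perm α) (x : α) : Finset α := Finset.univ.filter fun y => g.SameCycle x y

theorem mem_orb {g : Equiv.Perm α} {x y : α} : y ∈ orb g x ↔ g.SameCycle x y := by simp [orb]

theorem orb_eq {g : Equiv.Perm α} {x y : α} (h : g.SameCycle x y) : orb g x = orb g y := by
  ext z
  simp only [mem_orb]
  exact ⟨fun hz => h.symm.trans hz, fun hz => h.trans hz⟩

theorem orb_invariant {g : Equiv.Perm α} {x : α} (y : α) : g y ∈ orb g x ↔ y ∈ orb g x := by
  simp [mem_orb, sameCycle_apply_right]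

theorem orb_card_fixed {g : Equiv.Perm α} {x : α} (hx : g x = x) : (orb g x).card = 1 := by
  rw [Finset.card_eq_one]
  refine ⟨x, Finset.ext fun y => ?_⟩
  rw [mem_orb, Finset.mem_singleton]
  exact ⟨fun h => (h.eq_of_left (Function.IsFixedPt.eq hx)).symm, fun h => h ▸ SameCycle.refl g x⟩

theorem orb_card_moved {g : Equiv.Perm α} {x : α} (hx : g x ≠ x) :
    (orb g x).card ∈ g.cycleType := by
  have h : orb g x = (g.cycleOf x).support := by
    ext y
    rw [mem_orb, mem_support_cycleOf_iff' hx]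
  rw [h, cycleType_def, Multiset.mem_map]
  exact ⟨g.cycleOf x, cycleOf_mem_cycleFactorsFinset_iff.2 (mem_support.2 hx), rfl⟩

theorem orb_card_pow {g : Equiv.Perm α} {p m : ℕ} (hp : p.Prime) (hg : g ^ p ^ m = 1) (x : α) :
    ∃ i, (orb g x).card = p ^ i := by
  by_cases hx : g x = x
  · exact ⟨0, by simpa using orb_card_fixed hx⟩
  · obtain ⟨i, -, hi⟩ := (Nat.dvd_prime_pow hp).1
      ((dvd_of_mem_cycleType (orb_card_moved hx)).trans (orderOf_dvd_of_pow_eq_one hg))
    exact ⟨i, hi⟩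

theorem subset_sum {ι : Type*} [DecidableEq ι] (f : ι → ℕ) (hch : ∀ i j, f i ≤ f j → f i ∣ f j) :
    ∀ (s : Finset ι) (M : ℕ), 0 < M → (∀ i ∈ s, 0 < f i ∧ f i ∣ M) → M ≤ ∑ i ∈ s, f i →
      ∀ i0 ∈ s, (∀ j ∈ s, f j ≤ f i0) → ∃ t, t ⊆ s ∧ i0 ∈ t ∧ ∑ i ∈ t, f i = M := by
  intro s
  induction s using Finset.strongInduction with
  | H s ih =>
    intro M hM hd hsum i0 hi0 hmax
    have hle : f i0 ≤ M := Nat.le_of_dvd hM (hd i0 hi0).2
    rcases hle.eq_or_lt with e | hlt
    · exact ⟨{i0}, by simpa using hi0, by simp, by simpa using e⟩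
    have hs := Finset.add_sum_erase s f hi0
    have hne : (s.erase i0).Nonempty := by
      rw [Finset.nonempty_iff_ne_empty]
      intro h
      rw [h, Finset.sum_empty] at hs
      omega
    obtain ⟨j, hj, hjm⟩ := Finset.exists_max_image (s.erase i0) f hne
    obtain ⟨t, hts, -, ht⟩ := ih (s.erase i0) (Finset.erase_ssubset hi0) (M - f i0) (by omega)
      (fun i hi => by
        have his := Finset.mem_of_mem_erase hi
        exact ⟨(hd i his).1, Nat.dvd_sub (hd i his).2 (hch i i0 (hmax i his))⟩)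
      (by omega) j hj hjm
    have hnot : i0 ∉ t := fun h => Finset.notMem_erase i0 s (hts h)
    refine ⟨insert i0 t, Finset.insert_subset hi0 (hts.trans (Finset.erase_subset _ _)),
      Finset.mem_insert_self _ _, ?_⟩
    rw [Finset.sum_insert hnot, ht]
    omega

/-- An invariant set of prescribed size, containing a largest orbit. -/
theorem exists_invariant (g : Equiv.Perm α) (hg : g ≠ 1) {p m : ℕ} (hp : p.Prime)
    (hgp : g ^ p ^ m = 1) (M : ℕ) (hM : 0 < M) (hd : ∀ x, (orb g x).card ∣ M)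
    (hn : M ≤ Fintype.card α) :
    ∃ T : Finset α, T.card = M ∧ (∀ x, g x ∈ T ↔ x ∈ T) ∧ ∃ x ∈ T, g x ≠ x := by
  classical
  obtain ⟨x1, hx1⟩ : ∃ x, g x ≠ x := by
    by_contra h
    push Not at h
    exact hg (Equiv.ext h)
  obtain ⟨x0, -, hx0⟩ := Finset.exists_max_image Finset.univ (fun x => (orb g x).card)
    ⟨x1, Finset.mem_univ _⟩
  set s := Finset.univ.image (orb g) with hs
  have hdis : (s : Set (Finset α)).PairwiseDisjoint id := by
    intro A hA B hB hAB
    simp only [hs, Finset.coe_image, Set.mem_image] at hA hB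
    obtain ⟨a, -, rfl⟩ := hA
    obtain ⟨b, -, rfl⟩ := hB
    rw [Function.onFun, id_eq, id_eq, Finset.disjoint_left]
    intro y hy hy'
    rw [mem_orb] at hy hy'
    exact hAB (orb_eq (hy.trans hy'.symm))
  have hsum : ∑ A ∈ s, A.card = Fintype.card α := by
    have h := Finset.card_biUnion hdis
    simp only [id_eq] at h
    rw [← h, ← Finset.card_univ]
    congr 1
    refine Finset.eq_univ_of_forall fun y => Finset.mem_biUnion.2
      ⟨orb g y, Finset.mem_image_of_mem _ (Finset.mem_univ _), ?_⟩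
    exact mem_orb.2 (SameCycle.refl g y)
  let f : Finset α → ℕ := fun A => if A ∈ s then A.card else 1
  have hf : ∀ A ∈ s, f A = A.card := fun A hA => if_pos hA
  have hfp : ∀ A, ∃ i, f A = p ^ i := by
    intro A
    by_cases hA : A ∈ s
    · obtain ⟨a, -, rfl⟩ := Finset.mem_image.1 hA
      obtain ⟨i, hi⟩ := orb_card_pow hp hgp a
      exact ⟨i, (hf _ hA).trans hi⟩
    · exact ⟨0, by simp [f, hA]⟩
  have h0 : orb g x0 ∈ s := Finset.mem_image_of_mem _ (Finset.mem_univ _)
  obtain ⟨t, hts, ht0, htsum⟩ := subset_sum f (fun i j hij => by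
      obtain ⟨a, ha⟩ := hfp i
      obtain ⟨b, hb⟩ := hfp j
      rw [ha, hb] at hij ⊢
      exact pow_dvd_pow p ((Nat.pow_le_pow_iff_right hp.one_lt).1 hij))
    s M hM (fun A hA => by
      obtain ⟨a, -, rfl⟩ := Finset.mem_image.1 hA
      rw [hf _ hA]
      exact ⟨Finset.card_pos.2 ⟨a, mem_orb.2 (SameCycle.refl g a)⟩, hd a⟩)
    (by rw [Finset.sum_congr rfl hf, hsum]; exact hn) (orb g x0) h0 (fun A hA => by
      obtain ⟨a, -, rfl⟩ := Finset.mem_image.1 hA
      rw [hf _ hA, hf _ h0]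
      exact hx0 a (Finset.mem_univ _))
  refine ⟨t.biUnion id, ?_, ?_, ?_⟩
  · rw [Finset.card_biUnion (hdis.subset (by simpa using hts)), ← htsum]
    exact Finset.sum_congr rfl fun A hA => (hf A (hts hA)).symm
  · intro y
    simp only [Finset.mem_biUnion, id_eq]
    refine exists_congr fun A => and_congr_right fun hA => ?_
    obtain ⟨a, -, rfl⟩ := Finset.mem_image.1 (hts hA)
    exact orb_invariant y
  · refine ⟨x0, Finset.mem_biUnion.2 ⟨_, ht0, mem_orb.2 (SameCycle.refl g x0)⟩, fun h => ?_⟩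
    have h1 := hx0 x1 (Finset.mem_univ _)
    rw [orb_card_fixed h] at h1
    have := two_le_of_mem_cycleType (orb_card_moved hx1)
    omega

/-- The permutations preserving a set, as a subgroup. -/
def stab (C : Finset α) : Subgroup (Equiv.Perm α) where
  carrier := {g | ∀ x, g x ∈ C ↔ x ∈ C}
  one_mem' := fun _ => Iff.rfl
  mul_mem' := fun {g h} hg hh x => (hg (h x)).trans (hh x)
  inv_mem' := fun {g} hg x => by
    have := hg (g⁻¹ x)
    simpa using this.symm

/-- Restriction to an invariant set. -/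
def restr (C : Finset α) {M : ℕ} (e : C ≃ Fin M) : stab C →* Equiv.Perm (Fin M) where
  toFun g := e.permCongr ((g : Equiv.Perm α).subtypePerm g.2)
  map_one' := by ext i; simp
  map_mul' g h := by ext i; simp [Equiv.Perm.subtypePerm]

theorem restr_apply (C : Finset α) {M : ℕ} (e : C ≃ Fin M) (g : stab C) (y : C) :
    restr C e g (e y) = e ⟨(g : Equiv.Perm α) y, (g.2 y).2 y.2⟩ := by
  simp [restr, Equiv.Perm.subtypePerm]

theorem restr_ne_one (C : Finset α) {M : ℕ} (e : C ≃ Fin M) (g : stab C) {x : α} (hx : x ∈ C)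
    (h : (g : Equiv.Perm α) x ≠ x) : restr C e g ≠ 1 := by
  intro h1
  have := restr_apply C e g ⟨x, hx⟩
  rw [h1, Equiv.Perm.one_apply] at this
  exact h (congrArg Subtype.val (e.injective this)).symm

theorem restr_pow (C : Finset α) {M : ℕ} (e : C ≃ Fin M) (g : stab C) {N : ℕ}
    (h : (g : Equiv.Perm α) ^ N = 1) : (restr C e g) ^ N = 1 := by
  rw [← map_pow, show g ^ N = 1 from Subtype.ext (by simpa using h), map_one]

theorem restr_orb {g : Equiv.Perm α} {x : α} {M : ℕ} (e : orb g x ≃ Fin M)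
    (hg : g ∈ stab (orb g x)) :
    (restr (orb g x) e ⟨g, hg⟩).IsCycleOn (Set.univ : Set (Fin M)) := by
  refine ⟨Set.bijOn_univ.2 (Equiv.bijective _), fun a _ b _ => ?_⟩
  obtain ⟨⟨y, hy⟩, rfl⟩ := e.surjective a
  obtain ⟨⟨z, hz⟩, rfl⟩ := e.surjective b
  obtain ⟨i, hi⟩ := (mem_orb.1 hy).symm.trans (mem_orb.1 hz)
  refine ⟨i, ?_⟩
  rw [← map_zpow, restr_apply]
  congr 1
  ext
  simpa using hi

/-- Lifting a local solution. -/
theorem lift_good {p M : ℕ} (u w : Equiv.Perm α) (C T : Finset α) (eC : C ≃ Fin M) (eT : T ≃ Fin M)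
    (hu : u ∈ stab C) (hw : w ∈ stab T) (σ t : Equiv.Perm (Fin M)) (τ : Equiv.Perm α)
    (hτ : ∀ x ∈ C, τ x = x) (ht : t = σ)
    (h : Good p (restr C eC ⟨u, hu⟩) (σ * restr T eT ⟨w, hw⟩ * σ⁻¹)) :
    ∃ g : Equiv.Perm α, Equiv.Perm.sign g = Equiv.Perm.sign τ * Equiv.Perm.sign σ *
        Equiv.Perm.sign (eT.trans eC.symm).extendSubtype ∧ Good p u (g * w * g⁻¹) := by
  subst ht
  set h0 : Equiv.Perm α := (eT.trans eC.symm).extendSubtype with hh0
  set s : Equiv.Perm C := eC.symm.permCongr t with hs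
  set g : Equiv.Perm α := τ * Equiv.Perm.ofSubtype s * h0 with hg
  have hsig : Equiv.Perm.sign g = Equiv.Perm.sign τ * Equiv.Perm.sign t * Equiv.Perm.sign h0 := by
    rw [hg, map_mul, map_mul, Equiv.Perm.sign_ofSubtype, hs, Equiv.Perm.sign_permCongr]
  refine ⟨g, hsig, ?_⟩
  have key : ∀ j : T, g j = eC.symm (t (eT j)) := by
    intro j
    rw [hg, Equiv.Perm.mul_apply, Equiv.Perm.mul_apply, hh0, Equiv.extendSubtype_apply_of_mem _ _ j.2,
      Equiv.trans_apply, Equiv.Perm.ofSubtype_apply_coe]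
    rw [hτ _ (s (eC.symm (eT ⟨j, j.2⟩))).2, hs, Equiv.permCongr_apply]
    simp
  have hmem : ∀ x, g x ∈ C ↔ x ∈ T := by
    intro x
    constructor
    · intro hx
      obtain ⟨j, hj⟩ : ∃ j : T, g j = g x :=
        ⟨eT.symm (t⁻¹ (eC ⟨g x, hx⟩)), by rw [key]; simp⟩
      rw [← g.injective hj]; exact j.2
    · intro hx
      rw [key ⟨x, hx⟩]
      exact (eC.symm _).2
  have hw' : g * w * g⁻¹ ∈ stab C := by
    intro x
    rw [Equiv.Perm.mul_apply, Equiv.Perm.mul_apply, hmem, hw, ← hmem]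
    simp
  have hR : restr C eC ⟨g * w * g⁻¹, hw'⟩ = t * restr T eT ⟨w, hw⟩ * t⁻¹ := by
    refine Equiv.ext fun i => ?_
    obtain ⟨i, rfl⟩ : ∃ j, t (eT j) = i := ⟨eT.symm (t⁻¹ i), by simp⟩
    have h1 : t (eT i) = eC ⟨g i, (hmem _).2 i.2⟩ := by
      have : (⟨g i, (hmem _).2 i.2⟩ : C) = eC.symm (t (eT i)) := Subtype.ext (key i)
      rw [this, Equiv.apply_symm_apply]
    show _ = t ((restr T eT ⟨w, hw⟩) (t⁻¹ (t (eT i))))
    rw [show t⁻¹ (t (eT i)) = eT i by simp, restr_apply]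
    conv_lhs => rw [h1, restr_apply]
    apply eC.symm.injective
    rw [Equiv.symm_apply_apply]
    refine Subtype.ext ?_
    rw [← key ⟨w i, (hw i).2 i.2⟩]
    simp
  rw [← hR] at h
  exact (h.of_map (restr C eC)).map (stab C).subtype Subtype.val_injective

end Cfsg.Agent.FreePair
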