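import Mathlib

/-!
The number of nilpotent `n × n` matrices over a field with `q` elements is `q ^ (n * (n - 1))`,
by counting endomorphisms through their Fitting decomposition.
-/

set_option autoImplicit false

namespace Cfsg.Agent.Lib.KnownSimple

variable {F : Type*} [Field F]

/-- The standard space. -/
abbrev Sp (F : Type*) (j : ℕ) := Fin j → F

/-- The two halves of the Fitting decomposition. -/
noncomputable def fitK {n : ℕ} (f : Module.End F (Sp F n)) : Submodule F (Sp F n) :=
  LinearMap.ker (f ^ n)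

/-- The range half. -/
noncomputable def fitR {n : ℕ} (f : Module.End F (Sp F n)) : Submodule F (Sp F n) :=
  LinearMap.range (f ^ n)

theorem fit_isCompl {n : ℕ} (f : Module.End F (Sp F n)) : IsCompl (fitK f) (fitR f) := by
  obtain ⟨N, hN⟩ := Filter.eventually_atTop.1 f.eventually_isCompl_ker_pow_range_pow
  have h := hN (max N n) (le_max_left _ _)
  have hk : LinearMap.ker (f ^ max N n) = LinearMap.ker (f ^ n) := by
    have hn : Module.finrank F (Sp F n) = n := Module.finrank_fin_fun F
    rw [Module.End.ker_pow_eq_ker_pow_finrank_of_le (f := f) (m := max N n)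
      (by rw [hn]; exact le_max_right _ _), hn]
  have hr : LinearMap.range (f ^ max N n) = LinearMap.range (f ^ n) := by
    refine Submodule.eq_of_le_of_finrank_le ?_ ?_
    · obtain ⟨c, hc⟩ := Nat.exists_eq_add_of_le (le_max_right N n)
      rw [hc, pow_add, Module.End.mul_eq_comp]
      exact LinearMap.range_comp_le_range _ _
    · have h1 := LinearMap.finrank_range_add_finrank_ker (f ^ max N n)
      have h2 := LinearMap.finrank_range_add_finrank_ker (f ^ n)
      rw [hk] at h1
      omega
  rw [hk, hr] at h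
  exact h

theorem fit_mapsTo_K {n : ℕ} (f : Module.End F (Sp F n)) : ∀ x ∈ fitK f, f x ∈ fitK f := by
  intro x hx
  rw [fitK, LinearMap.mem_ker] at hx ⊢
  rw [← Module.End.mul_apply, (Commute.pow_self f n).eq, Module.End.mul_apply, hx, map_zero]

theorem fit_mapsTo_R {n : ℕ} (f : Module.End F (Sp F n)) : ∀ x ∈ fitR f, f x ∈ fitR f := by
  rintro x ⟨y, rfl⟩
  exact ⟨f y, by rw [← Module.End.mul_apply, (Commute.pow_self f n).eq, Module.End.mul_apply]⟩

/-- Splitting data: a decomposition, a nilpotent and an invertible part. -/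
abbrev Data (F : Type*) [Field F] (n j : ℕ) :=
  ((Sp F j × Sp F (n - j)) ≃ₗ[F] Sp F n) × {A : Module.End F (Sp F j) // IsNilpotent A} ×
    {B : Module.End F (Sp F (n - j)) // IsUnit B}

/-- The endomorphism given by splitting data. -/
noncomputable def assemble {n j : ℕ} (d : Data F n j) : Module.End F (Sp F n) :=
  d.1.conjAlgEquiv F (LinearMap.prodMap d.2.1.1 d.2.2.1)

theorem assemble_apply {n j : ℕ} (d : Data F n j) (x : Sp F j × Sp F (n - j)) :
    assemble d (d.1 x) = d.1 (d.2.1.1 x.1, d.2.2.1 x.2) := by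
  simp [assemble, LinearEquiv.conjAlgEquiv_apply]

theorem assemble_pow_apply {n j : ℕ} (d : Data F n j) (k : ℕ) (x : Sp F j × Sp F (n - j)) :
    (assemble d ^ k) (d.1 x) = d.1 ((d.2.1.1 ^ k) x.1, (d.2.2.1 ^ k) x.2) := by
  induction k with
  | zero => simp
  | succ k ih => rw [pow_succ', Module.End.mul_apply, ih, assemble_apply]; simp [pow_succ', Module.End.mul_apply]

theorem pow_eq_zero_of_nilpotent {j n : ℕ} (hj : j ≤ n) {A : Module.End F (Sp F j)}
    (hA : IsNilpotent A) : A ^ n = 0 := by
  obtain ⟨k, hk⟩ := hA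
  have hle : LinearMap.ker (A ^ k) ≤ LinearMap.ker (A ^ n) := by
    have h1 := A.iterateKer.monotone (le_max_left k n)
    have hfr : Module.finrank F (Sp F j) = j := Module.finrank_fin_fun F
    have h2 : LinearMap.ker (A ^ max k n) = LinearMap.ker (A ^ n) := by
      rw [Module.End.ker_pow_eq_ker_pow_finrank_of_le (f := A) (m := max k n) (by omega),
        Module.End.ker_pow_eq_ker_pow_finrank_of_le (f := A) (m := n) (by omega)]
    exact h1.trans h2.le
  rw [hk, LinearMap.ker_zero, top_le_iff] at hle
  exact LinearMap.ker_eq_top.1 hle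

theorem mem_fitK_assemble {n j : ℕ} (hj : j ≤ n) (d : Data F n j) (x : Sp F n) :
    x ∈ fitK (assemble d) ↔ (d.1.symm x).2 = 0 := by
  obtain ⟨y, rfl⟩ := d.1.surjective x
  rw [fitK, LinearMap.mem_ker, assemble_pow_apply, LinearEquiv.map_eq_zero_iff, Prod.mk_eq_zero,
    LinearEquiv.symm_apply_apply, pow_eq_zero_of_nilpotent hj d.2.1.2]
  have hB := (Module.End.isUnit_iff _).1 (d.2.2.2.pow n)
  simp [map_eq_zero_iff _ hB.injective]

theorem mem_fitR_assemble {n j : ℕ} (hj : j ≤ n) (d : Data F n j) (x : Sp F n) :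
    x ∈ fitR (assemble d) ↔ (d.1.symm x).1 = 0 := by
  rw [fitR, LinearMap.mem_range]
  constructor
  · rintro ⟨y, rfl⟩
    obtain ⟨z, rfl⟩ := d.1.surjective y
    simp [assemble_pow_apply, pow_eq_zero_of_nilpotent hj d.2.1.2]
  · intro h
    have hB := (Module.End.isUnit_iff _).1 (d.2.2.2.pow n)
    obtain ⟨b, hb⟩ := hB.surjective (d.1.symm x).2
    refine ⟨d.1 (0, b), ?_⟩
    rw [assemble_pow_apply, hb, map_zero, ← h]
    exact d.1.apply_symm_apply x

theorem finrank_fitK_assemble {n j : ℕ} (hj : j ≤ n) (d : Data F n j) :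
    Module.finrank F (fitK (assemble d)) = j := by
  have e : fitK (assemble d) = LinearMap.range (d.1.toLinearMap ∘ₗ LinearMap.inl F _ _) := by
    ext x
    rw [mem_fitK_assemble hj]
    constructor
    · intro h
      refine ⟨(d.1.symm x).1, ?_⟩
      simp only [LinearMap.comp_apply, LinearMap.inl_apply, LinearEquiv.coe_coe, ← h]
      exact d.1.apply_symm_apply x
    · rintro ⟨a, rfl⟩; simp
  rw [e, LinearMap.finrank_range_of_inj, Module.finrank_fin_fun]
  exact d.1.injective.comp LinearMap.inl_injective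

/-- Endomorphisms whose nilpotent part has dimension `j`. -/
abbrev Stratum (F : Type*) [Field F] (n j : ℕ) :=
  {f : Module.End F (Sp F n) // Module.finrank F (fitK f) = j}

/-- Splitting data over an endomorphism correspond to bases of the two halves. -/
theorem exists_data {n j : ℕ} (hj : j ≤ n) (f : Stratum F n j)
    (e₁ : Sp F j ≃ₗ[F] fitK f.1) (e₂ : Sp F (n - j) ≃ₗ[F] fitR f.1) :
    ∃ d : Data F n j, assemble d = f.1 ∧ (∀ a, d.1 (a, 0) = (e₁ a : Sp F n)) ∧
      ∀ b, d.1 (0, b) = (e₂ b : Sp F n) := by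
  let fK := f.1.restrict (fit_mapsTo_K f.1)
  let fR := f.1.restrict (fit_mapsTo_R f.1)
  let A : Module.End F (Sp F j) := e₁.symm.toLinearMap ∘ₗ fK ∘ₗ e₁.toLinearMap
  let B : Module.End F (Sp F (n - j)) := e₂.symm.toLinearMap ∘ₗ fR ∘ₗ e₂.toLinearMap
  have hfK : IsNilpotent fK := ⟨n, by
    ext x : 1
    apply Subtype.ext
    rw [Module.End.pow_restrict n]
    exact x.2⟩
  have hA : IsNilpotent A := by
    have : A = e₁.symm.conjAlgEquiv F fK := by ext; simp [A, LinearEquiv.conjAlgEquiv_apply]
    rw [this]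
    exact hfK.map _
  have hfR : Function.Injective fR := by
    rw [← LinearMap.ker_eq_bot, LinearMap.ker_eq_bot']
    intro x hx
    apply Subtype.ext
    refine (Submodule.disjoint_def.1 (fit_isCompl f.1).disjoint) x.1 ?_ x.2
    rw [fitK, LinearMap.mem_ker]
    rcases Nat.eq_zero_or_pos n with hn | hn
    · subst hn; exact Subsingleton.elim _ _
    obtain ⟨m, rfl⟩ : ∃ m, n = m + 1 := ⟨n - 1, by omega⟩
    have hx' : f.1 x.1 = 0 := congrArg Subtype.val hx
    rw [pow_succ, Module.End.mul_apply]
    rw [hx', map_zero]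
  have hB : IsUnit B := by
    rw [Module.End.isUnit_iff]
    have h : Function.Injective B := fun a b hab =>
      e₂.injective (hfR (e₂.symm.injective hab))
    exact ⟨h, LinearMap.injective_iff_surjective.1 h⟩
  let e : (Sp F j × Sp F (n - j)) ≃ₗ[F] Sp F n :=
    (e₁.prodCongr e₂).trans (Submodule.prodEquivOfIsCompl _ _ (fit_isCompl f.1))
  refine ⟨(e, ⟨A, hA⟩, ⟨B, hB⟩), ?_, fun a => ?_, fun b => ?_⟩
  · refine LinearMap.ext fun x => ?_
    obtain ⟨y, rfl⟩ := e.surjective x
    refine (assemble_apply (e, ⟨A, hA⟩, ⟨B, hB⟩) y).trans ?_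
    simp [e, A, B, fK, fR, Submodule.coe_prodEquivOfIsCompl', map_add]
  · simp [e, Submodule.coe_prodEquivOfIsCompl']
  · simp [e, Submodule.coe_prodEquivOfIsCompl']

theorem data_ext {n j : ℕ} {d d' : Data F n j} (h : assemble d = assemble d') (he : d.1 = d'.1) :
    d = d' := by
  obtain ⟨e, A, B⟩ := d
  obtain ⟨e', A', B'⟩ := d'
  obtain rfl : e = e' := he
  have key : ∀ x : Sp F j × Sp F (n - j), (A.1 x.1, B.1 x.2) = (A'.1 x.1, B'.1 x.2) := by
    intro x
    apply e.injective
    have := assemble_apply (e, A, B) x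
    rw [h, assemble_apply] at this
    exact this.symm
  refine Prod.ext rfl (Prod.ext (Subtype.ext (LinearMap.ext fun a => ?_)) (Subtype.ext (LinearMap.ext fun b => ?_)))
  · exact congrArg Prod.fst (key (a, 0))
  · exact congrArg Prod.snd (key (0, b))

theorem card_linearEquiv [Finite F] {j : ℕ} {W : Type*} [AddCommGroup W] [Module F W]
    [FiniteDimensional F W] (h : Module.finrank F W = j) :
    Nat.card (Sp F j ≃ₗ[F] W) = Nat.card (Matrix.GeneralLinearGroup (Fin j) F) := by
  let e0 : Sp F j ≃ₗ[F] W := LinearEquiv.ofFinrankEq _ _ (by rw [Module.finrank_fin_fun, h])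
  rw [Nat.card_congr
    { toFun := fun e => e.trans e0.symm
      invFun := fun e => e.trans e0
      left_inv := fun e => by ext1 x; simp
      right_inv := fun e => by ext1 x; simp }]
  exact Nat.card_congr (((LinearMap.GeneralLinearGroup.generalLinearEquiv F (Sp F j)).symm.trans
    Matrix.GeneralLinearGroup.toLin.symm).toEquiv)

theorem card_units_End [Finite F] {j : ℕ} :
    Nat.card {B : Module.End F (Sp F j) // IsUnit B} = Nat.card (Matrix.GeneralLinearGroup (Fin j) F) := by
  rw [← Nat.card_congr Matrix.GeneralLinearGroup.toLin.symm.toEquiv]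
  exact (Nat.card_eq_of_bijective (fun u : (Module.End F (Sp F j))ˣ => (⟨u.1, u.isUnit⟩ : {B : Module.End F (Sp F j) // IsUnit B}))
    ⟨fun a b h => Units.ext (congrArg Subtype.val h), fun B => ⟨B.2.unit, Subtype.ext B.2.unit_spec⟩⟩).symm

/-- The number of nilpotent endomorphisms of `F ^ j`. -/
noncomputable def nilCard (F : Type*) [Field F] (j : ℕ) : ℕ :=
  Nat.card {A : Module.End F (Sp F j) // IsNilpotent A}

theorem card_stratum [Fintype F] {n j : ℕ} (hj : j ≤ n) :
    Nat.card (Stratum F n j) * Nat.card (Matrix.GeneralLinearGroup (Fin j) F) =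
      Nat.card (Matrix.GeneralLinearGroup (Fin n) F) * nilCard F j := by
  classical
  haveI : Finite (Module.End F (Sp F n)) := Module.finite_of_finite F
  haveI : Fintype (Stratum F n j) := Fintype.ofFinite _
  let Ψ : Data F n j → Stratum F n j := fun d => ⟨assemble d, finrank_fitK_assemble hj d⟩
  have hfib : ∀ f, Nat.card {d // Ψ d = f} = Nat.card (Matrix.GeneralLinearGroup (Fin j) F) *
      Nat.card (Matrix.GeneralLinearGroup (Fin (n - j)) F) := by
    intro f
    have hR : Module.finrank F (fitR f.1) = n - j := by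
      have := Submodule.finrank_add_eq_of_isCompl (fit_isCompl f.1)
      rw [f.2, Module.finrank_fin_fun] at this
      omega
    rw [← card_linearEquiv f.2, ← card_linearEquiv hR, ← Nat.card_prod]
    choose D hD₁ hD₂ hD₃ using exists_data hj f
    refine (Nat.card_eq_of_bijective
      (fun p : (Sp F j ≃ₗ[F] fitK f.1) × (Sp F (n - j) ≃ₗ[F] fitR f.1) =>
        (⟨D p.1 p.2, Subtype.ext (hD₁ p.1 p.2)⟩ : {d // Ψ d = f})) ⟨?_, ?_⟩).symm
    · intro p p' h
      have h' : D p.1 p.2 = D p'.1 p'.2 := congrArg Subtype.val h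
      refine Prod.ext (LinearEquiv.ext fun a => Subtype.ext ?_) (LinearEquiv.ext fun b => Subtype.ext ?_)
      · rw [← hD₂ p.1 p.2, h', hD₂]
      · rw [← hD₃ p.1 p.2, h', hD₃]
    · rintro ⟨d, hd⟩
      have hdf : assemble d = f.1 := congrArg Subtype.val hd
      let u : Sp F j →ₗ[F] fitK f.1 :=
        (d.1.toLinearMap ∘ₗ LinearMap.inl F _ _).codRestrict _ (fun a => by
          rw [← hdf, mem_fitK_assemble hj]; simp)
      let v : Sp F (n - j) →ₗ[F] fitR f.1 :=
        (d.1.toLinearMap ∘ₗ LinearMap.inr F _ _).codRestrict _ (fun b => by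
          rw [← hdf, mem_fitR_assemble hj]; simp)
      have hu : Function.Injective u := fun a b h =>
        LinearMap.inl_injective (d.1.injective (congrArg Subtype.val h))
      have hv : Function.Injective v := fun a b h =>
        LinearMap.inr_injective (d.1.injective (congrArg Subtype.val h))
      refine ⟨(LinearEquiv.ofBijective u ⟨hu, (LinearMap.injective_iff_surjective_of_finrank_eq_finrank
          (by rw [f.2, Module.finrank_fin_fun])).1 hu⟩,
        LinearEquiv.ofBijective v ⟨hv, (LinearMap.injective_iff_surjective_of_finrank_eq_finrank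
          (by rw [hR, Module.finrank_fin_fun])).1 hv⟩), Subtype.ext ?_⟩
      refine data_ext ((hD₁ _ _).trans hdf.symm) (LinearEquiv.ext fun x => ?_)
      rw [show x = (x.1, 0) + (0, x.2) by simp, map_add, map_add, hD₂, hD₃]
      rfl
  have hData : Nat.card (Data F n j) = Nat.card (Matrix.GeneralLinearGroup (Fin n) F) *
      (nilCard F j * Nat.card (Matrix.GeneralLinearGroup (Fin (n - j)) F)) := by
    rw [Nat.card_prod, Nat.card_prod, card_units_End, nilCard]
    congr 1
    let e0 : Sp F n ≃ₗ[F] (Sp F j × Sp F (n - j)) := LinearEquiv.ofFinrankEq _ _ (by simp; omega)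
    rw [← card_linearEquiv (Module.finrank_fin_fun F (n := n))]
    exact Nat.card_congr
      { toFun := fun e => e0.trans e
        invFun := fun e => e0.symm.trans e
        left_inv := fun e => by ext1 x; simp
        right_inv := fun e => by ext1 x; simp }
  haveI : Finite (Data F n j) := Nat.finite_of_card_ne_zero (by
    rw [hData]
    haveI : Finite (Module.End F (Sp F j)) := Module.finite_of_finite F
    haveI : Nonempty {A : Module.End F (Sp F j) // IsNilpotent A} := ⟨⟨0, IsNilpotent.zero⟩⟩
    exact mul_ne_zero Nat.card_pos.ne' (mul_ne_zero Nat.card_pos.ne' Nat.card_pos.ne'))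
  have hsum := Nat.card_congr (Equiv.sigmaFiberEquiv Ψ)
  rw [Nat.card_sigma, Finset.sum_congr rfl (fun f _ => hfib f), Finset.sum_const, Finset.card_univ,
    ← Nat.card_eq_fintype_card, smul_eq_mul, hData] at hsum
  have hpos : 0 < Nat.card (Matrix.GeneralLinearGroup (Fin (n - j)) F) := Nat.card_pos
  apply Nat.eq_of_mul_eq_mul_right hpos
  rw [mul_assoc, hsum, mul_assoc]

theorem card_GL_succ [Fintype F] (m : ℕ) :
    Nat.card (Matrix.GeneralLinearGroup (Fin (m + 1)) F) =
      (Fintype.card F ^ (m + 1) - 1) * Fintype.card F ^ m *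
        Nat.card (Matrix.GeneralLinearGroup (Fin m) F) := by
  rw [Matrix.card_GL_field (m + 1), Matrix.card_GL_field m, Fin.prod_univ_succ, mul_assoc]
  congr 1
  have key : ∀ i : Fin m, Fintype.card F ^ (m + 1) - Fintype.card F ^ ((i.succ : Fin (m + 1)) : ℕ) =
      Fintype.card F * (Fintype.card F ^ m - Fintype.card F ^ (i : ℕ)) := fun i => by
    rw [Nat.mul_sub, Fin.val_succ, ← pow_succ', ← pow_succ']
  rw [Finset.prod_congr rfl fun i _ => key i, Finset.prod_mul_distrib, Fin.prod_const]

/-- The Fitting coefficient `|GL_n| / |GL_j|`. -/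
def fitCoef (q : ℕ) : ℕ → ℕ → ℕ
  | 0, _ => 1
  | m + 1, j => if j ≤ m then (q ^ (m + 1) - 1) * q ^ m * fitCoef q m j else 1

theorem fitCoef_mul [Fintype F] {n j : ℕ} (hj : j ≤ n) :
    fitCoef (Fintype.card F) n j * Nat.card (Matrix.GeneralLinearGroup (Fin j) F) =
      Nat.card (Matrix.GeneralLinearGroup (Fin n) F) := by
  induction n with
  | zero => obtain rfl : j = 0 := by omega
            simp [fitCoef]
  | succ m ih =>
    rcases Nat.lt_or_ge m j with h | h
    · obtain rfl : j = m + 1 := by omega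
      simp [fitCoef]
    · rw [fitCoef, if_pos h, mul_assoc, ih h, card_GL_succ]

theorem fitCoef_self (q n : ℕ) : fitCoef q n n = 1 := by cases n <;> simp [fitCoef]

theorem sum_fitCoef (q : ℕ) (hq : 1 ≤ q) (n : ℕ) :
    ∑ j ∈ Finset.range (n + 1), fitCoef q n j * q ^ (j * (j - 1)) = q ^ (n * n) := by
  induction n with
  | zero => simp [fitCoef]
  | succ m ih =>
    rw [Finset.sum_range_succ, fitCoef_self, one_mul]
    have : ∀ j ∈ Finset.range (m + 1), fitCoef q (m + 1) j * q ^ (j * (j - 1)) =
        (q ^ (m + 1) - 1) * q ^ m * (fitCoef q m j * q ^ (j * (j - 1))) := by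
      intro j hj
      rw [fitCoef, if_pos (by simpa using Nat.lt_succ_iff.1 (Finset.mem_range.1 hj))]
      ring
    rw [Finset.sum_congr rfl this, ← Finset.mul_sum, ih, Nat.add_sub_cancel]
    have h1 : 1 ≤ q ^ (m + 1) := Nat.one_le_pow _ _ hq
    obtain ⟨t, ht⟩ : ∃ t, q ^ (m + 1) = t + 1 := ⟨q ^ (m + 1) - 1, by omega⟩
    rw [show (m + 1) * (m + 1) = (m + 1) + (m + m * m) by ring, pow_add q (m + 1),
      show (m + 1) * m = m + m * m by ring, ht, Nat.add_sub_cancel, pow_add]
    ring

theorem nilCard_eq [Fintype F] (n : ℕ) : nilCard F n = Fintype.card F ^ (n * (n - 1)) := by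
  classical
  induction n using Nat.strong_induction_on with
  | _ n ih =>
    have hst : ∀ j, j ≤ n → Nat.card (Stratum F n j) = fitCoef (Fintype.card F) n j * nilCard F j := by
      intro j hj
      apply Nat.eq_of_mul_eq_mul_right (Nat.card_pos (α := Matrix.GeneralLinearGroup (Fin j) F))
      rw [card_stratum hj, ← fitCoef_mul (F := F) hj]
      ring
    haveI : Finite (Module.End F (Sp F n)) := Module.finite_of_finite F
    haveI : Fintype (Module.End F (Sp F n)) := Fintype.ofFinite _
    have htot : Nat.card (Module.End F (Sp F n)) = Fintype.card F ^ (n * n) := by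
      rw [← Nat.card_congr (LinearMap.toMatrix' (R := F) (n := Fin n) (m := Fin n)).symm.toEquiv]
      change Nat.card (Fin n → Fin n → F) = _
      rw [Nat.card_fun, Nat.card_fun, Nat.card_fin, Nat.card_eq_fintype_card, pow_mul]
    have hrange : ∀ f : Module.End F (Sp F n), Module.finrank F (fitK f) < n + 1 := fun f => by
      have := Submodule.finrank_le (fitK f)
      rw [Module.finrank_fin_fun] at this
      omega
    have hsum : ∑ j ∈ Finset.range (n + 1), fitCoef (Fintype.card F) n j * nilCard F j =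
        Fintype.card F ^ (n * n) := by
      rw [← htot, Nat.card_eq_fintype_card, ← Finset.card_univ (α := Module.End F (Sp F n)),
        Finset.card_eq_sum_card_fiberwise (t := Finset.range (n + 1))
          (f := fun f : Module.End F (Sp F n) => Module.finrank F (fitK f))
          (fun f _ => Finset.mem_range.2 (hrange f))]
      refine Finset.sum_congr rfl fun j hj => ?_
      rw [← hst j (by have := Finset.mem_range.1 hj; omega), Nat.card_eq_fintype_card, Fintype.card_subtype]
    have h2 := sum_fitCoef (Fintype.card F) Fintype.card_pos n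
    rw [Finset.sum_range_succ, fitCoef_self, one_mul] at hsum h2
    rw [Finset.sum_congr rfl fun j hj => by rw [ih j (Finset.mem_range.1 hj)]] at hsum
    omega

/-- The number of nilpotent matrices. -/
theorem card_nilpotent_matrix [Fintype F] (n : ℕ) :
    Nat.card {A : Matrix (Fin n) (Fin n) F // IsNilpotent A} = Fintype.card F ^ (n * (n - 1)) := by
  rw [← nilCard_eq, nilCard]
  exact Nat.card_congr ((Matrix.toLinAlgEquiv' (R := F) (n := Fin n)).toEquiv.subtypeEquiv fun A =>
    ⟨fun h => h.map (Matrix.toLinAlgEquiv' (R := F) (n := Fin n)), fun h => by simpa using h.map (Matrix.toLinAlgEquiv' (R := F) (n := Fin n)).symm⟩)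

end Cfsg.Agent.Lib.KnownSimple
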