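import Mathlib

/-!
The number of unipotent isometries of a `2m`-dimensional symplectic space over `F_q` is `q^(2m²)`.

For `g ≠ 1` unipotent the alternating sum over totally isotropic subspaces of the fixed space
vanishes, because the fixed space has a non-zero radical. Counting the pairs (unipotent, fixed
isotropic tuple) by the first vector of the tuple gives a recursion for the count, solved by
two `q`-binomial identities.
-/

set_option autoImplicit false

namespace Cfsg.Agent.Lib.KnownSimple.SpCount

/-- The symplectic space. -/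
abbrev V (F : Type*) (m : ℕ) := Fin m ⊕ Fin m → F

section Form

variable {F : Type*} [Field F] {m : ℕ}

/-- The standard alternating form. -/
def B (x y : V F m) : F := ∑ i, (x (Sum.inl i) * y (Sum.inr i) - x (Sum.inr i) * y (Sum.inl i))

theorem B_add_left (x x' y : V F m) : B (x + x') y = B x y + B x' y := by
  simp only [B, Pi.add_apply, add_mul, ← Finset.sum_add_distrib]
  exact Finset.sum_congr rfl fun i _ => by ring

theorem B_smul_left (c : F) (x y : V F m) : B (c • x) y = c * B x y := by
  simp only [B, Pi.smul_apply, smul_eq_mul, Finset.mul_sum]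
  exact Finset.sum_congr rfl fun i _ => by ring

theorem B_swap (x y : V F m) : B x y = -B y x := by
  simp only [B, ← Finset.sum_neg_distrib]
  exact Finset.sum_congr rfl fun i _ => by ring

theorem B_add_right (x y y' : V F m) : B x (y + y') = B x y + B x y' := by
  rw [B_swap, B_add_left, neg_add, ← B_swap, ← B_swap]

theorem B_smul_right (c : F) (x y : V F m) : B x (c • y) = c * B x y := by
  rw [B_swap, B_smul_left, ← mul_neg, ← B_swap]

theorem B_self (x : V F m) : B x x = 0 := by
  simp only [B]
  exact Finset.sum_eq_zero fun i _ => by ring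

theorem B_zero_left (y : V F m) : B 0 y = 0 := by simp [B]

theorem B_zero_right (y : V F m) : B y 0 = 0 := by simp [B]

theorem B_sub_left (x x' y : V F m) : B (x - x') y = B x y - B x' y := by
  rw [sub_eq_add_neg, B_add_left, ← neg_one_smul F x', B_smul_left]; ring

theorem B_sum_left {ι : Type*} (s : Finset ι) (f : ι → V F m) (y : V F m) :
    B (∑ i ∈ s, f i) y = ∑ i ∈ s, B (f i) y := by
  classical
  induction s using Finset.induction_on with
  | empty => simp [B_zero_left]
  | insert a s ha ih => rw [Finset.sum_insert ha, Finset.sum_insert ha, B_add_left, ih]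

theorem nondeg {x : V F m} (h : ∀ y, B x y = 0) : x = 0 := by
  classical
  funext i
  rcases i with i | i
  · have := h (Pi.single (Sum.inr i) 1)
    simpa [B, Pi.single_apply] using this
  · have := h (Pi.single (Sum.inl i) 1)
    simpa [B, Pi.single_apply] using this

theorem exists_B_ne {x : V F m} (h : x ≠ 0) : ∃ y, B x y ≠ 0 := by
  by_contra hc
  push Not at hc
  exact h (nondeg hc)

/-- The linear isometries. -/
abbrev Iso (F : Type*) [Field F] (m : ℕ) := {f : Module.End F (V F m) // ∀ x y, B (f x) (f y) = B x y}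

instance [Finite F] : Finite (Iso F m) :=
  Finite.of_injective (fun f => (f.1 : V F m → V F m)) fun _ _ h => Subtype.ext (DFunLike.coe_injective h)

theorem iso_injective (f : Iso F m) : Function.Injective f.1 := by
  intro x y h
  refine sub_eq_zero.1 (nondeg fun z => ?_)
  rw [← f.2 (x - y) z, map_sub, h, sub_self, B_zero_left]

/-- An isometry as a linear equivalence. -/
noncomputable def equivOf (f : Iso F m) : V F m ≃ₗ[F] V F m :=
  LinearEquiv.ofInjectiveEndo f.1 (iso_injective f)

theorem equivOf_apply (f : Iso F m) (x : V F m) : equivOf f x = f.1 x :=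
  congrFun (LinearEquiv.coe_ofInjectiveEndo f.1 (iso_injective f)) x

theorem equivOf_B (f : Iso F m) (x y : V F m) : B (equivOf f x) (equivOf f y) = B x y := by
  rw [equivOf_apply, equivOf_apply, f.2]

/-- A symplectic transvection. -/
def trans (c : F) (d : V F m) : Iso F m :=
  ⟨{ toFun := fun x => x + (c * B x d) • d
     map_add' := fun x y => by rw [B_add_left, mul_add, add_smul]; abel
     map_smul' := fun r x => by
       rw [RingHom.id_apply, B_smul_left, smul_add, smul_smul]; congr 2; ring },
   fun x y => by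
    change B (x + (c * B x d) • d) (y + (c * B y d) • d) = _
    rw [B_add_left, B_add_right, B_add_right, B_smul_left, B_smul_left, B_smul_right, B_smul_right,
      B_self, B_swap d y]
    ring⟩

theorem exists_one_step {u v : V F m} (h : B u v ≠ 0) : ∃ f : Iso F m, f.1 u = v := by
  refine ⟨trans (B u v)⁻¹ (v - u), ?_⟩
  change u + ((B u v)⁻¹ * B u (v - u)) • (v - u) = v
  have : B u (v - u) = B u v := by
    rw [sub_eq_add_neg, B_add_right, ← neg_one_smul F u, B_smul_right, B_self]; ring
  rw [this, inv_mul_cancel₀ h, one_smul, add_sub_cancel]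

/-- The isometries are transitive on non-zero vectors. -/
theorem exists_iso {u v : V F m} (hu : u ≠ 0) (hv : v ≠ 0) :
    ∃ e : V F m ≃ₗ[F] V F m, (∀ x y, B (e x) (e y) = B x y) ∧ e u = v := by
  by_cases h : B u v = 0
  · obtain ⟨z, hz1, hz2⟩ : ∃ z, B u z ≠ 0 ∧ B z v ≠ 0 := by
      obtain ⟨z, hz⟩ := exists_B_ne hu
      obtain ⟨z', hz'⟩ := exists_B_ne hv
      by_cases h1 : B z v = 0
      · by_cases h2 : B u z' = 0
        · refine ⟨z + z', ?_, ?_⟩
          · rw [B_add_right, h2, add_zero]; exact hz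
          · rw [B_add_left, h1, zero_add, B_swap, neg_ne_zero]; exact hz'
        · exact ⟨z', h2, by rw [B_swap, neg_ne_zero]; exact hz'⟩
      · exact ⟨z, hz, h1⟩
    obtain ⟨f, hf⟩ := exists_one_step hz1
    obtain ⟨g, hg⟩ := exists_one_step hz2
    refine ⟨(equivOf f).trans (equivOf g), fun x y => ?_, ?_⟩
    · simp only [LinearEquiv.trans_apply, equivOf_B]
    · simp only [LinearEquiv.trans_apply, equivOf_apply, hf, hg]
  · obtain ⟨f, hf⟩ := exists_one_step h
    exact ⟨equivOf f, equivOf_B f, by rw [equivOf_apply, hf]⟩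

theorem symm_B {e : V F m ≃ₗ[F] V F m} (he : ∀ x y, B (e x) (e y) = B x y) (x y : V F m) :
    B (e.symm x) (e.symm y) = B x y := by
  rw [← he, LinearEquiv.apply_symm_apply, LinearEquiv.apply_symm_apply]

/-- Join two coordinates and a vector. -/
def join (a b : F) (x : V F m) : V F (m + 1) :=
  Sum.elim (Fin.cons a fun i => x (Sum.inl i)) (Fin.cons b fun i => x (Sum.inr i))

/-- The vector of the last `m` hyperbolic pairs. -/
def rest (z : V F (m + 1)) : V F m :=
  Sum.elim (fun i => z (Sum.inl i.succ)) (fun i => z (Sum.inr i.succ))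

/-- The first coordinate. -/
def fst (z : V F (m + 1)) : F := z (Sum.inl 0)

/-- Its partner. -/
def snd (z : V F (m + 1)) : F := z (Sum.inr 0)

theorem B_split (z z' : V F (m + 1)) : B z z' = fst z * snd z' - snd z * fst z' + B (rest z) (rest z') := by
  simp only [B, Fin.sum_univ_succ, fst, snd, rest, Sum.elim_inl, Sum.elim_inr]

@[simp] theorem fst_join (a b : F) (x : V F m) : fst (join a b x) = a := by simp [fst, join]

@[simp] theorem snd_join (a b : F) (x : V F m) : snd (join a b x) = b := by simp [snd, join]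

@[simp] theorem rest_join (a b : F) (x : V F m) : rest (join a b x) = x := by
  funext i; rcases i with i | i <;> simp [rest, join]

theorem join_eq (z : V F (m + 1)) : join (fst z) (snd z) (rest z) = z := by
  funext i
  rcases i with i | i <;> refine Fin.cases ?_ (fun i => ?_) i <;> simp [join, fst, snd, rest]

theorem join_add (a b a' b' : F) (x x' : V F m) : join a b x + join a' b' x' = join (a + a') (b + b') (x + x') := by
  funext i
  rcases i with i | i <;> refine Fin.cases ?_ (fun i => ?_) i <;> simp [join]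

theorem join_smul (c a b : F) (x : V F m) : c • join a b x = join (c * a) (c * b) (c • x) := by
  funext i
  rcases i with i | i <;> refine Fin.cases ?_ (fun i => ?_) i <;> simp [join]

theorem join_zero : join (0 : F) 0 (0 : V F m) = 0 := by
  funext i
  rcases i with i | i <;> refine Fin.cases ?_ (fun i => ?_) i <;> simp [join]

theorem fst_add (z z' : V F (m + 1)) : fst (z + z') = fst z + fst z' := rfl

theorem snd_add (z z' : V F (m + 1)) : snd (z + z') = snd z + snd z' := rfl

theorem fst_smul (c : F) (z : V F (m + 1)) : fst (c • z) = c * fst z := rfl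

theorem snd_smul (c : F) (z : V F (m + 1)) : snd (c • z) = c * snd z := rfl

theorem rest_add (z z' : V F (m + 1)) : rest (z + z') = rest z + rest z' := by
  funext i; rcases i with i | i <;> rfl

theorem rest_smul (c : F) (z : V F (m + 1)) : rest (c • z) = c • rest z := by
  funext i; rcases i with i | i <;> rfl

/-- The first standard vector. -/
def e0 (F : Type*) [Field F] (m : ℕ) : V F (m + 1) := join 1 0 0

theorem e0_ne : e0 F m ≠ 0 := fun h => one_ne_zero (α := F) (by
  have := congrArg fst h; simpa [e0, fst, join] using this)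

theorem B_e0 (z : V F (m + 1)) : B (e0 F m) z = snd z := by
  simp [B_split, e0, B_zero_left]

/-- Extend an isometry to the stabiliser of `e0`. -/
def build (g : Iso F m) (w : V F m) (c : F) : Iso F (m + 1) :=
  ⟨{ toFun := fun z => join (fst z + c * snd z + B w (g.1 (rest z))) (snd z) (g.1 (rest z) + snd z • w)
     map_add' := fun z z' => by
      rw [join_add, fst_add, snd_add, rest_add, map_add, B_add_right, add_smul]
      congr 1 <;> first | ring | abel
     map_smul' := fun r z => by
      rw [RingHom.id_apply, join_smul, fst_smul, snd_smul, rest_smul, map_smul, B_smul_right, smul_add, smul_smul]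
      congr 1; ring },
   fun z z' => by
    change B (join _ _ _) (join _ _ _) = _
    rw [B_split, B_split z z']
    simp only [fst_join, snd_join, rest_join]
    rw [B_add_left, B_add_right, B_add_right, B_smul_left, B_smul_left, B_smul_right, B_smul_right, g.2,
      B_self, B_swap (g.1 (rest z)) w]
    ring⟩

theorem build_apply (g : Iso F m) (w : V F m) (c : F) (z : V F (m + 1)) :
    (build g w c).1 z = join (fst z + c * snd z + B w (g.1 (rest z))) (snd z) (g.1 (rest z) + snd z • w) := rfl

theorem stab_snd {f : Iso F (m + 1)} (hf : f.1 (e0 F m) = e0 F m) (z : V F (m + 1)) : snd (f.1 z) = snd z := by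
  rw [← B_e0, ← B_e0]
  nth_rewrite 1 [← hf]
  exact f.2 _ _

/-- The isometry induced on `e0⊥/e0`. -/
def quotIso (f : Iso F (m + 1)) (hf : f.1 (e0 F m) = e0 F m) : Iso F m :=
  ⟨{ toFun := fun x => rest (f.1 (join 0 0 x))
     map_add' := fun x y => by rw [← rest_add, ← map_add, join_add, add_zero]
     map_smul' := fun r x => by rw [RingHom.id_apply, ← rest_smul, ← map_smul, join_smul, mul_zero] },
   fun x y => by
    have h := f.2 (join 0 0 x) (join 0 0 y)
    rw [B_split, B_split (join 0 0 x), stab_snd hf, stab_snd hf] at h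
    simpa using h⟩

theorem build_quotIso {f : Iso F (m + 1)} (hf : f.1 (e0 F m) = e0 F m) :
    build (quotIso f hf) (rest (f.1 (join 0 1 0))) (fst (f.1 (join 0 1 0))) = f := by
  refine Subtype.ext (LinearMap.ext fun z => ?_)
  rw [build_apply]
  have hz : f.1 z = fst z • e0 F m + snd z • f.1 (join 0 1 0) + f.1 (join 0 0 (rest z)) := by
    conv_lhs => rw [← join_eq z]
    rw [show join (fst z) (snd z) (rest z) = fst z • e0 F m + snd z • join 0 1 0 + join 0 0 (rest z) by
      simp [e0, join_smul, join_add], map_add, map_add, map_smul, map_smul, hf]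
  have hA : fst (f.1 (join 0 0 (rest z))) = B (rest (f.1 (join 0 1 0))) (rest (f.1 (join 0 0 (rest z)))) := by
    have h := f.2 (join 0 0 (rest z)) (join 0 1 0)
    rw [B_split, B_split (join 0 0 (rest z)), stab_snd hf, stab_snd hf] at h
    simp only [fst_join, snd_join, rest_join, mul_one, zero_mul, mul_zero, sub_zero, B_zero_right, add_zero] at h
    rw [B_swap (rest (f.1 (join 0 1 0)))]
    linear_combination h
  conv_rhs => rw [hz, ← join_eq (fst z • e0 F m + snd z • f.1 (join 0 1 0) + f.1 (join 0 0 (rest z)))]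
  simp only [fst_add, snd_add, rest_add, fst_smul, snd_smul, rest_smul, stab_snd hf, snd_join, e0, fst_join,
    rest_join, smul_zero, zero_add, mul_one, mul_zero, add_zero, hA]
  congr 1
  · rw [mul_comm (snd z)]
    rfl
  · rw [add_comm]; rfl

/-- Unipotent isometries. -/
def Unip (f : Iso F m) : Prop := IsNilpotent (f.1 - 1)

theorem unip_build_iff (g : Iso F m) (w : V F m) (c : F) : Unip (build g w c) ↔ Unip g := by
  have h1 : ∀ z, snd (((build g w c).1 - 1) z) = 0 := fun z => by
    rw [LinearMap.sub_apply, build_apply, Module.End.one_apply, sub_eq_add_neg, snd_add, snd_join,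
      ← neg_one_smul F z, snd_smul]
    ring
  have h2 : ∀ z, snd z = 0 → rest (((build g w c).1 - 1) z) = (g.1 - 1) (rest z) := fun z hz => by
    rw [LinearMap.sub_apply, build_apply, Module.End.one_apply, sub_eq_add_neg, rest_add, rest_join, hz,
      zero_smul, add_zero, ← neg_one_smul F z, rest_smul, neg_one_smul, LinearMap.sub_apply, Module.End.one_apply,
      sub_eq_add_neg]
  have h3 : ∀ (k : ℕ) z, snd z = 0 → snd ((((build g w c).1 - 1) ^ k) z) = 0 ∧
      rest ((((build g w c).1 - 1) ^ k) z) = ((g.1 - 1) ^ k) (rest z) := by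
    intro k z hz
    induction k with
    | zero => exact ⟨hz, rfl⟩
    | succ k ih =>
      rw [pow_succ', Module.End.mul_apply, pow_succ', Module.End.mul_apply]
      exact ⟨h1 _, by rw [h2 _ ih.1, ih.2]⟩
  constructor
  · rintro ⟨k, hk⟩
    refine ⟨k, LinearMap.ext fun x => ?_⟩
    have h := (h3 k (join 0 0 x) (snd_join _ _ _)).2
    rw [hk, rest_join] at h
    rw [← h, LinearMap.zero_apply, LinearMap.zero_apply]
    funext i; rcases i with i | i <;> rfl
  · rintro ⟨k, hk⟩
    refine ⟨k + 2, LinearMap.ext fun z => ?_⟩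
    set z1 := ((build g w c).1 - 1) z
    have h := h3 k z1 (h1 z)
    rw [hk, LinearMap.zero_apply] at h
    rw [pow_succ, Module.End.mul_apply, pow_succ', Module.End.mul_apply]
    set z2 := (((build g w c).1 - 1) ^ k) z1 with hz2
    rw [LinearMap.zero_apply, LinearMap.sub_apply, Module.End.one_apply, build_apply, h.1, h.2, map_zero,
      B_zero_right, mul_zero, add_zero, add_zero, zero_smul, add_zero, sub_eq_zero]
    conv_rhs => rw [← join_eq z2, h.1, h.2]

theorem build_fix_iff (g : Iso F m) (w : V F m) (c a : F) (y : V F m) :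
    (build g w c).1 (join a 0 y) = join a 0 y ↔ g.1 y = y ∧ B w y = 0 := by
  rw [build_apply]
  simp only [fst_join, snd_join, rest_join, mul_zero, add_zero, zero_smul]
  constructor
  · intro h
    have h1 := congrArg rest h
    have h2 := congrArg fst h
    simp only [rest_join] at h1
    simp only [fst_join, add_eq_left] at h2
    exact ⟨h1, by rwa [h1] at h2⟩
  · rintro ⟨h1, h2⟩
    rw [h1, h2, add_zero]

/-- Totally isotropic independent tuples. -/
def TI {r : ℕ} (w : Fin r → V F m) : Prop := LinearIndependent F w ∧ ∀ i j, B (w i) (w j) = 0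

theorem TI_cons_iff {r : ℕ} (a : Fin r → F) (y : Fin r → V F m) :
    TI (Fin.cons (e0 F m) fun i => join (a i) 0 (y i)) ↔ TI y := by
  have hsum : ∀ s : Fin r → F, ∑ i, s i • join (a i) 0 (y i) = join (∑ i, s i * a i) 0 (∑ i, s i • y i) := by
    intro s
    induction (Finset.univ : Finset (Fin r)) using Finset.induction_on with
    | empty => simp [join_zero]
    | insert i t hi ih =>
      rw [Finset.sum_insert hi, Finset.sum_insert hi, Finset.sum_insert hi, ih, join_smul, join_add, mul_zero, add_zero]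
  constructor
  · rintro ⟨hli, hB⟩
    refine ⟨Fintype.linearIndependent_iff.2 fun s hs i => ?_, fun i j => ?_⟩
    · have := Fintype.linearIndependent_iff.1 hli (Fin.cons (-(∑ i, s i * a i)) s) (by
        rw [Fin.sum_univ_succ]
        simp only [Fin.cons_zero, Fin.cons_succ]
        rw [hsum, hs, e0, join_smul, join_add]
        simp [join_zero]) i.succ
      simpa using this
    · have := hB i.succ j.succ
      simpa [B_split] using this
  · rintro ⟨hli, hB⟩
    refine ⟨Fintype.linearIndependent_iff.2 fun s hs => ?_, fun i j => ?_⟩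
    · rw [Fin.sum_univ_succ] at hs
      simp only [Fin.cons_zero, Fin.cons_succ] at hs
      rw [hsum, e0, join_smul, join_add] at hs
      have h1 := congrArg rest hs
      have h2 := congrArg fst hs
      rw [rest_join, smul_zero, zero_add] at h1
      have h1' : ∑ i : Fin r, s i.succ • y i = 0 := h1.trans (by funext i; rcases i with i | i <;> rfl)
      have hz := Fintype.linearIndependent_iff.1 hli _ h1'
      refine Fin.cases ?_ hz
      rw [fst_join, mul_one] at h2
      have h2' : s 0 + ∑ i : Fin r, s i.succ * a i = 0 := h2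
      simpa [hz] using h2'
    · refine Fin.cases ?_ (fun i => ?_) i <;> refine Fin.cases ?_ (fun j => ?_) j <;>
        simp [B_split, e0, B_zero_left, B_zero_right, hB]

theorem TI_map_iff {r : ℕ} {e : V F m ≃ₗ[F] V F m} (he : ∀ x y, B (e x) (e y) = B x y) (w : Fin r → V F m) :
    TI (fun i => e (w i)) ↔ TI w := by
  refine and_congr ?_ (by simp only [he])
  exact LinearMap.linearIndependent_iff (e : V F m →ₗ[F] V F m) e.ker

theorem TI_le {r : ℕ} {w : Fin r → V F m} (h : TI w) : r ≤ 2 * m := by
  have := h.1.fintype_card_le_finrank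
  simp only [Fintype.card_fin, Module.finrank_fintype_fun_eq_card, Fintype.card_sum] at this
  omega

end Form

section Count

variable (F : Type*) [Field F]

/-- Pairs of a unipotent isometry and a fixed tuple. -/
abbrev Pairs (m r : ℕ) :=
  {p : Iso F m × (Fin r → V F m) // Unip p.1 ∧ TI p.2 ∧ ∀ i, p.1.1 (p.2 i) = p.2 i}

/-- Tuples. -/
abbrev Tuples (m r : ℕ) := {w : Fin r → V F m // TI w}

variable {F} [Fintype F]

theorem card_kernel {m r : ℕ} {y : Fin r → V F m} (hy : LinearIndependent F y) :
    Nat.card {w : V F m // ∀ i, B w (y i) = 0} = Fintype.card F ^ (2 * m - r) := by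
  let L : V F m →ₗ[F] (Fin r → F) :=
    { toFun := fun w i => B w (y i)
      map_add' := fun w w' => funext fun i => B_add_left _ _ _
      map_smul' := fun c w => funext fun i => B_smul_left _ _ _ }
  have hsurj : LinearMap.range L = ⊤ := by
    classical
    by_contra hne
    obtain ⟨φ, hφ0, hφ⟩ := Submodule.exists_le_ker_of_lt_top (LinearMap.range L) (lt_top_iff_ne_top.2 hne)
    have hz : ∑ i, φ (Pi.single i 1) • y i = 0 := by
      refine nondeg fun w => ?_
      rw [B_swap]
      have h0 : φ (L w) = 0 := hφ (LinearMap.mem_range_self L w)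
      rw [show L w = ∑ i, B w (y i) • (Pi.single i (1 : F) : Fin r → F) by
        funext j; simp [L, Finset.sum_apply, Pi.single_apply], map_sum] at h0
      rw [B_swap, neg_neg, B_sum_left]
      calc ∑ i, B (φ (Pi.single i 1) • y i) w = ∑ i, -(φ (B w (y i) • Pi.single i 1)) := by
            refine Finset.sum_congr rfl fun i _ => ?_
            rw [B_smul_left, B_swap, map_smul, smul_eq_mul]; ring
        _ = 0 := by rw [Finset.sum_neg_distrib, h0, neg_zero]
    have hz' := Fintype.linearIndependent_iff.1 hy _ hz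
    apply hφ0
    refine LinearMap.pi_ext fun i x => ?_
    rw [show (Pi.single i x : Fin r → F) = x • Pi.single i 1 by funext j; simp [Pi.single_apply],
      map_smul, hz' i, smul_zero, LinearMap.zero_apply]
  have hdim := LinearMap.finrank_range_add_finrank_ker L
  rw [hsurj, finrank_top, Module.finrank_fintype_fun_eq_card, Module.finrank_fintype_fun_eq_card,
    Fintype.card_fin, Fintype.card_sum, Fintype.card_fin] at hdim
  have hker : Nat.card {w : V F m // ∀ i, B w (y i) = 0} = Nat.card (LinearMap.ker L) :=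
    Nat.card_congr (Equiv.subtypeEquivRight fun w => by
      rw [LinearMap.mem_ker]; exact ⟨fun h => funext h, fun h i => congrFun h i⟩)
  rw [hker, Module.natCard_eq_pow_finrank (K := F), Nat.card_eq_fintype_card]
  congr 1
  omega

theorem card_nonzero (m : ℕ) : Nat.card {v : V F m // v ≠ 0} = Fintype.card F ^ (2 * m) - 1 := by
  classical
  rw [Nat.card_eq_fintype_card, Fintype.card_subtype_compl, Fintype.card_subtype_eq, Fintype.card_fun,
    Fintype.card_sum, Fintype.card_fin, two_mul]

theorem pairs_succ (m r : ℕ) : Nat.card (Pairs F (m + 1) (r + 1)) =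
    (Fintype.card F ^ (2 * (m + 1)) - 1) * (Fintype.card F ^ (2 * m + 1) * Nat.card (Pairs F m r)) := by
  classical
  let _ := Fintype.ofFinite (Pairs F m r)
  let Fib : V F (m + 1) → Type _ := fun v => {p : Pairs F (m + 1) (r + 1) // p.1.2 0 = v}
  have h0 : Pairs F (m + 1) (r + 1) ≃ Σ v : {v : V F (m + 1) // v ≠ 0}, Fib v.1 :=
    { toFun := fun p => ⟨⟨p.1.2 0, p.2.2.1.1.ne_zero 0⟩, ⟨p, rfl⟩⟩
      invFun := fun x => x.2.1
      left_inv := fun p => rfl
      right_inv := fun ⟨⟨v, hv⟩, ⟨p, hp⟩⟩ => by dsimp at hp; subst hp; rfl }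
  have h1 : ∀ v : V F (m + 1), v ≠ 0 → Nat.card (Fib v) = Nat.card (Fib (e0 F m)) := by
    intro v hv
    obtain ⟨e, he, hev⟩ := exists_iso hv e0_ne
    have tr : ∀ (e : V F (m + 1) ≃ₗ[F] V F (m + 1)), (∀ x y, B (e x) (e y) = B x y) →
        ∀ p : Pairs F (m + 1) (r + 1), ∃ p' : Pairs F (m + 1) (r + 1),
          p'.1.1.1 = e.conj p.1.1.1 ∧ p'.1.2 = fun i => e (p.1.2 i) := by
      intro e he p
      refine ⟨⟨(⟨e.conj p.1.1.1, fun x y => by
        simp only [LinearEquiv.conj_apply_apply]; rw [he, p.1.1.2, symm_B he]⟩, fun i => e (p.1.2 i)), ?_, ?_, ?_⟩, rfl, rfl⟩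
      · obtain ⟨k, hk⟩ := p.2.1
        refine ⟨k, LinearMap.ext fun x => ?_⟩
        have hkk : ∀ (k : ℕ) x, ((e.conj p.1.1.1 - 1) ^ k) x = e (((p.1.1.1 - 1) ^ k) (e.symm x)) := by
          intro k
          induction k with
          | zero => intro x; simp
          | succ k ih =>
            intro x
            rw [pow_succ', Module.End.mul_apply, pow_succ', Module.End.mul_apply, ih]
            simp [LinearEquiv.conj_apply_apply]
        change ((e.conj p.1.1.1 - 1) ^ k) x = 0
        rw [hkk, hk, LinearMap.zero_apply, map_zero]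
      · exact (TI_map_iff he _).2 p.2.2.1
      · intro i
        simp [LinearEquiv.conj_apply_apply, p.2.2.2 i]
    choose T hT1 hT2 using tr e he
    choose T' hT1' hT2' using tr e.symm (symm_B he)
    refine Nat.card_congr
      { toFun := fun p => ⟨T p.1, by rw [hT2]; exact (congrArg e p.2).trans hev⟩
        invFun := fun p => ⟨T' p.1, by rw [hT2']; exact (congrArg e.symm p.2).trans (e.symm_apply_eq.2 hev.symm)⟩
        left_inv := fun p => ?_
        right_inv := fun p => ?_ }
    · refine Subtype.ext (Subtype.ext (Prod.ext (Subtype.ext (LinearMap.ext fun x => ?_)) (funext fun i => ?_)))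
      · simp [hT1', hT1, LinearEquiv.conj_apply_apply]
      · simp [hT2', hT2]
    · refine Subtype.ext (Subtype.ext (Prod.ext (Subtype.ext (LinearMap.ext fun x => ?_)) (funext fun i => ?_)))
      · simp [hT1', hT1, LinearEquiv.conj_apply_apply]
      · simp [hT2', hT2]
  have hsnd : ∀ p : Fib (e0 F m), ∀ i : Fin r, snd (p.1.1.2 i.succ) = 0 := fun p i => by
    rw [← B_e0]
    have h := p.1.2.2.1.2 0 i.succ
    rwa [p.2] at h
  have hfix : ∀ p : Fib (e0 F m), p.1.1.1.1 (e0 F m) = e0 F m := fun p => by
    have h := p.1.2.2.2 0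
    rwa [p.2] at h
  have hw : ∀ p : Fib (e0 F m), ∀ i : Fin r, p.1.1.2 i.succ = join (fst (p.1.1.2 i.succ)) 0 (rest (p.1.1.2 i.succ)) :=
    fun p i => by conv_lhs => rw [← join_eq (p.1.1.2 i.succ), hsnd p i]
  have hcons : ∀ p : Fib (e0 F m),
      p.1.1.2 = Fin.cons (e0 F m) fun i => join (fst (p.1.1.2 i.succ)) 0 (rest (p.1.1.2 i.succ)) := fun p => by
    funext i
    refine Fin.cases ?_ (fun i => ?_) i
    · simpa using p.2
    · simpa using hw p i
  have hfixi : ∀ p : Fib (e0 F m), ∀ i : Fin r,
      (quotIso p.1.1.1 (hfix p)).1 (rest (p.1.1.2 i.succ)) = rest (p.1.1.2 i.succ) ∧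
        B (rest (p.1.1.1.1 (join 0 1 0))) (rest (p.1.1.2 i.succ)) = 0 := fun p i => by
    refine (build_fix_iff _ _ (fst (p.1.1.1.1 (join 0 1 0))) (fst (p.1.1.2 i.succ)) _).1 ?_
    rw [build_quotIso (hfix p), ← hw p i]
    exact p.1.2.2.2 i.succ
  have hext : ∀ (q q' : Pairs F m r) (x : {w : V F m // ∀ i, B w (q.1.2 i) = 0} × (F × (Fin r → F)))
      (x' : {w : V F m // ∀ i, B w (q'.1.2 i) = 0} × (F × (Fin r → F))), q = q' → x.1.1 = x'.1.1 → x.2 = x'.2 →
      (⟨q, x⟩ : Σ q : Pairs F m r, {w : V F m // ∀ i, B w (q.1.2 i) = 0} × (F × (Fin r → F))) = ⟨q', x'⟩ := by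
    intro q q' x x' hq h1 h2
    subst hq
    rw [Prod.ext (Subtype.ext h1) h2]
  let E : Fib (e0 F m) ≃
      Σ q : Pairs F m r, {w : V F m // ∀ i, B w (q.1.2 i) = 0} × (F × (Fin r → F)) :=
    { toFun := fun p => ⟨⟨(quotIso p.1.1.1 (hfix p), fun i => rest (p.1.1.2 i.succ)),
          (unip_build_iff _ (rest (p.1.1.1.1 (join 0 1 0))) (fst (p.1.1.1.1 (join 0 1 0)))).1
            (by rw [build_quotIso (hfix p)]; exact p.1.2.1),
          (TI_cons_iff (fun i => fst (p.1.1.2 i.succ)) _).1 (hcons p ▸ p.1.2.2.1),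
          fun i => (hfixi p i).1⟩,
        ⟨rest (p.1.1.1.1 (join 0 1 0)), fun i => (hfixi p i).2⟩,
        fst (p.1.1.1.1 (join 0 1 0)), fun i => fst (p.1.1.2 i.succ)⟩
      invFun := fun x => ⟨⟨(build x.1.1.1 x.2.1.1 x.2.2.1, Fin.cons (e0 F m) fun i => join (x.2.2.2 i) 0 (x.1.1.2 i)),
          (unip_build_iff _ _ _).2 x.1.2.1, (TI_cons_iff _ _).2 x.1.2.2.1, by
            intro i
            refine Fin.cases ?_ (fun i => ?_) i
            · simp only [Fin.cons_zero, e0]
              exact (build_fix_iff _ _ _ _ _).2 ⟨map_zero _, B_zero_right _⟩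
            · simp only [Fin.cons_succ]
              exact (build_fix_iff _ _ _ _ _).2 ⟨x.1.2.2.2 i, x.2.1.2 i⟩⟩, rfl⟩
      left_inv := fun p => Subtype.ext (Subtype.ext (Prod.ext (build_quotIso (hfix p)) (hcons p).symm))
      right_inv := fun x => by
        obtain ⟨⟨⟨g, y⟩, hq⟩, ⟨w, hw'⟩, c, a⟩ := x
        have e1 : rest ((build g w c).1 (join 0 1 0)) = w := by
          simp [build_apply, rest_join]
        have e2 : fst ((build g w c).1 (join 0 1 0)) = c := by
          simp [build_apply, B_zero_right]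
        have e3 : ∀ hf, quotIso (build g w c) hf = g := fun hf => Subtype.ext (LinearMap.ext fun x => by
          change rest ((build g w c).1 (join 0 0 x)) = _
          simp [build_apply])
        exact hext _ _ _ _ (Subtype.ext (Prod.ext (e3 (show (build g w c).1 (join 1 0 0) = join 1 0 0 from (build_fix_iff g w c 1 0).2 ⟨map_zero _, B_zero_right _⟩)) (funext fun i => by simp))) e1
          (Prod.ext e2 (funext fun i => by simp)) }
  rw [Nat.card_congr h0, Nat.card_sigma, Finset.sum_congr rfl (fun v _ => h1 v.1 v.2), Finset.sum_const,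
    Finset.card_univ, smul_eq_mul, ← Nat.card_eq_fintype_card, card_nonzero, Nat.card_congr E, Nat.card_sigma]
  congr 1
  rw [Finset.sum_congr rfl (fun q _ => show Nat.card ({w : V F m // ∀ i, B w (q.1.2 i) = 0} × (F × (Fin r → F))) =
    Fintype.card F ^ (2 * m + 1) by
      rw [Nat.card_prod, Nat.card_prod, card_kernel q.2.2.1.1, Nat.card_fun, Nat.card_fin,
        Nat.card_eq_fintype_card (α := F), ← mul_assoc, ← pow_succ, ← pow_add]
      have := TI_le q.2.2.1
      congr 1; omega),
    Finset.sum_const, Finset.card_univ, smul_eq_mul, ← Nat.card_eq_fintype_card, mul_comm]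

theorem tuples_succ (m r : ℕ) : Nat.card (Tuples F (m + 1) (r + 1)) =
    (Fintype.card F ^ (2 * (m + 1)) - 1) * (Fintype.card F ^ r * Nat.card (Tuples F m r)) := by
  classical
  let Fib : V F (m + 1) → Type _ := fun v => {p : Tuples F (m + 1) (r + 1) // p.1 0 = v}
  have h0 : Tuples F (m + 1) (r + 1) ≃ Σ v : {v : V F (m + 1) // v ≠ 0}, Fib v.1 :=
    { toFun := fun p => ⟨⟨p.1 0, p.2.1.ne_zero 0⟩, ⟨p, rfl⟩⟩
      invFun := fun x => x.2.1
      left_inv := fun p => rfl
      right_inv := fun ⟨⟨v, hv⟩, ⟨p, hp⟩⟩ => by dsimp at hp; subst hp; rfl }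
  have h1 : ∀ v : V F (m + 1), v ≠ 0 → Nat.card (Fib v) = Nat.card (Fib (e0 F m)) := by
    intro v hv
    obtain ⟨e, he, hev⟩ := exists_iso hv e0_ne
    refine Nat.card_congr
      { toFun := fun p => ⟨⟨fun i => e (p.1.1 i), (TI_map_iff he _).2 p.1.2⟩, (congrArg e p.2).trans hev⟩
        invFun := fun p => ⟨⟨fun i => e.symm (p.1.1 i), (TI_map_iff (symm_B he) _).2 p.1.2⟩,
          (congrArg e.symm p.2).trans (e.symm_apply_eq.2 hev.symm)⟩
        left_inv := fun p => ?_
        right_inv := fun p => ?_ }
    · exact Subtype.ext (Subtype.ext (funext fun i => e.symm_apply_apply _))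
    · exact Subtype.ext (Subtype.ext (funext fun i => e.apply_symm_apply _))
  have hcons : ∀ p : Fib (e0 F m),
      p.1.1 = Fin.cons (e0 F m) fun i => join (fst (p.1.1 i.succ)) 0 (rest (p.1.1 i.succ)) := fun p => by
    funext i
    refine Fin.cases ?_ (fun i => ?_) i
    · simpa using p.2
    · have h := p.1.2.2 0 i.succ
      rw [p.2, B_e0] at h
      simp only [Fin.cons_succ]
      conv_lhs => rw [← join_eq (p.1.1 i.succ), h]
  let E : Fib (e0 F m) ≃ Tuples F m r × (Fin r → F) :=
    { toFun := fun p => (⟨fun i => rest (p.1.1 i.succ),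
        (TI_cons_iff (fun i => fst (p.1.1 i.succ)) _).1 (hcons p ▸ p.1.2)⟩, fun i => fst (p.1.1 i.succ))
      invFun := fun x => ⟨⟨Fin.cons (e0 F m) fun i => join (x.2 i) 0 (x.1.1 i), (TI_cons_iff _ _).2 x.1.2⟩,
        rfl⟩
      left_inv := fun p => Subtype.ext (Subtype.ext (hcons p).symm)
      right_inv := fun x => by simp }
  rw [Nat.card_congr h0, Nat.card_sigma, Finset.sum_congr rfl (fun v _ => h1 v.1 v.2), Finset.sum_const,
    Finset.card_univ, smul_eq_mul, ← Nat.card_eq_fintype_card, card_nonzero, Nat.card_congr E, Nat.card_prod,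
    Nat.card_fun, Nat.card_fin, Nat.card_eq_fintype_card (α := F), mul_comm (Nat.card _)]

theorem pairs_zero_left (r : ℕ) : Nat.card (Pairs F 0 (r + 1)) = 0 := by
  haveI : IsEmpty (Pairs F 0 (r + 1)) := ⟨fun p => p.2.2.1.1.ne_zero 0 (Subsingleton.elim _ _)⟩
  exact Nat.card_of_isEmpty

theorem tuples_zero_left (r : ℕ) : Nat.card (Tuples F 0 (r + 1)) = 0 := by
  haveI : IsEmpty (Tuples F 0 (r + 1)) := ⟨fun p => p.2.1.ne_zero 0 (Subsingleton.elim _ _)⟩
  exact Nat.card_of_isEmpty

/-- The number of unipotent isometries. -/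
noncomputable def num (F : Type*) [Field F] (m : ℕ) : ℕ := Nat.card {f : Iso F m // Unip f}

theorem pairs_zero_right (m : ℕ) : Nat.card (Pairs F m 0) = num F m := by
  refine Nat.card_congr
    { toFun := fun p => ⟨p.1.1, p.2.1⟩
      invFun := fun f => ⟨(f.1, Fin.elim0), f.2, ⟨linearIndependent_empty_type, fun i => i.elim0⟩, fun i => i.elim0⟩
      left_inv := fun p => Subtype.ext (Prod.ext rfl (funext fun i => i.elim0))
      right_inv := fun f => rfl }

theorem tuples_zero_right (m : ℕ) : Nat.card (Tuples F m 0) = 1 := by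
  haveI : Unique (Tuples F m 0) :=
    { default := ⟨Fin.elim0, linearIndependent_empty_type, fun i => i.elim0⟩
      uniq := fun w => Subtype.ext (funext fun i => i.elim0) }
  exact Nat.card_unique

end Count

section Identity

/-- Gaussian binomial coefficient. -/
noncomputable def gauss (q : ℚ) (m r : ℕ) : ℚ :=
  ∏ i ∈ Finset.range r, (q ^ (m - i) - 1) / (q ^ (i + 1) - 1)

/-- The product `(q^(M) + 1) ⋯ (q^(M-r+1) + 1)`. -/
def plusProd (q : ℚ) (M r : ℕ) : ℚ := ∏ i ∈ Finset.range r, (q ^ (M - i) + 1)

variable {q : ℚ}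

theorem gauss_eq_zero {m r : ℕ} (h : m < r) : gauss q m r = 0 :=
  Finset.prod_eq_zero (Finset.mem_range.2 h) (by simp)

theorem gauss_succ_succ (hq : 1 < q) (m : ℕ) : ∀ r, gauss q (m + 1) (r + 1) =
    gauss q m r * (q ^ (m + 1) - 1) / (q ^ (r + 1) - 1) := by
  intro r
  induction r with
  | zero => simp [gauss]
  | succ r ih =>
    rw [gauss, Finset.prod_range_succ, ← gauss, ih, gauss, gauss, Finset.prod_range_succ _ r,
      show m + 1 - (r + 1) = m - r by omega]
    ring

theorem gauss_succ_right (m r : ℕ) :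
    gauss q m (r + 1) = gauss q m r * ((q ^ (m - r) - 1) / (q ^ (r + 1) - 1)) := by
  rw [gauss, Finset.prod_range_succ, ← gauss]

theorem pascal_one (hq : 1 < q) {m r : ℕ} (hr : r ≤ m) :
    gauss q (m + 1) (r + 1) = gauss q m r + q ^ (r + 1) * gauss q m (r + 1) := by
  have h1 : q ^ (r + 1) - 1 ≠ 0 := (sub_pos.2 (one_lt_pow₀ hq (by omega))).ne'
  rw [gauss_succ_succ hq, gauss_succ_right, show m + 1 = (r + 1) + (m - r) by omega, pow_add]
  field_simp
  ring

theorem pascal_two (hq : 1 < q) {m r : ℕ} (hr : r ≤ m) :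
    gauss q (m + 1) (r + 1) = gauss q m (r + 1) + q ^ (m - r) * gauss q m r := by
  have h1 : q ^ (r + 1) - 1 ≠ 0 := (sub_pos.2 (one_lt_pow₀ hq (by omega))).ne'
  rw [gauss_succ_succ hq, gauss_succ_right, show m + 1 = (r + 1) + (m - r) by omega, pow_add]
  field_simp
  ring

theorem identity_one (hq : 1 < q) : ∀ m a, ∑ r ∈ Finset.range (m + 1),
    (-1) ^ r * gauss q m r * plusProd q (m + a) r * q ^ ((m - r) ^ 2 + a * (m - r)) = (-1) ^ m := by
  intro m
  induction m with
  | zero => intro a; simp [gauss, plusProd]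
  | succ m ih =>
    intro a
    have hX := ih (a + 1)
    rw [Finset.sum_range_succ'] at hX ⊢
    have hsplit : ∀ r ∈ Finset.range (m + 1),
        (-1) ^ (r + 1) * gauss q (m + 1) (r + 1) * plusProd q (m + 1 + a) (r + 1) *
          q ^ ((m + 1 - (r + 1)) ^ 2 + a * (m + 1 - (r + 1))) =
        -(q ^ (m + 1 + a) + 1) * ((-1) ^ r * gauss q m r * plusProd q (m + a) r * q ^ ((m - r) ^ 2 + a * (m - r))) +
          q ^ (m + 1 + a) * ((-1) ^ (r + 1) * gauss q m (r + 1) * plusProd q (m + (a + 1)) (r + 1) *
            q ^ ((m - (r + 1)) ^ 2 + (a + 1) * (m - (r + 1)))) := by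
      intro r hr
      have hr' := Finset.mem_range.1 hr
      have hP : plusProd q (m + 1 + a) (r + 1) = (q ^ (m + 1 + a) + 1) * plusProd q (m + a) r := by
        rw [plusProd, Finset.prod_range_succ', plusProd, mul_comm]
        congr 1
        refine Finset.prod_congr rfl fun i hi => ?_
        rw [show m + 1 + a - (i + 1) = m + a - i by omega]
      rw [pascal_one hq (by omega), show m + (a + 1) = m + 1 + a by omega, show m + 1 - (r + 1) = m - r by omega]
      rcases eq_or_lt_of_le (show r ≤ m by omega) with rfl | hlt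
      · rw [gauss_eq_zero (show r < r + 1 by omega), hP]
        ring
      · obtain ⟨d, hd⟩ : ∃ d, m = r + 1 + d := ⟨m - (r + 1), by omega⟩
        rw [show m - r = d + 1 by omega, show m - (r + 1) = d by omega, hP,
          show q ^ ((d + 1) ^ 2 + a * (d + 1)) = q ^ (d ^ 2 + (a + 1) * d) * q ^ (d + 1 + a) by
            rw [← pow_add]; ring_nf,
          show q ^ (m + 1 + a) = q ^ (r + 1) * q ^ (d + 1 + a) by
            rw [← pow_add]; congr 1; omega]
        ring
    rw [Finset.sum_congr rfl hsplit, Finset.sum_add_distrib, ← Finset.mul_sum, ← Finset.mul_sum, ih a]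
    have h0 : q ^ ((m + 1 - 0) ^ 2 + a * (m + 1 - 0)) = q ^ (m + 1 + a) * q ^ ((m - 0) ^ 2 + (a + 1) * (m - 0)) := by
      rw [← pow_add]; simp only [Nat.sub_zero]; ring_nf
    have hl : ∑ r ∈ Finset.range (m + 1), (-1) ^ (r + 1) * gauss q m (r + 1) * plusProd q (m + (a + 1)) (r + 1) *
        q ^ ((m - (r + 1)) ^ 2 + (a + 1) * (m - (r + 1))) = ∑ r ∈ Finset.range m, (-1) ^ (r + 1) * gauss q m (r + 1) *
          plusProd q (m + (a + 1)) (r + 1) * q ^ ((m - (r + 1)) ^ 2 + (a + 1) * (m - (r + 1))) := by
      rw [Finset.sum_range_succ, gauss_eq_zero (show m < m + 1 by omega)]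
      ring
    rw [hl, h0]
    have h00 : gauss q (m + 1) 0 = 1 ∧ gauss q m 0 = 1 ∧ plusProd q (m + 1 + a) 0 = 1 ∧
        plusProd q (m + (a + 1)) 0 = 1 := by simp [gauss, plusProd]
    obtain ⟨g1, g2, g3, g4⟩ := h00
    rw [g1, g3]
    rw [g2, g4] at hX
    rw [pow_succ (-1 : ℚ) m]
    linear_combination q ^ (m + 1 + a) * hX

theorem choose_two_succ (r : ℕ) : Nat.choose (r + 1) 2 = Nat.choose r 2 + r := by
  rw [Nat.choose_succ_succ, Nat.choose_one_right]; ring

theorem identity_two (hq : 1 < q) : ∀ m a, ∑ r ∈ Finset.range (m + 1),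
    (-1) ^ r * q ^ Nat.choose r 2 * gauss q m r * plusProd q (m + a) r = (-1) ^ m * q ^ (m ^ 2 + a * m) := by
  intro m
  induction m with
  | zero => intro a; simp [gauss, plusProd]
  | succ m ih =>
    intro a
    have hX := ih (a + 1)
    rw [Finset.sum_range_succ'] at hX ⊢
    have hsplit : ∀ r ∈ Finset.range (m + 1),
        (-1) ^ (r + 1) * q ^ Nat.choose (r + 1) 2 * gauss q (m + 1) (r + 1) * plusProd q (m + 1 + a) (r + 1) =
        (-1) ^ (r + 1) * q ^ Nat.choose (r + 1) 2 * gauss q m (r + 1) * plusProd q (m + (a + 1)) (r + 1) +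
          -(q ^ m * (q ^ (m + 1 + a) + 1)) * ((-1) ^ r * q ^ Nat.choose r 2 * gauss q m r * plusProd q (m + a) r) := by
      intro r hr
      have hr' := Finset.mem_range.1 hr
      have hP : plusProd q (m + 1 + a) (r + 1) = (q ^ (m + 1 + a) + 1) * plusProd q (m + a) r := by
        rw [plusProd, Finset.prod_range_succ', plusProd, mul_comm]
        congr 1
        refine Finset.prod_congr rfl fun i hi => ?_
        rw [show m + 1 + a - (i + 1) = m + a - i by omega]
      rw [pascal_two hq (by omega), show m + (a + 1) = m + 1 + a by omega, hP, choose_two_succ, pow_add,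
        show q ^ m = q ^ r * q ^ (m - r) by rw [← pow_add]; congr 1; omega]
      ring
    rw [Finset.sum_congr rfl hsplit, Finset.sum_add_distrib, ← Finset.mul_sum, ih a,
      Finset.sum_range_succ _ m, gauss_eq_zero (show m < m + 1 by omega)]
    have h00 : gauss q (m + 1) 0 = 1 ∧ gauss q m 0 = 1 ∧ plusProd q (m + 1 + a) 0 = 1 ∧
        plusProd q (m + (a + 1)) 0 = 1 := by simp [gauss, plusProd]
    obtain ⟨g1, g2, g3, g4⟩ := h00
    rw [g1, g3]
    rw [g2, g4] at hX
    rw [show q ^ ((m + 1) ^ 2 + a * (m + 1)) = q ^ (m ^ 2 + a * m) * (q ^ m * q ^ (m + 1 + a)) by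
      rw [← pow_add, ← pow_add]; ring_nf,
      show q ^ (m ^ 2 + (a + 1) * m) = q ^ (m ^ 2 + a * m) * q ^ m by rw [← pow_add]; ring_nf] at *
    rw [pow_succ (-1 : ℚ) m]
    linear_combination hX

end Identity

section Alternating

variable {F : Type*} [Field F] [Fintype F] {m : ℕ}

/-- Totally isotropic subspaces inside `W`. -/
abbrev TISub (W : Submodule F (V F m)) :=
  {R : Submodule F (V F m) // R ≤ W ∧ ∀ x ∈ R, ∀ y ∈ R, B x y = 0}

/-- The weight of a dimension. -/
def wt (q : ℚ) (r : ℕ) : ℚ := (-1) ^ r * q ^ Nat.choose r 2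

theorem card_complements {S : Submodule F (V F m)} {z : V F m} (hz : z ∈ S) (hz0 : z ≠ 0) :
    Nat.card {R : Submodule F (V F m) // R ≤ S ∧ z ∉ R ∧ R ⊔ Submodule.span F {z} = S} =
      Fintype.card F ^ (Module.finrank F S - 1) ∧
    ∀ R : Submodule F (V F m), R ≤ S → z ∉ R → R ⊔ Submodule.span F {z} = S →
      Module.finrank F R + 1 = Module.finrank F S := by
  classical
  let z' : S := ⟨z, hz⟩
  have hz' : z' ≠ 0 := fun h => hz0 (congrArg Subtype.val h)
  let ev : Module.Dual F S →ₗ[F] F := LinearMap.applyₗ z'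
  obtain ⟨φ₀, hφ₀⟩ : ∃ φ : Module.Dual F S, φ z' = 1 := Module.Projective.exists_dual_eq_one F hz'
  refine ⟨?_, fun R hR hzR hsup => ?_⟩
  · have hbij : Nat.card {φ : Module.Dual F S // φ z' = 1} =
        Nat.card {R : Submodule F (V F m) // R ≤ S ∧ z ∉ R ∧ R ⊔ Submodule.span F {z} = S} := by
      refine Nat.card_eq_of_bijective (fun φ => ⟨(LinearMap.ker φ.1).map S.subtype, Submodule.map_subtype_le _ _, ?_, ?_⟩) ⟨?_, ?_⟩
      · rintro ⟨x, hx, hxz⟩
        have : x = z' := Subtype.ext hxz
        subst this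
        rw [SetLike.mem_coe, LinearMap.mem_ker, φ.2] at hx
        exact one_ne_zero hx
      · refine le_antisymm (sup_le (Submodule.map_subtype_le _ _) ((Submodule.span_singleton_le_iff_mem _ _).2 hz)) fun x hx => ?_
        refine Submodule.mem_sup.2 ⟨x - φ.1 ⟨x, hx⟩ • z, ⟨⟨x, hx⟩ - φ.1 ⟨x, hx⟩ • z', ?_, rfl⟩,
          φ.1 ⟨x, hx⟩ • z, Submodule.smul_mem _ _ (Submodule.mem_span_singleton_self z), sub_add_cancel _ _⟩
        rw [SetLike.mem_coe, LinearMap.mem_ker, map_sub, map_smul, φ.2, smul_eq_mul, mul_one, sub_self]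
      · intro φ ψ h
        have h' := Submodule.map_injective_of_injective S.injective_subtype (congrArg Subtype.val h)
        refine Subtype.ext (LinearMap.ext fun x => ?_)
        have hx : x - φ.1 x • z' ∈ LinearMap.ker φ.1 := by simp [LinearMap.mem_ker, φ.2]
        rw [h', LinearMap.mem_ker, map_sub, map_smul, ψ.2, smul_eq_mul, mul_one, sub_eq_zero] at hx
        exact hx.symm
      · rintro ⟨R, hR, hzR, hsup⟩
        let R' : Submodule F S := R.comap S.subtype
        have hc : IsCompl (Submodule.span F {z'}) R' := by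
          refine ⟨Submodule.disjoint_def.2 fun x hx hx' => ?_, codisjoint_iff.2 ((Submodule.eq_top_iff').2 fun x => ?_)⟩
          · obtain ⟨c, rfl⟩ := Submodule.mem_span_singleton.1 hx
            by_contra hne
            have hc0 : c ≠ 0 := fun h => hne (by simp [h])
            have : c • z ∈ R := hx'
            exact hzR ((Submodule.smul_mem_iff R hc0).1 this)
          · have hx : (x : V F m) ∈ R ⊔ Submodule.span F {z} := hsup.symm ▸ x.2
            obtain ⟨r, hr, s, hs, hrs⟩ := Submodule.mem_sup.1 hx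
            obtain ⟨c, rfl⟩ := Submodule.mem_span_singleton.1 hs
            exact Submodule.mem_sup.2 ⟨c • z', Submodule.smul_mem _ _ (Submodule.mem_span_singleton_self z'), ⟨r, hR hr⟩, hr,
              Subtype.ext (by rw [← hrs]; exact add_comm _ _)⟩
        let φ : Module.Dual F S :=
          (LinearEquiv.coord F S z' hz' : _ ≃ₗ[F] F).toLinearMap.comp (Submodule.projectionOnto _ _ hc)
        have hφ1 : φ z' = 1 := by
          simp only [φ, LinearMap.comp_apply]
          have := Submodule.projectionOnto_apply_left hc ⟨z', Submodule.mem_span_singleton_self z'⟩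
          simp only at this
          rw [this]
          exact LinearEquiv.coord_self F S z' hz'
        refine ⟨⟨φ, hφ1⟩, Subtype.ext ?_⟩
        have hker : LinearMap.ker φ = R' := by
          rw [LinearMap.ker_comp_of_ker_eq_bot _ (LinearEquiv.ker _), Submodule.ker_projectionOnto]
        change (LinearMap.ker φ).map S.subtype = R
        rw [hker, Submodule.map_comap_subtype, inf_eq_right.2 hR]
    rw [← hbij, show Nat.card {φ : Module.Dual F S // φ z' = 1} = Nat.card (LinearMap.ker ev) from Nat.card_congr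
      { toFun := fun φ => ⟨φ.1 - φ₀, by simp [ev, LinearMap.mem_ker, φ.2, hφ₀]⟩
        invFun := fun ψ => ⟨ψ.1 + φ₀, by
          have h : ev ψ.1 = 0 := ψ.2
          simp only [ev, LinearMap.applyₗ_apply_apply] at h
          simp [h, hφ₀]⟩
        left_inv := fun φ => Subtype.ext (sub_add_cancel _ _)
        right_inv := fun ψ => Subtype.ext (add_sub_cancel_right _ _) },
      Module.natCard_eq_pow_finrank (K := F), Nat.card_eq_fintype_card]
    congr 1
    have hd := LinearMap.finrank_range_add_finrank_ker ev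
    have hr : LinearMap.range ev = ⊤ := LinearMap.range_eq_top.2 fun c => ⟨c • φ₀, by simp [ev, hφ₀]⟩
    rw [hr, finrank_top, Module.finrank_self, Subspace.dual_finrank_eq] at hd
    omega
  · have h := Submodule.finrank_sup_add_finrank_inf_eq R (Submodule.span F {z})
    rw [hsup, finrank_span_singleton hz0, show R ⊓ Submodule.span F {z} = ⊥ by
      rw [← disjoint_iff, Submodule.disjoint_span_singleton' hz0]
      exact hzR, finrank_bot, add_zero] at h
    exact h.symm

/-- The alternating sum vanishes in the presence of a radical vector. -/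
theorem sum_wt_eq_zero (W : Submodule F (V F m)) {z : V F m} (hzW : z ∈ W) (hz0 : z ≠ 0)
    (hrad : ∀ x ∈ W, B z x = 0) [Fintype (TISub W)] :
    ∑ R : TISub W, wt (Fintype.card F) (Module.finrank F R.1) = 0 := by
  classical
  rw [← Finset.sum_fiberwise_of_maps_to (t := Finset.univ.image fun R : TISub W => R.1 ⊔ Submodule.span F {z})
    (g := fun R : TISub W => R.1 ⊔ Submodule.span F {z}) (fun R _ => Finset.mem_image_of_mem _ (Finset.mem_univ R))]
  refine Finset.sum_eq_zero fun S hS => ?_
  obtain ⟨R₀, -, rfl⟩ := Finset.mem_image.1 hS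
  set S := R₀.1 ⊔ Submodule.span F {z} with hSdef
  have hzS : z ∈ S := Submodule.mem_sup_right (Submodule.mem_span_singleton_self z)
  have hSW : S ≤ W := sup_le R₀.2.1 ((Submodule.span_singleton_le_iff_mem _ _).2 hzW)
  have hSB : ∀ x ∈ S, ∀ y ∈ S, B x y = 0 := by
    intro x hx y hy
    obtain ⟨r, hr, s, hs, rfl⟩ := Submodule.mem_sup.1 hx
    obtain ⟨r', hr', s', hs', rfl⟩ := Submodule.mem_sup.1 hy
    obtain ⟨c, rfl⟩ := Submodule.mem_span_singleton.1 hs
    obtain ⟨c', rfl⟩ := Submodule.mem_span_singleton.1 hs'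
    rw [B_add_left, B_add_right, B_add_right, R₀.2.2 r hr r' hr', B_smul_left, B_smul_left, B_smul_right,
      B_smul_right, hrad r' (R₀.2.1 hr'), B_self, B_swap r z, hrad r (R₀.2.1 hr)]
    ring
  obtain ⟨hcard, hdim⟩ := card_complements hzS hz0
  set A := (Finset.univ : Finset (TISub W)).filter (fun R => R.1 ⊔ Submodule.span F {z} = S)
  have hmem : (⟨S, hSW, hSB⟩ : TISub W) ∈ A := by
    simp [A, sup_eq_left.2 ((Submodule.span_singleton_le_iff_mem _ _).2 hzS)]
  rw [← Finset.add_sum_erase A _ hmem]
  have hA : ∀ R ∈ A.erase ⟨S, hSW, hSB⟩, R.1 ≤ S ∧ z ∉ R.1 ∧ R.1 ⊔ Submodule.span F {z} = S := by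
    intro R hR
    obtain ⟨hne, hR⟩ := Finset.mem_erase.1 hR
    have hR' := (Finset.mem_filter.1 hR).2
    refine ⟨hR' ▸ le_sup_left, fun hz => hne (Subtype.ext ?_), hR'⟩
    exact (sup_eq_left.2 ((Submodule.span_singleton_le_iff_mem _ _).2 hz)).symm.trans hR'
  have hs1 : 1 ≤ Module.finrank F S := Submodule.one_le_finrank_iff.2 (fun h => hz0 (by simpa [h] using hzS))
  have hcnt : (A.erase ⟨S, hSW, hSB⟩).card = Fintype.card F ^ (Module.finrank F S - 1) := by
    rw [← hcard, ← Nat.card_eq_finsetCard]
    refine Nat.card_congr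
      { toFun := fun R => ⟨R.1.1, hA R.1 R.2⟩
        invFun := fun R => ⟨⟨R.1, R.2.1.trans hSW, fun x hx y hy => hSB x (R.2.1 hx) y (R.2.1 hy)⟩,
          Finset.mem_erase.2 ⟨fun h => R.2.2.1 ((congrArg Subtype.val h : R.1 = S).symm ▸ hzS),
            Finset.mem_filter.2 ⟨Finset.mem_univ _, R.2.2.2⟩⟩⟩
        left_inv := fun R => rfl
        right_inv := fun R => rfl }
  rw [Finset.sum_congr rfl (fun R hR => by
    rw [show Module.finrank F R.1 = Module.finrank F S - 1 by
      have := hdim _ (hA R hR).1 (hA R hR).2.1 (hA R hR).2.2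
      omega]), Finset.sum_const, hcnt]
  obtain ⟨d, hd⟩ : ∃ d, Module.finrank F S = d + 1 := ⟨Module.finrank F S - 1, by omega⟩
  change wt _ (Module.finrank F S) + _ = 0
  rw [hd, Nat.add_sub_cancel, wt, wt, choose_two_succ, nsmul_eq_mul]
  push_cast
  ring

end Alternating

end Cfsg.Agent.Lib.KnownSimple.SpCount
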